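import Cfsg.Statements.S3866
import Cfsg.Agent.H1.Basic

set_option autoImplicit false
open Cfsg

namespace Cfsg.Agent.S3866

open scoped commutatorElement Pointwise

/-- Let A be a commutative normal subgroup of the finite group G with G generated by A and an element x. Then a ↦ x a x⁻¹ a⁻¹ is a surjective homomorphism from A onto the commutator subgroup of G whose kernel is the centralizer of x in A; in particular the commutator subgroup has order equal to the index in A of that centralizer. -/
theorem result {G : Type*} [Group G] [Finite G] (A : Subgroup G) [A.Normal] (hA : IsMulCommutative A) (x : G) (hgen : A ⊔ Subgroup.zpowers x = ⊤) : (∀ a ∈ A, x * a * x⁻¹ * a⁻¹ ∈ commutator G) ∧ (∀ c ∈ commutator G, ∃ a ∈ A, x * a * x⁻¹ * a⁻¹ = c) ∧ (∀ a ∈ A, ∀ b ∈ A, x * (a * b) * x⁻¹ * (a * b)⁻¹ = (x * a * x⁻¹ * a⁻¹) * (x * b * x⁻¹ * b⁻¹)) ∧ Nat.card (commutator G) * Nat.card ↥(A ⊓ Subgroup.centralizer ({x} : Set G)) = Nat.card A := by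
  have hAn : A.Normal := inferInstance
  have hab : ∀ a ∈ A, ∀ b ∈ A, a * b = b * a := fun a ha b hb => 
    congrArg (fun z : A => (z : G)) (hA.is_comm.comm ⟨a, ha⟩ ⟨b, hb⟩)
  have hmul : ∀ a ∈ A, ∀ b ∈ A, x * (a * b) * x⁻¹ * (a * b)⁻¹ = (x * a * x⁻¹ * a⁻¹) * (x * b * x⁻¹ * b⁻¹) := by
    intro a ha b hb
    have h1 : x * b * x⁻¹ * b⁻¹ ∈ A := A.mul_mem (hAn.conj_mem b hb x) (A.inv_mem hb)
    have h2 := hab _ h1 _ (A.inv_mem ha)
    calc x * (a * b) * x⁻¹ * (a * b)⁻¹ = (x * a * x⁻¹) * ((x * b * x⁻¹ * b⁻¹) * a⁻¹) := by group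
      _ = _ := by rw [h2]; group
  let f : A →* G := 
    { toFun := fun a => x * a * x⁻¹ * (a : G)⁻¹
      map_one' := by simp
      map_mul' := fun a b => hmul a a.2 b b.2 }
  have hf : ∀ a : A, f a = x * a * x⁻¹ * (a : G)⁻¹ := fun _ => rfl
  have hfA : ∀ a : A, f a ∈ A := fun a => A.mul_mem (hAn.conj_mem a a.2 x) (A.inv_mem a.2)
  have hle : ∀ a ∈ A, x * a * x⁻¹ * a⁻¹ ∈ commutator G := by
    intro a ha
    exact Subgroup.commutator_mem_commutator (Subgroup.mem_top x) (Subgroup.mem_top a)
  have hRn : f.range.Normal := by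
    rw [← Subgroup.normalizer_eq_top_iff, ← top_le_iff, ← hgen]
    apply sup_le
    · rw [CfsgH1.le_normalizer_iff_conj]
      rintro a ha _ ⟨b, rfl⟩
      rw [hab a ha _ (hfA b), mul_inv_cancel_right]
      exact ⟨b, rfl⟩
    · rw [Subgroup.zpowers_le]
      apply Subgroup.mem_normalizer_fintype
      rintro _ ⟨b, rfl⟩
      refine ⟨⟨x * b * x⁻¹, hAn.conj_mem b b.2 x⟩, ?_⟩
      rw [hf, hf]
      simp only
      group
  have hcomm : commutator G ≤ f.range := by
    have h1 : ∀ g : G, QuotientGroup.mk' f.range g ∈ Subgroup.centralizer ((⊤ : Subgroup (G ⧸ f.range)) : Set (G ⧸ f.range)) := by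
      intro g
      have hxq : ∀ a ∈ A, QuotientGroup.mk' f.range x * QuotientGroup.mk' f.range a = QuotientGroup.mk' f.range a * QuotientGroup.mk' f.range x := by
        intro a ha
        rw [← map_mul, ← map_mul]
        change ((x * a : G) : G ⧸ f.range) = ((a * x : G) : G ⧸ f.range)
        rw [QuotientGroup.eq]
        refine ⟨⟨x⁻¹ * a⁻¹ * x, by simpa using hAn.conj_mem _ (A.inv_mem ha) x⁻¹⟩, ?_⟩
        rw [hf]
        simp only
        group
      have hcom : ∀ g h : G, g ∈ (A : Set G) ∪ {x} → h ∈ (A : Set G) ∪ {x} → QuotientGroup.mk' f.range g * QuotientGroup.mk' f.range h = QuotientGroup.mk' f.range h * QuotientGroup.mk' f.range g := by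
        rintro g h (hg | hg) (hh | hh)
        · rw [← map_mul, hab g hg h hh, map_mul]
        · rw [Set.mem_singleton_iff.1 hh]; exact (hxq g hg).symm
        · rw [Set.mem_singleton_iff.1 hg]; exact hxq h hh
        · rw [Set.mem_singleton_iff.1 hg, Set.mem_singleton_iff.1 hh]
      have hcl : Subgroup.closure ((A : Set G) ∪ {x}) = ⊤ := by
        rw [Subgroup.closure_union, Subgroup.closure_eq, ← Subgroup.zpowers_eq_closure, hgen]
      have hstep : ∀ h : G, h ∈ (A : Set G) ∪ {x} → ∀ g : G, QuotientGroup.mk' f.range g * QuotientGroup.mk' f.range h = QuotientGroup.mk' f.range h * QuotientGroup.mk' f.range g := by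
        intro h hh g
        have hg : g ∈ Subgroup.closure ((A : Set G) ∪ {x}) := by rw [hcl]; exact Subgroup.mem_top g
        induction hg using Subgroup.closure_induction with
        | mem y hy => exact hcom y h hy hh
        | one => simp
        | mul a b _ _ ha hb => rw [map_mul, mul_assoc, hb, ← mul_assoc, ha, mul_assoc]
        | inv a _ ha => 
          rw [map_inv]
          rw [inv_mul_eq_iff_eq_mul, ← mul_assoc, ha, mul_inv_cancel_right]
      rw [Subgroup.mem_centralizer_iff]
      intro y _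
      obtain ⟨h, rfl⟩ := QuotientGroup.mk'_surjective f.range y
      have hh : h ∈ Subgroup.closure ((A : Set G) ∪ {x}) := by rw [hcl]; exact Subgroup.mem_top h
      induction hh using Subgroup.closure_induction with
      | mem y hy => exact (hstep y hy g).symm
      | one => simp
      | mul a b _ _ ha hb => 
        have ha := ha (Subgroup.mem_top _)
        have hb := hb (Subgroup.mem_top _)
        rw [map_mul, mul_assoc, hb, ← mul_assoc, ha, mul_assoc]
      | inv a _ ha => 
        have ha := ha (Subgroup.mem_top _)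
        rw [map_inv]
        rw [inv_mul_eq_iff_eq_mul, ← mul_assoc, ha, mul_inv_cancel_right]
    rw [commutator_def, Subgroup.commutator_le]
    intro g _ h _
    rw [← QuotientGroup.ker_mk' f.range, MonoidHom.mem_ker, map_commutatorElement, commutatorElement_eq_one_iff_mul_comm]
    exact ((Subgroup.mem_centralizer_iff.1 (h1 g)) _ (Subgroup.mem_top _)).symm
  refine ⟨hle, ?_, hmul, ?_⟩
  · intro c hc
    obtain ⟨a, ha⟩ := hcomm hc
    exact ⟨a, a.2, ha⟩
  · have heq : commutator G = f.range := by
      apply le_antisymm hcomm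
      rintro _ ⟨a, rfl⟩
      exact hle a a.2
    have h1 : Nat.card f.range * Nat.card f.ker = Nat.card A := by
      rw [← Nat.card_congr (QuotientGroup.quotientKerEquivRange f).toEquiv]
      exact (Subgroup.card_eq_card_quotient_mul_card_subgroup f.ker).symm
    have h2 : Nat.card f.ker = Nat.card ↥(A ⊓ Subgroup.centralizer ({x} : Set G)) := by
      rw [← Subgroup.card_map_of_injective (K := f.ker) A.subtype_injective]
      have h3 : f.ker.map A.subtype = A ⊓ Subgroup.centralizer ({x} : Set G) := by
        ext y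
        constructor
        · rintro ⟨a, ha, rfl⟩
          refine ⟨a.2, ?_⟩
          refine Subgroup.mem_centralizer_iff.2 ?_
          intro z hz
          rw [Set.mem_singleton_iff.1 hz]
          have h4 : x * a * x⁻¹ * (a : G)⁻¹ = 1 := ha
          rw [mul_inv_eq_one, mul_inv_eq_iff_eq_mul] at h4
          exact h4
        · rintro ⟨hy, hyc⟩
          refine ⟨⟨y, hy⟩, ?_, rfl⟩
          have h4 := (Subgroup.mem_centralizer_iff.1 hyc) x rfl
          change x * y * x⁻¹ * y⁻¹ = 1
          rw [mul_inv_eq_one, mul_inv_eq_iff_eq_mul]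
          exact h4
      rw [h3]
    rw [heq, ← h2]
    exact h1

end Cfsg.Agent.S3866
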