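import Cfsg.Statements.S0558
import Cfsg.Agent.H1.PiComp
import Cfsg.Agent.H1.CoprimeSylow
import Cfsg.Agent.H1.Syl

set_option autoImplicit false
open Cfsg

namespace Cfsg.Agent.S0558

open scoped commutatorElement Pointwise

/-- Let H be a subgroup of a finite group G that is not a Sylow subgroup of G for any prime, and suppose that for every prime p dividing the order of H and every Sylow p-subgroup P of H the normalizer of P in G is exactly H. Then some normal subgroup of G is a complement to H. -/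
theorem result {G : Type*} [Group G] [Finite G] (H : Subgroup G) (hnot : ∀ p : ℕ, p.Prime → ∀ P : Sylow p G, (P : Subgroup G) ≠ H) (hnorm : ∀ p : ℕ, p.Prime → p ∣ Nat.card H → ∀ P : Sylow p H, Subgroup.normalizer (((P : Subgroup H).map H.subtype : Subgroup G) : Set G) = H) : ∃ N : Subgroup G, N.Normal ∧ Subgroup.IsComplement' N H := by
  -- Sylow subgroups of H are Sylow in G
  have hsyl : ∀ p : ℕ, p.Prime → p ∣ Nat.card H → ∀ Q : Subgroup G, CfsgH1.IsSylowOf p Q H → 
      CfsgH1.IsSylowOf p Q ⊤ ∧ Subgroup.normalizer (Q : Set G) = H := by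
    intro p hp hpd Q hQ
    haveI : Fact p.Prime := ⟨hp⟩
    obtain ⟨P, rfl⟩ := hQ
    have h1 := hnorm p hp hpd P
    refine ⟨CfsgH1.isSylowOf_of_normalizer le_top (P.2.map _) ?_, h1⟩
    rw [top_inf_eq, h1]
    exact ⟨P, rfl⟩
  have hnil : Group.IsNilpotent H := by
    rw [CfsgH1.isNilpotent_iff_sylow]
    intro p hp Q hQ
    by_cases hpd : p ∣ Nat.card H
    · rw [(hsyl p hp hpd Q hQ).2]
    · haveI : Fact p.Prime := ⟨hp⟩
      have : Q = ⊥ := by
        apply Subgroup.card_eq_one.1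
        obtain ⟨k, hk⟩ := IsPGroup.iff_card.1 (CfsgH1.isSylowOf_isPGroup hQ)
        have h1 : Nat.card Q ∣ Nat.card H := Subgroup.card_dvd_of_le (CfsgH1.isSylowOf_le hQ)
        rcases Nat.eq_zero_or_pos k with h2 | h2
        · rw [hk, h2, pow_zero]
        · rw [hk] at h1
          exact absurd ((dvd_pow_self p h2.ne').trans h1) hpd
      rw [this]
      exact CfsgH1.le_normalizer_of_normal _ _
  have htwo : ∀ p : ℕ, p.Prime → p ∣ Nat.card H → ∃ q : ℕ, q.Prime ∧ q ≠ p ∧ q ∣ Nat.card H := by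
    intro p hp hpd
    haveI : Fact p.Prime := ⟨hp⟩
    by_contra hcon
    push Not at hcon
    have hHp : IsPGroup p H := by
      rw [IsPGroup.iff_card]
      exact ⟨_, Nat.eq_prime_pow_of_unique_prime_dvd Nat.card_pos.ne' (fun {q} hq hqd => by
        by_contra hne
        exact hcon q hq hne hqd)⟩
    obtain ⟨Q, hQ⟩ := CfsgH1.exists_isSylowOf p H
    have h1 : Q = H := by
      obtain ⟨hle, -, hnd⟩ := CfsgH1.isSylowOf_iff.1 hQ
      apply le_antisymm hle
      rw [← Subgroup.relIndex_eq_one]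
      obtain ⟨k, hk⟩ := IsPGroup.iff_card.1 hHp
      have h2 : Q.relIndex H ∣ p ^ k := by rw [← hk]; exact Subgroup.relIndex_dvd_card _ _
      obtain ⟨j, -, hj⟩ := (Nat.dvd_prime_pow hp).1 h2
      rcases Nat.eq_zero_or_pos j with h3 | h3
      · rw [hj, h3, pow_zero]
      · exact absurd (hj ▸ dvd_pow_self p h3.ne') hnd
    obtain ⟨h2, -⟩ := hsyl p hp hpd Q hQ
    obtain ⟨P, hP⟩ := CfsgH1.isSylowOf_top_iff.1 h2
    exact hnot p hp P (hP.trans h1)
  have hnpc : ∀ p : ℕ, p.Prime → p ∣ Nat.card H → CfsgH3.HasNPC p G := by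
    intro p hp hpd
    haveI : Fact p.Prime := ⟨hp⟩
    obtain ⟨Q0, hQ0⟩ := CfsgH1.exists_isSylowOf p H
    obtain ⟨hQ0t, -⟩ := hsyl p hp hpd Q0 hQ0
    obtain ⟨P, hP⟩ := CfsgH1.isSylowOf_top_iff.1 hQ0t
    have hPH : (P : Subgroup G) ≤ H := hP ▸ CfsgH1.isSylowOf_le hQ0
    apply CfsgH3.hasNPC_of_controls P
    intro x hx g hg
    obtain ⟨q, hq, hqp, hqd⟩ := htwo p hp hpd
    haveI : Fact q.Prime := ⟨hq⟩
    obtain ⟨Q, hQ⟩ := CfsgH1.exists_isSylowOf q H
    obtain ⟨hQt, hQN⟩ := hsyl q hq hqd Q hQ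
    -- Q centralizes P
    have hQP : ∀ a ∈ Q, ∀ b ∈ (P : Subgroup G), b * a = a * b := by
      intro a ha b hb
      obtain ⟨i, hi⟩ := IsPGroup.iff_orderOf.1 (CfsgH1.isSylowOf_isPGroup hQ) ⟨a, ha⟩
      obtain ⟨j, hj⟩ := IsPGroup.iff_orderOf.1 P.2 ⟨b, hb⟩
      rw [Subgroup.orderOf_mk] at hi hj
      haveI := hnil
      exact CfsgH3.commute_of_nilpotent_mem (H := H) (hPH hb) (CfsgH1.isSylowOf_le hQ ha) (a := p ^ j) (b := q ^ i)
        (by rw [← hj, pow_orderOf_eq_one]) (by rw [← hi, pow_orderOf_eq_one]) 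
        (Nat.Coprime.pow _ _ ((Nat.coprime_primes hp hq).2 (Ne.symm hqp)))
    set y := g * x * g⁻¹ with hy
    have hyP : y ∈ (P : Subgroup G) := hg
    have hQC : Q ≤ Subgroup.centralizer ({y} : Set G) := by
      intro a ha
      rw [Subgroup.mem_centralizer_iff]
      rintro _ rfl
      exact hQP a ha y hyP
    have hQgC : MulAut.conj g • Q ≤ Subgroup.centralizer ({y} : Set G) := by
      intro a ha
      rw [CfsgH1.mem_conj_smul] at ha
      rw [Subgroup.mem_centralizer_iff]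
      rintro _ rfl
      have h1 := hQP _ ha x hx
      rw [hy]
      have e1 : g * x * g⁻¹ * a = g * (x * (g⁻¹ * a * g)) * g⁻¹ := by group
      have e2 : a * (g * x * g⁻¹) = g * ((g⁻¹ * a * g) * x) * g⁻¹ := by group
      rw [e1, e2, h1]
    have hs1 : CfsgH1.IsSylowOf q Q (Subgroup.centralizer ({y} : Set G)) := CfsgH1.isSylowOf_of_le hQt hQC le_top
    have hs2 : CfsgH1.IsSylowOf q (MulAut.conj g • Q) (Subgroup.centralizer ({y} : Set G)) := by
      refine CfsgH1.isSylowOf_of_le (CfsgH1.isSylowOf_conj hQt (g := g) ?_) hQgC le_top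
      rw [Subgroup.normalizer_eq_top]; trivial
    obtain ⟨c, hc, hce⟩ := CfsgH1.isSylowOf_conj_trans hs2 hs1
    have hcg : c * g ∈ H := by
      rw [← hQN, ← CfsgH1.conj_smul_eq_self_iff, map_mul, mul_smul, hce]
    obtain ⟨u, hu, v, hv, huv⟩ := CfsgH1.nilpotent_eq_sylow_mul_centralizer hnil hQ0 hcg
    refine ⟨u, by rw [← hP] at hu; exact hu, ?_⟩
    have h1 : v * x * v⁻¹ = x := by
      have h2 := Subgroup.mem_centralizer_iff.1 hv.2 x (by rw [← hP]; exact hx)
      rw [← h2, mul_inv_cancel_right]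
    have h3 : c * y * c⁻¹ = y := by
      have h2 := Subgroup.mem_centralizer_iff.1 hc y rfl
      rw [← h2, mul_inv_cancel_right]
    calc u * x * u⁻¹ = u * (v * x * v⁻¹) * u⁻¹ := by rw [h1]
      _ = (u * v) * x * (u * v)⁻¹ := by group
      _ = (c * g) * x * (c * g)⁻¹ := by rw [huv]
      _ = c * y * c⁻¹ := by rw [hy]; group
      _ = y := h3
  refine CfsgH1.exists_pi_complement H ?_ hnpc
  intro p hp hpd hpH
  haveI : Fact p.Prime := ⟨hp⟩
  obtain ⟨Q, hQ⟩ := CfsgH1.exists_isSylowOf p H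
  obtain ⟨hQt, -⟩ := hsyl p hp hpH Q hQ
  obtain ⟨-, -, hnd⟩ := CfsgH1.isSylowOf_iff.1 hQt
  rw [Subgroup.relIndex_top_right] at hnd
  exact hnd (hpd.trans (Subgroup.index_dvd_of_le (CfsgH1.isSylowOf_le hQ)))

end Cfsg.Agent.S0558
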