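import Cfsg.Statements.S0581
import Cfsg.Agent.H1.MinNon
import Cfsg.Agent.H1.PiComp

set_option autoImplicit false
open Pointwise
open Cfsg

namespace Cfsg.Agent.S0581

open scoped commutatorElement Pointwise

theorem main (n : ℕ) : ∀ {G : Type*} [Group G] [Finite G] (H K : Subgroup G) (_ : Nat.card K = n) (_ : Group.IsNilpotent H) 
    (_ : (Nat.card H).Coprime H.index) (_ : ∀ p : ℕ, p.Prime → p ∣ Nat.card K → p ∣ Nat.card H), ∃ x : G, K ≤ MulAut.conj x • H := by
  induction n using Nat.strong_induction_on with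
  | _ n IH =>
  intro G _ _ H K hn hH hHall hK
  by_cases hKb : K = ⊥
  · exact ⟨1, hKb ▸ bot_le⟩
  -- proper subgroups of K are nilpotent
  have hsub : ∀ L : Subgroup G, L ≤ K → L ≠ K → ∃ x : G, L ≤ MulAut.conj x • H := by
    intro L hL hne
    refine IH (Nat.card L) (hn ▸ CfsgH1.card_lt_card_of_lt (lt_of_le_of_ne hL hne)) H L rfl hH hHall ?_
    intro p hp hpd
    exact hK p hp (hpd.trans (Subgroup.card_dvd_of_le hL))
  have hnilconj : ∀ x : G, Group.IsNilpotent (MulAut.conj x • H : Subgroup G) := by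
    intro x
    exact CfsgH1.isNilpotent_map (MulAut.conj x).toMonoidHom hH
  have hKs : Group.IsSolvable K := by
    refine CfsgH1.schmidt_solvable _ K rfl ?_
    intro M hM
    obtain ⟨x, hx⟩ := hsub (M.map K.subtype) (Subgroup.map_subtype_le _) (by
      intro h
      apply hM.1
      rw [eq_top_iff]
      intro y _
      have : (y : G) ∈ M.map K.subtype := by rw [h]; exact y.2
      obtain ⟨z, hz, hzy⟩ := this
      have : z = y := Subtype.ext hzy
      rwa [this] at hz)
    have h1 := CfsgH1.isNilpotent_of_le (hnilconj x) hx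
    exact Group.isNilpotent_congr (M.equivMapOfInjective K.subtype K.subtype_injective) |>.2 h1
  obtain ⟨M, hMK, hMn, hMp⟩ := CfsgH1.exists_normal_prime_relIndex hKb hKs
  set q := M.relIndex K with hq
  haveI : Fact q.Prime := ⟨hMp⟩
  have hMne : M ≠ K := by
    rintro rfl
    rw [Subgroup.relIndex_self] at hq
    exact hMp.ne_one hq
  obtain ⟨x, hx⟩ := hsub M hMK hMne
  -- replace H by its conjugate
  suffices hgoal : ∃ y : G, K ≤ MulAut.conj y • (MulAut.conj x • H : Subgroup G) by
    obtain ⟨y, hy⟩ := hgoal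
    exact ⟨y * x, by rw [map_mul, mul_smul]; exact hy⟩
  have hH' := hnilconj x
  have hcard : Nat.card (MulAut.conj x • H : Subgroup G) = Nat.card H := CfsgH1.card_conj_smul x H
  have hindex : (MulAut.conj x • H : Subgroup G).index = H.index := by
    have e1 := Subgroup.card_mul_index (MulAut.conj x • H : Subgroup G)
    have e2 := Subgroup.card_mul_index H
    rw [hcard] at e1
    exact Nat.eq_of_mul_eq_mul_left Nat.card_pos (e1.trans e2.symm)
  set H' : Subgroup G := MulAut.conj x • H with hH'def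
  -- Sylow q-subgroup of H'
  obtain ⟨Q, hQ⟩ := CfsgH1.exists_isSylowOf q H'
  have hqH : q ∣ Nat.card H := by
    apply hK q hMp
    have : q ∣ Nat.card K := by rw [hq]; exact Subgroup.relIndex_dvd_card _ _
    exact this
  have hQtop : CfsgH1.IsSylowOf q Q ⊤ := by
    obtain ⟨h1, h2, h3⟩ := CfsgH1.isSylowOf_iff.1 hQ
    rw [CfsgH1.isSylowOf_iff]
    refine ⟨le_top, h2, ?_⟩
    rw [Subgroup.relIndex_top_right, ← Subgroup.relIndex_mul_index h1]
    intro h4
    rcases hMp.dvd_mul.1 h4 with h5 | h5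
    · exact h3 h5
    · rw [hindex] at h5
      exact hMp.one_lt.ne' (Nat.eq_one_of_dvd_coprimes hHall hqH h5)
  -- R = q'-part of M : take the centralizer-type decomposition
  obtain ⟨S, hS⟩ := CfsgH1.exists_isSylowOf q K
  -- elements of M of order prime to q
  have hMnil : Group.IsNilpotent M := CfsgH1.isNilpotent_of_le hH' hx
  -- normal q-complement of M
  obtain ⟨R', hR'n, hR'c, k, hR'i⟩ : CfsgH3.HasNPC q M := by
    haveI := hMnil
    exact CfsgH3.hasNPC_of_isNilpotent
  set R := R'.map M.subtype with hR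
  have hRM : R ≤ M := Subgroup.map_subtype_le _
  have hRcard : Nat.card R = Nat.card R' := (Nat.card_congr (R'.equivMapOfInjective M.subtype M.subtype_injective).toEquiv).symm
  have hRrel : R.relIndex M = q ^ k := by
    rw [← hR'i, hR, Subgroup.relIndex, Subgroup.subgroupOf, Subgroup.comap_map_eq_self_of_injective M.subtype_injective]
  -- characterization: element of M with order prime to q lies in R
  have hRmem : ∀ y ∈ M, (orderOf y).Coprime q → y ∈ R := by
    intro y hy hyo
    have h1 : (⟨y, hy⟩ : M) ∈ R' := by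
      rw [← QuotientGroup.eq_one_iff, ← orderOf_eq_one_iff]
      have h2 : orderOf ((⟨y, hy⟩ : M) : M ⧸ R') ∣ q ^ k := by
        rw [← hR'i, Subgroup.index_eq_card]; exact orderOf_dvd_natCard _
      have h3 : orderOf ((⟨y, hy⟩ : M) : M ⧸ R') ∣ orderOf y := by
        have := orderOf_map_dvd (QuotientGroup.mk' R') (⟨y, hy⟩ : M)
        rwa [Subgroup.orderOf_mk] at this
      exact Nat.eq_one_of_dvd_coprimes (hyo.pow_right k) h3 h2
    exact ⟨_, h1, rfl⟩
  have hKR : K ≤ Subgroup.normalizer (R : Set G) := by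
    rw [CfsgH1.le_normalizer_iff_conj]
    intro a ha y hy
    apply hRmem
    · exact (CfsgH1.le_normalizer_iff_conj.1 hMn) a ha y (hRM hy)
    · have h1 : orderOf (a * y * a⁻¹) = orderOf y := orderOf_injective (MulAut.conj a).toMonoidHom (MulAut.conj a).injective y
      rw [h1]
      exact Nat.Coprime.coprime_dvd_left (hRcard ▸ Subgroup.orderOf_dvd_natCard R hy) hR'c
  -- Q centralizes R
  have hQR : Q ≤ Subgroup.normalizer (R : Set G) := by
    refine le_trans ?_ (Subgroup.centralizer_le_normalizer _)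
    intro a ha
    rw [Subgroup.mem_centralizer_iff]
    intro y hy
    obtain ⟨j, hj⟩ := IsPGroup.iff_orderOf.1 (CfsgH1.isSylowOf_isPGroup hQ) ⟨a, ha⟩
    rw [Subgroup.orderOf_mk] at hj
    haveI := hH'
    refine CfsgH3.commute_of_nilpotent_mem (H := H') (hx (hRM hy)) (CfsgH1.isSylowOf_le hQ ha) (a := orderOf y) (b := q ^ j)
        (pow_orderOf_eq_one y) (by rw [← hj, pow_orderOf_eq_one]) ?_
    exact (Nat.Coprime.coprime_dvd_left (hRcard ▸ Subgroup.orderOf_dvd_natCard R hy) hR'c).pow_right j
  -- Sylow in the normalizer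
  have hQN : CfsgH1.IsSylowOf q Q (Subgroup.normalizer (R : Set G)) := CfsgH1.isSylowOf_of_le hQtop hQR le_top
  obtain ⟨T, hT⟩ : ∃ T, CfsgH1.IsSylowOf q T (Subgroup.normalizer (R : Set G)) ∧ S ≤ T := by
    have hSp : IsPGroup q (S.subgroupOf (Subgroup.normalizer (R : Set G))) := 
      (CfsgH1.isSylowOf_isPGroup hS).comap_of_injective _ (Subgroup.subtype_injective _)
    obtain ⟨T', hT'⟩ := hSp.exists_le_sylow
    refine ⟨(T' : Subgroup _).map (Subgroup.normalizer (R : Set G)).subtype, ⟨T', rfl⟩, ?_⟩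
    intro s hs
    exact ⟨⟨s, hKR (CfsgH1.isSylowOf_le hS hs)⟩, hT' hs, rfl⟩
  obtain ⟨g, hg, hgT⟩ := CfsgH1.isSylowOf_conj_trans hQN hT.1
  -- K = R S
  have hKRS : K ≤ R ⊔ S := by
    have h1 : (R ⊔ S).relIndex K = 1 := by
      by_contra hne
      obtain ⟨r, hr, hrd⟩ := Nat.exists_prime_and_dvd hne
      obtain ⟨hSK, -, hSn⟩ := CfsgH1.isSylowOf_iff.1 hS
      by_cases hrq : r = q
      · subst hrq
        exact hSn (hrd.trans (Subgroup.relIndex_dvd_of_le_left K le_sup_right))
      · have h2 : (R ⊔ S).relIndex K ∣ R.relIndex K := Subgroup.relIndex_dvd_of_le_left K le_sup_left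
        have h3 : R.relIndex K = q ^ (k + 1) := by
          rw [← Subgroup.relIndex_mul_relIndex R M K hRM hMK, hRrel, ← hq, pow_succ]
        rw [h3] at h2
        exact hrq ((Nat.prime_dvd_prime_iff_eq hr hMp).1 (hr.dvd_of_dvd_pow (hrd.trans h2)))
    exact Subgroup.relIndex_eq_one.1 h1
  refine ⟨g, hKRS.trans (sup_le ?_ ?_)⟩
  · have h1 : R = MulAut.conj g • R := (CfsgH1.conj_smul_eq_self_iff.2 hg).symm
    rw [h1]
    exact CfsgH1.conj_smul_mono g (hRM.trans hx)
  · refine hT.2.trans ?_
    rw [← hgT]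
    exact CfsgH1.conj_smul_mono g (CfsgH1.isSylowOf_le hQ)

/-- Let H be a nilpotent subgroup of a finite group G whose order is coprime to its index, and K a subgroup every prime divisor of whose order divides the order of H. Then K lies in some conjugate of H. -/
theorem result {G : Type*} [Group G] [Finite G] (H K : Subgroup G) (hH : Group.IsNilpotent H) (hHall : (Nat.card H).Coprime H.index) (hK : ∀ p : ℕ, p.Prime → p ∣ Nat.card K → p ∣ Nat.card H) : ∃ x : G, K ≤ MulAut.conj x • H := by

  exact main _ H K rfl hH hHall hK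

end Cfsg.Agent.S0581
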