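import Cfsg.Statements.S0562
import Cfsg.Agent.H1.SetMul

set_option autoImplicit false
open Cfsg

namespace Cfsg.Agent.S0562

open scoped commutatorElement Pointwise

/-- Let the finite group G be the product HK of subgroups, A normal in H, B normal in K, and L the normalizer of the subgroup generated by A and B. Then every element of L is a product of an element of L ∩ H and an element of L ∩ K. -/
theorem result {G : Type*} [Group G] [Finite G] (H K A B : Subgroup G) (hHK : ∀ g : G, ∃ h ∈ H, ∃ k ∈ K, g = h * k) (hA : A ≤ H) (hAn : (A.subgroupOf H).Normal) (hB : B ≤ K) (hBn : (B.subgroupOf K).Normal) : ∀ g ∈ Subgroup.normalizer ((A ⊔ B : Subgroup G) : Set G), ∃ h ∈ Subgroup.normalizer ((A ⊔ B : Subgroup G) : Set G) ⊓ H, ∃ k ∈ Subgroup.normalizer ((A ⊔ B : Subgroup G) : Set G) ⊓ K, g = h * k := by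
  intro g hg
  obtain ⟨h, hh, k, hk, rfl⟩ := hHK g
  set J := A ⊔ B with hJ
  have hg' := CfsgH1.conj_smul_eq_self_iff.2 hg
  rw [map_mul, mul_smul] at hg'
  have h1 : MulAut.conj k • J = MulAut.conj h⁻¹ • J := by
    conv_rhs => rw [← hg']
    rw [← mul_smul, ← map_mul, inv_mul_cancel, map_one, one_smul]
  have hAh : MulAut.conj h⁻¹ • A = A := by
    rw [CfsgH1.conj_smul_eq_self_iff]
    exact CfsgH1.le_normalizer_of_normal_subgroupOf hA hAn (H.inv_mem hh)
  have hBk : MulAut.conj k • B = B := by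
    rw [CfsgH1.conj_smul_eq_self_iff]
    exact CfsgH1.le_normalizer_of_normal_subgroupOf hB hBn hk
  have h2 : J ≤ MulAut.conj k • J := by
    rw [hJ]
    refine sup_le ?_ ?_
    · rw [← hJ, h1]
      calc A = MulAut.conj h⁻¹ • A := hAh.symm
        _ ≤ MulAut.conj h⁻¹ • J := CfsgH1.conj_smul_mono _ le_sup_left
    · calc B = MulAut.conj k • B := hBk.symm
        _ ≤ MulAut.conj k • J := CfsgH1.conj_smul_mono _ le_sup_right
  have h3 : J = MulAut.conj k • J := CfsgH1.eq_of_le_of_card_le h2 (by rw [CfsgH1.card_conj_smul])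
  have hkN : k ∈ Subgroup.normalizer (J : Set G) := CfsgH1.conj_smul_eq_self_iff.1 h3.symm
  have hhN : h ∈ Subgroup.normalizer (J : Set G) := by
    have : h = (h * k) * k⁻¹ := by group
    rw [this]
    exact Subgroup.mul_mem _ hg (Subgroup.inv_mem _ hkN)
  exact ⟨h, ⟨hhN, hh⟩, k, ⟨hkN, hk⟩, rfl⟩

end Cfsg.Agent.S0562
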