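import Cfsg.Statements.S0836
import Cfsg.Agent.H9.IwaSL

set_option autoImplicit false
open Cfsg

namespace Cfsg.Agent.S0836

/-- For i ≠ j and any scalar c, the elementary transvection 1 + c E_ij is a commutator ⁅g, h⁆ of two elements of SL_n(F) provided n ≥ 3, or n = 2 and F contains x ≠ 0 with x² ≠ 1. -/
theorem result {F : Type*} [Field F] (n : ℕ) (hn : 3 ≤ n ∨ (n = 2 ∧ ∃ x : F, x ≠ 0 ∧ x ^ 2 ≠ 1)) (i j : Fin n) (hij : i ≠ j) (c : F) (t : Matrix.SpecialLinearGroup (Fin n) F) (ht : (t : Matrix (Fin n) (Fin n) F) = Matrix.transvection i j c) : t ∈ commutatorSet (Matrix.SpecialLinearGroup (Fin n) F) := by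
  have hteq : ∀ (b : F), b = c → t = Matrix.SpecialLinearGroup.transvection hij b := by
    rintro b rfl
    exact Subtype.ext ht
  rcases hn with hn | ⟨hn, x, hx, hx2⟩
  · have h1 : ∃ k : Fin n, k ∉ ({i, j} : Finset (Fin n)) := by
      by_contra hc
      push Not at hc
      have h2 : (Finset.univ : Finset (Fin n)) ⊆ {i, j} := fun k _ => hc k
      have h3 := Finset.card_le_card h2
      rw [Finset.card_univ, Fintype.card_fin] at h3
      have h4 := Finset.card_le_two (a := i) (b := j)
      omega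
    obtain ⟨k, hk⟩ := h1
    simp only [Finset.mem_insert, Finset.mem_singleton, not_or] at hk
    rw [hteq (c * 1) (mul_one c), ← CfsgH9.IwaSL.comm_transv hij (k := k) (fun h => hk.1 h.symm) hk.2]
    exact commutator_mem_commutatorSet _ _
  · rw [hteq ((x ^ 2 - 1) * ((x ^ 2 - 1)⁻¹ * c)) (by rw [← mul_assoc, mul_inv_cancel₀ (sub_ne_zero.2 hx2), one_mul]),
      ← CfsgH9.IwaSL.comm_diag hij hx]
    exact commutator_mem_commutatorSet _ _

end Cfsg.Agent.S0836
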