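import Mathlib
import Cfsg.Agent.H3.MaxCl2
import Cfsg.Statements.S0115

set_option autoImplicit false
open Cfsg

namespace Cfsg.Agent.S0115

/-- A 2-group of order 2^n, n ≥ 3, is of maximal class exactly when its commutator quotient is a Klein four-group. -/
theorem result {X : Type*} [Group X] [Finite X] (n : ℕ) (hn : 3 ≤ n) (hX : Nat.card X = 2 ^ n) : Group.nilpotencyClass X = n - 1 ↔ IsKleinFour (X ⧸ commutator X) := by
  haveI : Fact (Nat.Prime 2) := ⟨Nat.prime_two⟩
  have hXp : IsPGroup 2 X := IsPGroup.of_card hX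
  haveI : Group.IsNilpotent X := hXp.isNilpotent
  have h0 : ∀ h : IsCyclic X, Group.nilpotencyClass X = n - 1 → False := by
    intro h h1
    have h2 := CfsgH3.class_le_one_of_comm (X := X) (fun a b => by
      obtain ⟨g, hg⟩ := h.exists_generator
      obtain ⟨i, rfl⟩ := hg a
      obtain ⟨j, rfl⟩ := hg b
      exact (Commute.refl g).zpow_zpow i j)
    omega
  constructor
  · intro hc
    have h1 := CfsgH3.index_commutator_of_maxcl (p := 2) n hn hX hc
    exact (CfsgH3.index_commutator_iff_klein hXp (fun h => h0 h hc)).1 h1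
  · intro hk
    exact CfsgH3.maxcl_of_index n X hX hk.card_four

end Cfsg.Agent.S0115
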