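import Mathlib
import Cfsg.Agent.H7.Critical
import Cfsg.Agent.H3.Cl3
import Cfsg.Statements.S0120

set_option autoImplicit false
open Cfsg

namespace Cfsg.Agent.S0120

open scoped commutatorElement in
theorem omega_fix {G : Type*} [Group G] [Finite G] {p : ℕ} [hpf : Fact p.Prime] (hp : p ≠ 2) (hG : IsPGroup p G) (a : MulAut G) (ha : Nat.Coprime (orderOf a) p) (h : ∀ x : G, x ^ p = 1 → a x = x) : a = 1 := by
  obtain ⟨A, h1, h2, h3, h4, h5, h6⟩ := CfsgH7.exists_critical hG
  apply h6 a ha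
  have haA : ∀ x ∈ A, a x ∈ A := by
    intro x hx
    have := Subgroup.characteristic_iff_map_eq.1 h1 a
    rw [← this]; exact ⟨x, hx, rfl⟩
  -- abelian part
  have hab : ∀ k : ℕ, ∀ z ∈ CfsgH7.zc A, z ^ p ^ k = 1 → a z = z := by
    intro k
    induction k with
    | zero => intro z _ hz; rw [pow_zero, pow_one] at hz; rw [hz, map_one]
    | succ k ih =>
      intro z hz hzk
      apply CfsgH7.aut_fix_of_mul hG ha (z := z⁻¹ * a z) (by group)
      apply h
      have hzA := (Subgroup.mem_inf.1 hz).1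
      have hzc := (Subgroup.mem_inf.1 hz).2
      have hc : Commute z⁻¹ (a z) := by
        have := Subgroup.mem_centralizer_iff.1 hzc (a z) (haA z hzA)
        exact (show Commute z (a z) from this.symm).inv_left
      have hzp : a (z ^ p) = z ^ p := ih (z ^ p) (pow_mem hz p) (by rw [← pow_mul, ← pow_succ']; exact hzk)
      rw [hc.mul_pow, ← map_pow, hzp, inv_pow, inv_mul_cancel]
  intro x hx
  apply CfsgH7.aut_fix_of_mul hG ha (z := x⁻¹ * a x) (by group)
  apply h
  -- (x⁻¹ a x)^p = 1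
  have hxp : a (x ^ p) = x ^ p := by
    obtain ⟨k, hk⟩ := hG (x ^ p)
    exact hab k _ (h2 x hx) hk
  set y := a x with hy
  have hyA : y ∈ A := haA x hx
  have hc : y⁻¹ * x * y * x⁻¹ ∈ ⁅A, A⁆ := by
    have := Subgroup.commutator_mem_commutator (inv_mem hyA) hx
    rw [commutatorElement_def, inv_inv] at this
    exact this
  have hcc : ∀ t ∈ A, Commute (y⁻¹ * x * y * x⁻¹) t := by
    intro t ht
    exact (Subgroup.mem_centralizer_iff.1 (h3 hc) t ht).symm
  have h0 : y * x⁻¹ = x⁻¹ * y * (y⁻¹ * x * y * x⁻¹) := by group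
  have hx' := (hcc x⁻¹ (inv_mem hx))
  have hy' := (hcc y hyA)
  have hcp : (y⁻¹ * x * y * x⁻¹) ^ p = 1 := by
    have e1 := CfsgH3.yn_x h0 (v := 1) (by rw [hy'.eq, mul_one]) (Commute.one_left _) (Commute.one_left _) p
    rw [one_pow, mul_one] at e1
    have e2 : y ^ p * x⁻¹ = x⁻¹ * y ^ p := by
      have := Subgroup.mem_centralizer_iff.1 (Subgroup.mem_inf.1 (h2 y hyA)).2 x⁻¹ (inv_mem hx)
      exact this.symm
    rw [e2] at e1
    exact left_eq_mul.mp e1
  rw [CfsgH3.pow_p_of hpf.out hp (u := 1) (v := 1) h0 (by rw [hx'.eq, mul_one]) (by rw [hy'.eq, mul_one]) (Commute.one_left _) (Commute.one_left _)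
      (Commute.one_left _) (Commute.one_left _) (Commute.one_left _) (Commute.one_left _) (Commute.one_left _) (Or.inr ⟨rfl, rfl⟩) hcp]
  rw [hy, ← map_pow, hxp, inv_pow, inv_mul_cancel]

/-- For odd p, a p'-automorphism of a p-group acting trivially on the elements of order dividing p is trivial. -/
theorem result {G : Type*} [Group G] [Finite G] {p : ℕ} [Fact p.Prime] (hp : p ≠ 2) (hG : IsPGroup p G) (a : MulAut G) (ha : Nat.Coprime (orderOf a) p) (h : ∀ x : G, x ^ p = 1 → a x = x) : a = 1 := by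
  exact omega_fix hp hG a ha h

end Cfsg.Agent.S0120
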