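import Cfsg.Statements.S1898
import Cfsg.Agent.H7.Quick1

set_option autoImplicit false
open Cfsg

namespace Cfsg.Agent.S1898

/-- Let X be a finite 2-group whose derived subgroup is elementary abelian and central. Then the subgroup generated by the elements of order dividing 4 has exponent dividing 4, and every automorphism of X fixing each element of order dividing 4 has 2-power order. -/
theorem result {X : Type*} [Group X] [Finite X] (hX : IsPGroup 2 X)
    (hel : Cfsg.IsElementaryAbelian 2 (commutator X)) (hcen : commutator X ≤ Subgroup.center X) :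
    (∀ x ∈ Subgroup.closure {g : X | g ^ 4 = 1}, x ^ 4 = 1) ∧
      ∀ φ : MulAut X, (∀ g : X, g ^ 4 = 1 → φ g = g) → ∃ k : ℕ, φ ^ (2 ^ k) = 1 := by
  obtain ⟨h1, h2⟩ := CfsgH7.omega_two_class hel hcen
  refine ⟨h1, fun φ hφ => h2 φ hφ fun x => ?_⟩
  obtain ⟨k, hk⟩ := hX x
  exact ⟨k, hk⟩

end Cfsg.Agent.S1898
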