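import Cfsg.Statements.S0242
import Mathlib

set_option autoImplicit false
open Cfsg

namespace Cfsg.Agent.S0242

/-- Order of the special linear group: (q - 1) |SL_n(q)| = prod_{i<n} (q^n - q^i) = |GL_n(q)|, for n at least 1. -/
theorem result {F : Type*} [Field F] [Fintype F] {q : ℕ} (hF : Fintype.card F = q) (n : ℕ) (hn : 1 ≤ n) : (q - 1) * Nat.card (Matrix.SpecialLinearGroup (Fin n) F) = ∏ i : Fin n, (q ^ n - q ^ (i : ℕ)) := by
  subst hF
  haveI : NeZero n := ⟨by omega⟩
  haveI : Nonempty (Fin n) := ⟨⟨0, hn⟩⟩
  have h1 := Matrix.card_GL_field (𝔽 := F) n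
  let φ : Matrix.GeneralLinearGroup (Fin n) F →* Fˣ := Matrix.GeneralLinearGroup.det
  have hsurj : Function.Surjective φ := Matrix.GeneralLinearGroup.det_surjective
  have h2 : Nat.card (φ.ker) * Nat.card Fˣ = Nat.card (Matrix.GeneralLinearGroup (Fin n) F) := by
    have h3 := Subgroup.card_mul_index φ.ker
    rw [Subgroup.index_ker, MonoidHom.range_eq_top.2 hsurj, Subgroup.card_top] at h3
    exact h3
  have h4 : Nat.card (Matrix.SpecialLinearGroup (Fin n) F) = Nat.card φ.ker := by
    refine Nat.card_congr
      { toFun := fun A => ⟨Matrix.SpecialLinearGroup.toGL A, by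
          rw [MonoidHom.mem_ker]
          apply Units.ext
          exact A.2⟩
        invFun := fun g => ⟨(g.1 : Matrix (Fin n) (Fin n) F), by
          have := congrArg Units.val (MonoidHom.mem_ker.1 g.2)
          exact this⟩
        left_inv := fun A => rfl
        right_inv := fun g => by
          apply Subtype.ext
          apply Units.ext
          rfl }
  rw [h4, ← h1, ← Nat.card_eq_fintype_card, ← h2, Nat.card_units, Nat.card_eq_fintype_card, mul_comm]

end Cfsg.Agent.S0242
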