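import Cfsg.Statements.S0754

set_option autoImplicit false
open Cfsg

namespace Cfsg.Agent.S0754

/-- In a field F with q^2 elements, every non-zero μ with μ^q = μ (that is, μ in the subfield of order q) has exactly q + 1 solutions λ of λ^(q+1) = μ. -/
theorem result {F : Type*} [Field F] [Fintype F] {q : ℕ} (hF : Fintype.card F = q ^ 2) (μ : F) (hμ : μ ≠ 0) (hμq : μ ^ q = μ) : Nat.card {x : F // x ^ (q + 1) = μ} = q + 1 := by
  classical
  haveI := Fintype.ofFinite Fˣ
  have hq0 : 0 < q := by
    rcases Nat.eq_zero_or_pos q with h | h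
    · subst h
      have := Fintype.card_pos (α := F)
      simp [hF] at this
    · exact h
  have hcard : Nat.card Fˣ = (q + 1) * (q - 1) := by
    rw [Nat.card_units, Nat.card_eq_fintype_card, hF]
    obtain ⟨k, rfl⟩ : ∃ k, q = k + 1 := ⟨q - 1, by omega⟩
    simp only [Nat.add_sub_cancel]
    have : (k + 1) ^ 2 = (k + 1 + 1) * k + 1 := by ring
    rw [this, Nat.add_sub_cancel]
  have hq1 : 1 < q := by
    have h1 := Fintype.one_lt_card (α := F)
    rw [hF] at h1
    by_contra hcon
    have : q = 1 := by omega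
    rw [this] at h1
    simp at h1
  obtain ⟨g, hg⟩ := IsCyclic.exists_generator (α := Fˣ)
  have hgo : orderOf g = (q + 1) * (q - 1) := by
    rw [← hcard]
    exact orderOf_eq_card_of_forall_mem_zpowers hg
  -- the equation in units
  set m : Fˣ := Units.mk0 μ hμ with hm
  have hmq : m ^ (q - 1) = 1 := by
    apply Units.ext
    rw [Units.val_pow_eq_pow_val, Units.val_one, hm, Units.val_mk0]
    have h1 : μ * μ ^ (q - 1) = μ * 1 := by
      rw [← pow_succ', Nat.sub_add_cancel hq0, hμq, mul_one]
    exact mul_left_cancel₀ hμ h1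
  have hex : ∃ y : Fˣ, y ^ (q + 1) = m := by
    obtain ⟨k, hk⟩ := Subgroup.mem_zpowers_iff.1 (hg m)
    rw [← hk, ← zpow_natCast, ← zpow_mul] at hmq
    have h2 := orderOf_dvd_iff_zpow_eq_one.2 hmq
    rw [hgo] at h2
    have h3 : ((q + 1 : ℕ) : ℤ) ∣ k := by
      have h4 : (((q + 1) * (q - 1) : ℕ) : ℤ) = ((q + 1 : ℕ) : ℤ) * ((q - 1 : ℕ) : ℤ) := by push_cast; ring
      rw [h4] at h2
      have h5 : ((q - 1 : ℕ) : ℤ) ≠ 0 := by
        have : q - 1 ≠ 0 := by omega
        exact_mod_cast this
      exact (mul_dvd_mul_iff_right h5).1 h2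
    obtain ⟨l, hl⟩ := h3
    refine ⟨g ^ l, ?_⟩
    rw [← zpow_natCast, ← zpow_mul, ← hk, hl, mul_comm]
  obtain ⟨y, hy⟩ := hex
  have e : {x : F // x ^ (q + 1) = μ} ≃ (powMonoidHom (q + 1) : Fˣ →* Fˣ).ker :=
    { toFun := fun x => ⟨(Units.mk0 x.1 (by
          rintro h
          have h2 := x.2
          rw [h, zero_pow (by omega)] at h2
          exact hμ h2.symm)) * y⁻¹, by
          rw [MonoidHom.mem_ker, powMonoidHom_apply, mul_pow, inv_pow, hy]
          rw [mul_inv_eq_one]
          apply Units.ext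
          rw [Units.val_pow_eq_pow_val, Units.val_mk0, x.2, hm, Units.val_mk0]⟩
      invFun := fun z => ⟨((z : Fˣ) * y : Fˣ), by
          have h2 := z.2
          rw [MonoidHom.mem_ker, powMonoidHom_apply] at h2
          rw [← Units.val_pow_eq_pow_val, mul_pow, h2, hy, one_mul, hm, Units.val_mk0]⟩
      left_inv := fun x => by
        apply Subtype.ext
        simp
      right_inv := fun z => by
        apply Subtype.ext
        apply Units.ext
        simp }
  rw [Nat.card_congr e, IsCyclic.card_powMonoidHom_ker, hcard]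
  exact Nat.gcd_eq_right (dvd_mul_right _ _)

end Cfsg.Agent.S0754
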