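import Cfsg.Statements.S0263
import Mathlib.FieldTheory.Finite.Basic

set_option autoImplicit false
open Cfsg

namespace Cfsg.Agent.S0263

theorem prod_split (q n : ℕ) (hq : 1 ≤ q) : ∏ i : Fin n, (q ^ n - q ^ (i : ℕ)) = q ^ (n * (n - 1) / 2) * ∏ i : Fin n, (q ^ (n - (i : ℕ)) - 1) := by
  have h1 : ∏ i : Fin n, q ^ (i : ℕ) = q ^ (n * (n - 1) / 2) := by
    rw [Finset.prod_pow_eq_pow_sum, Fin.sum_univ_eq_sum_range (fun i => i), Finset.sum_range_id]
  rw [← h1, ← Finset.prod_mul_distrib]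
  apply Finset.prod_congr rfl
  intro i _
  have h2 : q ^ n = q ^ (i : ℕ) * q ^ (n - (i : ℕ)) := by
    rw [← pow_add]; congr 1; have := i.2; omega
  rw [Nat.mul_sub, mul_one, h2]

/-- A Sylow p-subgroup of GL_n(q), p the characteristic, has order q^(n(n-1)/2). -/
theorem result {F : Type*} [Field F] [Fintype F] {q : ℕ} (hF : Fintype.card F = q) (p : ℕ) [Fact p.Prime] [CharP F p] (n : ℕ) (P : Sylow p (Matrix.GeneralLinearGroup (Fin n) F)) : Nat.card P = q ^ (n * (n - 1) / 2) := by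
  classical
  have hp : p.Prime := Fact.out
  obtain ⟨f, hf1, hf2⟩ := FiniteField.card F p
  rw [Sylow.card_eq_multiplicity]
  have h1 := Matrix.card_GL_field (𝔽 := F) n
  rw [h1, hF]
  have hq1 : 1 < q := by rw [← hF]; exact Fintype.one_lt_card
  rw [prod_split q n hq1.le]
  have hne1 : q ^ (n * (n - 1) / 2) ≠ 0 := pow_ne_zero _ (by omega)
  have hne2 : ∏ i : Fin n, (q ^ (n - (i : ℕ)) - 1) ≠ 0 := by
    rw [Finset.prod_ne_zero_iff]
    intro i _
    have h2 : 1 < q ^ (n - (i : ℕ)) := Nat.one_lt_pow (by have := i.2; omega) hq1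
    omega
  rw [Nat.factorization_mul hne1 hne2, Finsupp.add_apply]
  have h3 : (∏ i : Fin n, (q ^ (n - (i : ℕ)) - 1)).factorization p = 0 := by
    apply Nat.factorization_eq_zero_of_not_dvd
    intro h
    obtain ⟨i, -, hi⟩ := (Nat.Prime.prime hp).exists_mem_finset_dvd h
    have h4 : p ∣ q ^ (n - (i : ℕ)) := by
      have : p ∣ q := by rw [← hF, hf2]; exact dvd_pow_self p f.ne_zero
      exact this.trans (dvd_pow_self q (by have := i.2; omega))
    have h5 : 1 ≤ q ^ (n - (i : ℕ)) := Nat.one_le_pow _ _ (by omega)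
    have h6 := (Nat.dvd_sub_iff_right h5 h4).mp hi
    exact hp.one_lt.ne' (Nat.dvd_one.mp h6)
  rw [h3, add_zero, ← hF, hf2, ← pow_mul, hp.factorization_pow, Finsupp.single_eq_same]

end Cfsg.Agent.S0263
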