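import Mathlib
import Cfsg.Agent.H3.Extra
import Cfsg.Statements.S0095

set_option autoImplicit false
open Cfsg

namespace Cfsg.Agent.S0095

/-- The order of an extraspecial p-group is an odd power p^(2n+1) of p with n ≥ 1. -/
theorem result {P : Type*} [Group P] [Finite P] {p : ℕ} [Fact p.Prime] (h : Cfsg.IsExtraspecial p P) : ∃ n : ℕ, 1 ≤ n ∧ Nat.card P = p ^ (2 * n + 1) := by
  obtain ⟨⟨hP, hf, hc⟩, hcard⟩ := h
  have hcomm : ∀ a b : P, a * b * a⁻¹ * b⁻¹ ∈ Subgroup.center P := by
    intro a b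
    rw [← hc]
    exact Subgroup.commutator_mem_commutator (Subgroup.mem_top a) (Subgroup.mem_top b)
  obtain ⟨k, hk⟩ := CfsgH3.nondeg_card hP (Subgroup.center P) hcard (fun z hz g => Subgroup.mem_center_iff.1 hz g) hcomm _ ⊤ rfl le_top
    (fun g _ hg => Subgroup.mem_center_iff.2 (fun c => hg c (Subgroup.mem_top c)))
  rw [Subgroup.card_top] at hk
  refine ⟨k, ?_, hk⟩
  by_contra hk0
  have hk0' : k = 0 := by omega
  rw [hk0'] at hk
  have h1 : Subgroup.center P = ⊤ := by
    apply Subgroup.eq_top_of_card_eq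
    rw [hcard, hk]; simp
  have h2 : commutator P = ⊥ := by
    rw [eq_bot_iff]
    unfold commutator
    rw [Subgroup.commutator_le]
    intro a _ b _
    rw [Subgroup.mem_bot, commutatorElement_eq_one_iff_mul_comm]
    have : b ∈ Subgroup.center P := by rw [h1]; trivial
    exact Subgroup.mem_center_iff.1 this a
  rw [h2] at hc
  rw [← hc, Subgroup.card_bot] at hcard
  exact (Fact.out : p.Prime).one_lt.ne hcard

end Cfsg.Agent.S0095
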