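import Mathlib
import Cfsg.Agent.H3.Invol2
import Cfsg.Statements.S0214

set_option autoImplicit false
open Cfsg

namespace Cfsg.Agent.S0214

/-- Let H be a proper subgroup of the finite group G and P a nontrivial Sylow 2-subgroup of H. Then H is strongly embedded in G if and only if N_G(X) ≤ H for every nontrivial subgroup X of P. -/
theorem result {G : Type*} [Group G] [Finite G] (H : Subgroup G) (hH : H ≠ ⊤) (P : Sylow 2 ↥H) (hP : (P : Subgroup ↥H) ≠ ⊥) : Cfsg.IsStronglyEmbedded H ↔ (∀ X : Subgroup ↥H, X ≤ (P : Subgroup ↥H) → X ≠ ⊥ → Subgroup.normalizer ((X.map H.subtype : Subgroup G) : Set G) ≤ H) := by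
  have hPe : 2 ∣ Nat.card (P : Subgroup H) := by
    obtain ⟨n, hn⟩ := IsPGroup.iff_card.1 P.2
    have hn' : Nat.card (P : Subgroup H) = 2 ^ n := hn
    rw [hn']
    apply dvd_pow_self
    rintro rfl
    rw [pow_zero] at hn'
    exact hP (Subgroup.card_eq_one.1 hn')
  constructor
  · rintro ⟨-, -, hSE⟩ X hX hXb g hg
    by_contra hgH
    have h1 := hSE g hgH
    have h2 : X.map H.subtype ≤ H ⊓ H.map (MulAut.conj g).toMonoidHom := by
      intro y hy
      have hyH : y ∈ H := by obtain ⟨z, -, rfl⟩ := hy; exact z.2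
      refine ⟨hyH, CfsgH3.mem_map_conj_iff.2 ?_⟩
      have h3 : g⁻¹ ∈ Subgroup.normalizer ((X.map H.subtype : Subgroup G) : Set G) := inv_mem hg
      have h4 := ((Subgroup.mem_normalizer_iff.1 h3) y).1 hy
      rw [inv_inv] at h4
      obtain ⟨z, -, hz⟩ := h4
      rw [← hz]; exact z.2
    have h3 : Even (Nat.card ↥(H ⊓ H.map (MulAut.conj g).toMonoidHom)) := by
      rw [even_iff_two_dvd]
      refine dvd_trans ?_ (Subgroup.card_dvd_of_le h2)
      rw [Subgroup.card_map_of_injective H.subtype_injective]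
      obtain ⟨n, hn⟩ := IsPGroup.iff_card.1 (P.2.to_le hX)
      rw [hn]
      apply dvd_pow_self
      rintro rfl
      rw [pow_zero] at hn
      exact hXb (Subgroup.card_eq_one.1 hn)
    exact (Nat.not_even_iff_odd.2 h1) h3
  · intro hN
    -- for every nontrivial 2-subgroup of H
    have hN' : ∀ X : Subgroup G, X ≤ H → X ≠ ⊥ → IsPGroup 2 X → Subgroup.normalizer (X : Set G) ≤ H := by
      intro X hXH hXb hX2 g hg
      have h1 : IsPGroup 2 (X.subgroupOf H) := hX2.comap_of_injective H.subtype H.subtype_injective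
      obtain ⟨T, hT⟩ := h1.exists_le_sylow
      obtain ⟨h, hh⟩ := MulAction.exists_smul_eq H T P
      set Y : Subgroup H := (X.subgroupOf H).map (MulAut.conj h).toMonoidHom with hY
      have hYP : Y ≤ (P : Subgroup H) := by
        rintro _ ⟨y, hy, rfl⟩
        rw [← hh, CfsgH3.mem_smul_sylow_iff']
        have : h⁻¹ * ((MulAut.conj h).toMonoidHom y) * h = y := by simp [mul_assoc]
        rw [this]; exact hT hy
      have hYb : Y ≠ ⊥ := by
        rw [hY, Ne, Subgroup.map_eq_bot_iff_of_injective _ (MulAut.conj h).injective]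
        rw [Subgroup.subgroupOf_eq_bot, disjoint_iff, inf_eq_left.2 hXH]
        exact hXb
      have h2 := hN Y hYP hYb
      have h3 : (h : G) * g * (h : G)⁻¹ ∈ Subgroup.normalizer ((Y.map H.subtype : Subgroup G) : Set G) := by
        have hmem : ∀ z : G, z ∈ (Y.map H.subtype : Subgroup G) ↔ (h : G)⁻¹ * z * h ∈ X := by
          intro z
          constructor
          · rintro ⟨_, ⟨w, hw, rfl⟩, rfl⟩
            have : (h : G)⁻¹ * (H.subtype ((MulAut.conj h).toMonoidHom w)) * h = w := by simp [mul_assoc]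
            rw [this]; exact hw
          · intro hz
            refine ⟨h * ⟨(h : G)⁻¹ * z * h, hXH hz⟩ * h⁻¹, ⟨⟨(h : G)⁻¹ * z * h, hXH hz⟩, hz, rfl⟩, ?_⟩
            simp [mul_assoc]
        rw [Subgroup.mem_normalizer_iff]
        intro z
        rw [hmem, hmem]
        have h4 := (Subgroup.mem_normalizer_iff.1 hg) ((h : G)⁻¹ * z * h)
        rw [h4]
        have e : (h : G)⁻¹ * (↑h * g * (↑h)⁻¹ * z * (↑h * g * (↑h)⁻¹)⁻¹) * ↑h = g * ((↑h)⁻¹ * z * ↑h) * g⁻¹ := by group
        rw [e]
      have h4 := h2 h3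
      have : g = (h : G)⁻¹ * ((h : G) * g * (h : G)⁻¹) * h := by group
      rw [this]
      exact mul_mem (mul_mem (inv_mem h.2) h4) h.2
    refine ⟨hH, ?_, ?_⟩
    · rw [even_iff_two_dvd]
      exact hPe.trans (Subgroup.card_subgroup_dvd_card _)
    intro g hg
    rw [← Nat.not_even_iff_odd]
    intro hev
    set D : Subgroup G := H ⊓ H.map (MulAut.conj g).toMonoidHom with hD
    obtain ⟨Q⟩ : Nonempty (Sylow 2 D) := inferInstance
    set Q' : Subgroup G := (Q : Subgroup D).map D.subtype with hQ'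
    have hQD : Q' ≤ D := by rintro _ ⟨y, -, rfl⟩; exact y.2
    have hQ2 : IsPGroup 2 Q' := Q.2.map _
    have hQb : Q' ≠ ⊥ := by
      rw [hQ', Ne, Subgroup.map_eq_bot_iff_of_injective _ D.subtype_injective]
      exact Q.ne_bot_of_dvd_card hev.two_dvd
    have hmax : ∀ R : Subgroup G, IsPGroup 2 R → Q' ≤ R → R ≤ D → R = Q' := by
      intro R hR hQR hRD
      have h1 : IsPGroup 2 (R.subgroupOf D) := hR.comap_of_injective D.subtype D.subtype_injective
      have h2 : (Q : Subgroup D) ≤ R.subgroupOf D := by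
        intro y hy
        exact hQR ⟨y, hy, rfl⟩
      have h3 := Q.3 h1 h2
      rw [hQ', ← h3, Subgroup.subgroupOf_map_subtype, inf_eq_left.2 hRD]
    have hN1 : Subgroup.normalizer (Q' : Set G) ≤ H := hN' Q' (hQD.trans inf_le_left) hQb hQ2
    have hN2 : Subgroup.normalizer (Q' : Set G) ≤ H.map (MulAut.conj g).toMonoidHom := by
      intro y hy
      rw [CfsgH3.mem_map_conj_iff]
      have h1 : (Q'.map (MulAut.conj g⁻¹).toMonoidHom) ≤ H := by
        rintro _ ⟨z, hz, rfl⟩
        have h2 := CfsgH3.mem_map_conj_iff.1 (hQD hz).2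
        simpa using h2
      have h3 := hN' (Q'.map (MulAut.conj g⁻¹).toMonoidHom) h1 (by
        rw [Ne, Subgroup.map_eq_bot_iff_of_injective _ (MulAut.conj g⁻¹).injective]; exact hQb) (hQ2.map _)
      apply h3
      rw [Subgroup.mem_normalizer_iff]
      intro z
      rw [CfsgH3.mem_map_conj_iff, CfsgH3.mem_map_conj_iff, inv_inv]
      have h4 := (Subgroup.mem_normalizer_iff.1 hy) (g * z * g⁻¹)
      rw [h4]
      have e : g * (g⁻¹ * y * g * z * (g⁻¹ * y * g)⁻¹) * g⁻¹ = y * (g * z * g⁻¹) * y⁻¹ := by group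
      rw [e]
    have hND : Subgroup.normalizer (Q' : Set G) ≤ D := le_inf hN1 hN2
    -- Q' is a Sylow 2-subgroup of G
    obtain ⟨T, hT⟩ := hQ2.exists_le_sylow
    have hQT : Q' = T := by
      by_contra hne
      have hlt : Q' < T := lt_of_le_of_ne hT hne
      haveI : Group.IsNilpotent (T : Subgroup G) := T.2.isNilpotent
      obtain ⟨x, hxT, hxQ, hxN⟩ := CfsgH3.exists_normalizer_gt hlt
      have h1 : IsPGroup 2 ↥((T : Subgroup G) ⊓ Subgroup.normalizer (Q' : Set G)) := T.2.to_le inf_le_left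
      have h2 := hmax _ h1 (le_inf hT Subgroup.le_normalizer) (inf_le_right.trans hND)
      apply hxQ
      rw [← h2]
      exact ⟨hxT, hxN⟩
    have hTH : (T : Subgroup G) ≤ H := by rw [← hQT]; exact hQD.trans inf_le_left
    have hgTH : ((g⁻¹ • T : Sylow 2 G) : Subgroup G) ≤ H := by
      intro y hy
      rw [CfsgH3.mem_smul_sylow_iff', inv_inv] at hy
      have h1 : g * y * g⁻¹ ∈ Q' := by rw [hQT]; exact hy
      have h2 := CfsgH3.mem_map_conj_iff.1 (hQD h1).2
      have e : g⁻¹ * (g * y * g⁻¹) * g = y := by group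
      rwa [e] at h2
    obtain ⟨h, hh⟩ := MulAction.exists_smul_eq H ((g⁻¹ • T).subtype hgTH) (T.subtype hTH)
    have h5 : ((h : G) * g⁻¹) • T = T := by
      rw [mul_smul]
      rw [Sylow.smul_subtype] at hh
      exact Sylow.subtype_injective hh
    have h6 : (h : G) * g⁻¹ ∈ Subgroup.normalizer (T : Set G) := Sylow.smul_eq_iff_mem_normalizer.1 h5
    have h7 : (h : G) * g⁻¹ ∈ H := by
      apply hN1
      have e : (Q' : Set G) = (T : Set G) := by rw [hQT]; rfl
      rw [e]; exact h6
    apply hg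
    have : g = ((h : G) * g⁻¹)⁻¹ * h := by group
    rw [this]
    exact mul_mem (inv_mem h7) h.2

end Cfsg.Agent.S0214
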