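import Mathlib
import Cfsg.Agent.H3.Invol2
import Cfsg.Statements.S0223

set_option autoImplicit false
open Cfsg

namespace Cfsg.Agent.S0223

open CfsgH3 in
theorem exists_invol_of_even {G : Type*} [Group G] [Finite G] (h : Even (Nat.card G)) : ∃ t : G, orderOf t = 2 :=
  exists_prime_orderOf_dvd_card' 2 h.two_dvd

/-- Let H be a proper subgroup of even order of the finite group G. Then H is strongly embedded if and only if (i) C_G(t) ≤ H for every involution t of H and (ii) H controls fusion of its involutions: involutions of H conjugate in G are conjugate in H. -/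
theorem result {G : Type*} [Group G] [Finite G] (H : Subgroup G) (hH : H ≠ ⊤) (heven : Even (Nat.card H)) : Cfsg.IsStronglyEmbedded H ↔ ((∀ t ∈ H, orderOf t = 2 → Subgroup.centralizer ({t} : Set G) ≤ H) ∧ (∀ t ∈ H, ∀ s ∈ H, orderOf t = 2 → orderOf s = 2 → IsConj t s → ∃ h ∈ H, h * t * h⁻¹ = s)) := by
  constructor
  · rintro ⟨-, -, hSE⟩
    have key : ∀ t : G, orderOf t = 2 → ∀ g : G, t ∈ H → g⁻¹ * t * g ∈ H → g ∈ H := by
      intro t ht g h1 h2
      by_contra hg
      have h3 := hSE g hg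
      have h4 : t ∈ H ⊓ H.map (MulAut.conj g).toMonoidHom := ⟨h1, CfsgH3.mem_map_conj_iff.2 h2⟩
      have h5 : orderOf t ∣ Nat.card ↥(H ⊓ H.map (MulAut.conj g).toMonoidHom) := by
        have := orderOf_dvd_natCard (⟨t, h4⟩ : ↥(H ⊓ H.map (MulAut.conj g).toMonoidHom))
        rwa [← Subgroup.orderOf_coe] at this
      rw [ht] at h5
      exact (Nat.not_even_iff_odd.2 h3) (even_iff_two_dvd.2 h5)
    refine ⟨?_, ?_⟩
    · intro t htH ht g hg
      apply key t ht g htH
      rw [Subgroup.mem_centralizer_singleton_iff] at hg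
      rw [mul_assoc, ← hg, ← mul_assoc, inv_mul_cancel, one_mul]
      exact htH
    · intro t htH s hsH ht hs hts
      obtain ⟨g, hg⟩ := isConj_iff.1 hts
      refine ⟨g, ?_, hg⟩
      apply key s hs g hsH
      rw [← hg]
      have : g⁻¹ * (g * t * g⁻¹) * g = t := by group
      rw [this]; exact htH
  · rintro ⟨hC, hF⟩
    refine ⟨hH, heven, ?_⟩
    intro g hg
    rw [← Nat.not_even_iff_odd]
    intro hev
    obtain ⟨⟨s, hs1, hs2⟩, hs⟩ := exists_invol_of_even hev
    rw [← Subgroup.orderOf_coe] at hs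
    simp only at hs
    have hs2' := CfsgH3.mem_map_conj_iff.1 hs2
    have ht : orderOf (g⁻¹ * s * g) = 2 := by
      have := CfsgH3.orderOf_conj g⁻¹ s
      rw [inv_inv] at this; rw [this, hs]
    obtain ⟨h, hh, hhs⟩ := hF _ hs2' s hs1 ht hs (isConj_iff.2 ⟨g, by group⟩)
    have h1 : g⁻¹ * h ∈ Subgroup.centralizer ({g⁻¹ * s * g} : Set G) := by
      rw [Subgroup.mem_centralizer_singleton_iff]
      calc g⁻¹ * h * (g⁻¹ * s * g) = g⁻¹ * (h * (g⁻¹ * s * g) * h⁻¹) * h := by group
        _ = g⁻¹ * s * h := by rw [hhs]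
        _ = g⁻¹ * s * g * (g⁻¹ * h) := by group
    have h2 := hC _ hs2' ht h1
    apply hg
    have h3 : g = h * (g⁻¹ * h)⁻¹ := by group
    rw [h3]
    exact mul_mem hh (inv_mem h2)

end Cfsg.Agent.S0223
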