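import Mathlib
import Cfsg.Agent.H3.Invol2
import Cfsg.Statements.S0224

set_option autoImplicit false
open Cfsg

namespace Cfsg.Agent.S0224

/-- Let H be a proper subgroup of even order of the finite group G. Then H is strongly embedded if and only if each involution of H fixes exactly one point (namely the coset H) in the action of G on the cosets of H. -/
theorem result {G : Type*} [Group G] [Finite G] (H : Subgroup G) (hH : H ≠ ⊤) (heven : Even (Nat.card H)) : Cfsg.IsStronglyEmbedded H ↔ ∀ t ∈ H, orderOf t = 2 → Nat.card {c : G ⧸ H // t • c = c} = 1 := by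
  constructor
  · rintro ⟨-, -, hSE⟩ t ht ht2
    rw [Nat.card_eq_one_iff_unique]
    refine ⟨⟨?_⟩, ⟨⟨(1 : G), ?_⟩⟩⟩
    · rintro ⟨a, ha⟩ ⟨b, hb⟩
      have key : ∀ c : G ⧸ H, t • c = c → c = (1 : G) := by
        intro c hc
        obtain ⟨g, rfl⟩ := QuotientGroup.mk_surjective c
        rw [MulAction.Quotient.smul_mk, QuotientGroup.eq, smul_eq_mul] at hc
        have h2 : g⁻¹ * t * g ∈ H := by
          have := inv_mem hc
          have e : ((t * g)⁻¹ * g)⁻¹ = g⁻¹ * t * g := by group
          rwa [e] at this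
        by_contra hg
        have hg' : g ∉ H := by
          intro h
          apply hg
          exact QuotientGroup.eq.2 (by simpa using h)
        have h3 := hSE g hg'
        have h4 : t ∈ H ⊓ H.map (MulAut.conj g).toMonoidHom := ⟨ht, CfsgH3.mem_map_conj_iff.2 h2⟩
        have h5 : orderOf t ∣ Nat.card ↥(H ⊓ H.map (MulAut.conj g).toMonoidHom) := by
          have := orderOf_dvd_natCard (⟨t, h4⟩ : ↥(H ⊓ H.map (MulAut.conj g).toMonoidHom))
          rwa [← Subgroup.orderOf_coe] at this
        rw [ht2] at h5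
        exact (Nat.not_even_iff_odd.2 h3) (even_iff_two_dvd.2 h5)
      exact Subtype.ext ((key a ha).trans (key b hb).symm)
    · rw [MulAction.Quotient.smul_mk, QuotientGroup.eq]
      simpa using ht
  · intro h
    refine ⟨hH, heven, ?_⟩
    intro g hg
    rw [← Nat.not_even_iff_odd]
    intro hev
    obtain ⟨⟨s, hs1, hs2⟩, hs⟩ := exists_prime_orderOf_dvd_card' (G := ↥(H ⊓ H.map (MulAut.conj g).toMonoidHom)) 2 hev.two_dvd
    rw [← Subgroup.orderOf_coe] at hs
    simp only at hs
    have hs2' := CfsgH3.mem_map_conj_iff.1 hs2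
    have h1 := h s hs1 hs
    rw [Nat.card_eq_one_iff_unique] at h1
    obtain ⟨hsub, -⟩ := h1
    have e1 : s • ((1 : G) : G ⧸ H) = ((1 : G) : G ⧸ H) := by
      rw [MulAction.Quotient.smul_mk, QuotientGroup.eq]
      simpa using hs1
    have e2 : s • ((g : G) : G ⧸ H) = ((g : G) : G ⧸ H) := by
      rw [MulAction.Quotient.smul_mk, QuotientGroup.eq, smul_eq_mul]
      have e : (s * g)⁻¹ * g = (g⁻¹ * s * g)⁻¹ := by group
      rw [e]
      exact inv_mem hs2'
    have h2 := hsub.elim (⟨_, e1⟩ : {c : G ⧸ H // s • c = c}) ⟨_, e2⟩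
    have h3 := congrArg Subtype.val h2
    simp only at h3
    rw [QuotientGroup.eq] at h3
    exact hg (by simpa using h3)

end Cfsg.Agent.S0224
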