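import Cfsg.Statements.S0647

set_option autoImplicit false
open Cfsg

namespace Cfsg.Agent.S0647

open scoped commutatorElement Pointwise

/-- For a nonempty family of maximal abelian subgroups of a finite group, the intersection of the family is the centre of the subgroup it generates, which is also the full centralizer of that subgroup. -/
theorem result {S : Type*} [Group S] [Finite S] (𝒜 : Set (Subgroup S)) (hne : 𝒜.Nonempty) (hab : ∀ A ∈ 𝒜, IsMulCommutative A) (hmax : ∀ A ∈ 𝒜, ∀ B : Subgroup S, IsMulCommutative B → A ≤ B → B = A) : sInf 𝒜 = sSup 𝒜 ⊓ Subgroup.centralizer ((sSup 𝒜 : Subgroup S) : Set S) ∧ sInf 𝒜 = Subgroup.centralizer ((sSup 𝒜 : Subgroup S) : Set S) := by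
  have hkey : ∀ x : S, x ∈ Subgroup.centralizer ((sSup 𝒜 : Subgroup S) : Set S) ↔ ∀ A ∈ 𝒜, x ∈ Subgroup.centralizer (A : Set S) := by
    intro x
    constructor
    · intro hx A hA
      exact Subgroup.centralizer_le (show (A : Set S) ⊆ ((sSup 𝒜 : Subgroup S) : Set S) from le_sSup hA) hx
    · intro h
      have h1 : sSup 𝒜 ≤ Subgroup.centralizer {x} := by
        refine sSup_le fun A hA y hy => ?_
        rw [Subgroup.mem_centralizer_iff]
        rintro _ rfl
        exact (Subgroup.mem_centralizer_iff.1 (h A hA) y hy).symm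
      rw [Subgroup.mem_centralizer_iff]
      intro y hy
      exact (Subgroup.mem_centralizer_iff.1 (h1 hy) x rfl).symm
  have hmem : ∀ A ∈ 𝒜, ∀ x ∈ Subgroup.centralizer (A : Set S), x ∈ A := by
    intro A hA x hx
    have hAc : ∀ a ∈ A, ∀ b ∈ A, a * b = b * a := by
      intro a ha b hb
      have := (hab A hA).is_comm.comm (⟨a, ha⟩ : A) ⟨b, hb⟩
      exact congrArg Subtype.val this
    have hxA : ∀ a ∈ A, a * x = x * a := fun a ha => Subgroup.mem_centralizer_iff.1 hx a ha
    have hcomm : IsMulCommutative (Subgroup.closure ((A : Set S) ∪ {x}) : Subgroup S) := by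
      apply Subgroup.isMulCommutative_closure
      rintro a (ha | rfl) b (hb | rfl)
      · exact hAc a ha b hb
      · exact hxA a ha
      · exact (hxA b hb).symm
      · rfl
    have h1 := hmax A hA _ hcomm (fun a ha => Subgroup.subset_closure (Or.inl ha))
    rw [← h1]
    exact Subgroup.subset_closure (Or.inr rfl)
  have h1 : sInf 𝒜 = Subgroup.centralizer ((sSup 𝒜 : Subgroup S) : Set S) := by
    ext x
    rw [hkey, Subgroup.mem_sInf]
    constructor
    · intro h A hA
      rw [Subgroup.mem_centralizer_iff]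
      intro a ha
      have := (hab A hA).is_comm.comm (⟨a, ha⟩ : A) ⟨x, h A hA⟩
      exact congrArg Subtype.val this
    · intro h A hA
      exact hmem A hA x (h A hA)
  refine ⟨?_, h1⟩
  rw [← h1, eq_comm, inf_eq_right]
  obtain ⟨A, hA⟩ := hne
  exact (sInf_le hA).trans (le_sSup hA)

end Cfsg.Agent.S0647
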