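import Cfsg.Statements.S0648
import Cfsg.Agent.H1.Regular
import Cfsg.Agent.H1.FF4
import Cfsg.Agent.H1.Ito

set_option autoImplicit false
open Cfsg

namespace Cfsg.Agent.S0648

open scoped commutatorElement Pointwise

open Subgroup in
theorem part1 {G : Type*} [Group G] (A B : Subgroup G) (hAB : A ≤ Subgroup.normalizer (B : Set G)) (hc : ⁅⁅B, B⁆, A⁆ = ⊥) : 
    ⁅⁅B, A⁆, ⁅B, B⁆⁆ = ⊥ ∧ ⁅⁅⁅B, A⁆, ⁅B, A⁆⁆, B⁆ = ⊥ := by
  have hDB : ⁅B, A⁆ ≤ B := CfsgH1.commutator_le_self_of_norm hAB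
  have hBB : ⁅⁅B, B⁆, B⁆ ≤ ⁅B, B⁆ := by
    rw [Subgroup.commutator_comm]
    exact Subgroup.commutator_mono le_rfl (CfsgH1.comm_le_self B) |>.trans le_rfl
  have h1 : ⁅⁅B, A⁆, ⁅B, B⁆⁆ = ⊥ := by
    apply Subgroup.commutator_commutator_eq_bot_of_rotate
    · rw [Subgroup.commutator_comm A]; rw [hc, Subgroup.commutator_bot_left]
    · rw [eq_bot_iff, ← hc]
      exact Subgroup.commutator_mono hBB le_rfl
  refine ⟨h1, ?_⟩
  apply Subgroup.commutator_commutator_eq_bot_of_rotate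
  · rw [eq_bot_iff, ← h1, Subgroup.commutator_comm]
    exact Subgroup.commutator_mono le_rfl (Subgroup.commutator_mono hDB le_rfl)
  · rw [eq_bot_iff, ← h1, Subgroup.commutator_comm]
    exact Subgroup.commutator_mono le_rfl (Subgroup.commutator_mono le_rfl hDB)

open Subgroup in
theorem key {G : Type*} [Group G] (A B : Subgroup G) (hAB : A ≤ Subgroup.normalizer (B : Set G)) (hc : ⁅⁅B, B⁆, A⁆ = ⊥) (hA : ∀ a ∈ A, ∀ c ∈ A, a * c = c * a) (b : G) (hb : b ∈ B)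
    (x : G → G) (hx : ∀ a, x a = b⁻¹ * a * b * a⁻¹) (hu : ∀ a ∈ A, ∀ c ∈ A, ∀ d ∈ A, Commute d ((x a)⁻¹ * (c * x a * c⁻¹))) (a : G) (ha : a ∈ A) (c : G) (hcA : c ∈ A) : ⁅x c, x a⁆ ^ 2 = 1 := by
  obtain ⟨h1, h2⟩ := part1 A B hAB hc
  have hDB : ⁅B, A⁆ ≤ B := CfsgH1.commutator_le_self_of_norm hAB
  have hconj : ∀ a ∈ A, ∀ y ∈ B, a * y * a⁻¹ ∈ B := fun a ha y hy => (Subgroup.mem_normalizer_iff.1 (hAB ha) y).1 hy
  have hDA : ∀ a ∈ A, ∀ y ∈ ⁅B, A⁆, a * y * a⁻¹ ∈ ⁅B, A⁆ := by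
    intro a ha y hy
    exact (Subgroup.mem_normalizer_iff.1 (CfsgH1.le_normalizer_commutator_right B A ha) y).1 hy
  have hxD : ∀ a ∈ A, x a ∈ ⁅B, A⁆ := by
    intro a ha
    have : x a = ⁅b⁻¹, a⁆ := by rw [hx, commutatorElement_def]; group
    rw [this]; exact Subgroup.commutator_mem_commutator (inv_mem hb) ha
  have hxB : ∀ a ∈ A, x a ∈ B := fun a ha => hDB (hxD a ha)
  -- A centralizes B'
  have hAB' : ∀ d ∈ A, ∀ w ∈ ⁅B, B⁆, d * w * d⁻¹ = w := by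
    intro d hd w hw
    have := (Subgroup.commutator_eq_bot_iff_le_centralizer).1 hc hw
    rw [Subgroup.mem_centralizer_iff] at this
    rw [this d hd]; group
  have hDB' : ∀ d ∈ ⁅B, A⁆, ∀ w ∈ ⁅B, B⁆, d * w * d⁻¹ = w := by
    intro d hd w hw
    have := (Subgroup.commutator_eq_bot_iff_le_centralizer).1 h1 hd
    rw [Subgroup.mem_centralizer_iff] at this
    rw [← this w hw]; group
  have hZ : ∀ w ∈ ⁅⁅B, A⁆, ⁅B, A⁆⁆, ∀ y ∈ B, y * w = w * y := by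
    intro w hw y hy
    have := (Subgroup.commutator_eq_bot_iff_le_centralizer).1 h2 hw
    exact Subgroup.mem_centralizer_iff.1 this y hy
  have hbx : ∀ d, d * b * d⁻¹ = b * x d := by intro d; rw [hx]; group
  -- u
  have huD : ∀ a ∈ A, ∀ c ∈ A, (x a)⁻¹ * (c * x a * c⁻¹) ∈ ⁅B, A⁆ := fun a ha c hc => mul_mem (inv_mem (hxD a ha)) (hDA c hc _ (hxD a ha))
  -- (i)
  have hi : ∀ a ∈ A, ∀ c ∈ A, ∀ d ∈ A, Commute (x d) ((x a)⁻¹ * (c * x a * c⁻¹)) := by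
    intro a ha c hc d hd
    set u := (x a)⁻¹ * (c * x a * c⁻¹) with hu'
    have hdu : d * u * d⁻¹ = u := mul_inv_eq_iff_eq_mul.2 (hu a ha c hc d hd)
    have h3 : d * ⁅b, u⁆ * d⁻¹ = ⁅b, u⁆ := hAB' d hd _ (Subgroup.commutator_mem_commutator hb (hDB (huD a ha c hc)))
    have h4 : d * ⁅b, u⁆ * d⁻¹ = ⁅d * b * d⁻¹, d * u * d⁻¹⁆ := by simp only [commutatorElement_def]; group
    rw [h4, hdu, hbx] at h3
    have h5 : ⁅b * x d, u⁆ = b * ⁅x d, u⁆ * b⁻¹ * ⁅b, u⁆ := by simp only [commutatorElement_def]; group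
    rw [h5, mul_eq_right, mul_inv_eq_one, mul_eq_left] at h3
    exact commutatorElement_eq_one_iff_mul_comm.1 h3
  -- (ii)
  have hii : ∀ a ∈ A, ∀ c ∈ A, ⁅b, (x a)⁻¹ * (c * x a * c⁻¹)⁆ = ⁅x c, x a⁆⁻¹ := by
    intro a ha c hc
    set u := (x a)⁻¹ * (c * x a * c⁻¹) with hu'
    have hcx : c * x a * c⁻¹ = x a * u := by rw [hu']; group
    have h3 : c * ⁅b, x a⁆ * c⁻¹ = ⁅b, x a⁆ := hAB' c hc _ (Subgroup.commutator_mem_commutator hb (hxB a ha))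
    have h4 : c * ⁅b, x a⁆ * c⁻¹ = ⁅c * b * c⁻¹, c * x a * c⁻¹⁆ := by simp only [commutatorElement_def]; group
    rw [h4, hcx, hbx] at h3
    have h5 : ⁅b * x c, x a * u⁆ = b * ⁅x c, x a * u⁆ * b⁻¹ * ⁅b, x a * u⁆ := by simp only [commutatorElement_def]; group
    have h6 : ⁅x c, x a * u⁆ = ⁅x c, x a⁆ * (x a * ⁅x c, u⁆ * (x a)⁻¹) := by simp only [commutatorElement_def]; group
    have h7 : ⁅x c, u⁆ = 1 := commutatorElement_eq_one_iff_mul_comm.2 (hi a ha c hc c hc)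
    have h8 : ⁅b, x a * u⁆ = ⁅b, x a⁆ * (x a * ⁅b, u⁆ * (x a)⁻¹) := by simp only [commutatorElement_def]; group
    have h9 : x a * ⁅b, u⁆ * (x a)⁻¹ = ⁅b, u⁆ := hDB' _ (hxD a ha) _ (Subgroup.commutator_mem_commutator hb (hDB (huD a ha c hc)))
    have hZc := hZ ⁅x c, x a⁆ (Subgroup.commutator_mem_commutator (hxD c hc) (hxD a ha))
    rw [h5, h6, h7, h8, h9, mul_one, mul_inv_cancel, mul_one, hZc b hb, mul_inv_cancel_right, ← mul_assoc,
      ← hZc _ (CfsgH1.comm_le_self B (Subgroup.commutator_mem_commutator hb (hxB a ha))), mul_assoc, mul_eq_left] at h3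
    exact (eq_inv_of_mul_eq_one_right h3)
  -- (iii)
  have h3 := hii a ha c hcA
  have h4 := hii c hcA a ha
  have h5 : (x c)⁻¹ * (a * x c * a⁻¹) = ((x a * x c)⁻¹ * (x c * x a)) * ((x a)⁻¹ * (c * x a * c⁻¹)) := by
    have e1 : x a * (a * x c * a⁻¹) = x (a * c) := by rw [hx, hx, hx]; group
    have e2 : x c * (c * x a * c⁻¹) = x (c * a) := by rw [hx, hx, hx]; group
    have e3 : x (a * c) = x (c * a) := by rw [hA a ha c hcA]
    have e4 : a * x c * a⁻¹ = (x a)⁻¹ * (x c * (c * x a * c⁻¹)) := by rw [e2, ← e3, ← e1]; group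
    rw [e4]; group
  set y := (x a * x c)⁻¹ * (x c * x a) with hy
  have hyD : y ∈ ⁅⁅B, A⁆, ⁅B, A⁆⁆ := by
    have : y = ⁅(x c)⁻¹, (x a)⁻¹⁆ := by rw [hy, commutatorElement_def]; group
    rw [this]; exact Subgroup.commutator_mem_commutator (inv_mem (hxD c hcA)) (inv_mem (hxD a ha))
  set u := (x a)⁻¹ * (c * x a * c⁻¹) with hu'
  rw [h5] at h4
  have h6 : ⁅b, y * u⁆ = ⁅b, y⁆ * (y * ⁅b, u⁆ * y⁻¹) := by simp only [commutatorElement_def]; group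
  have h7 : ⁅b, y⁆ = 1 := commutatorElement_eq_one_iff_mul_comm.2 (hZ y hyD b hb)
  have h8 : y * ⁅b, u⁆ * y⁻¹ = ⁅b, u⁆ := by
    rw [← hZ y hyD _ (hDB (by rw [h3]; exact inv_mem (CfsgH1.comm_le_self _ (Subgroup.commutator_mem_commutator (hxD c hcA) (hxD a ha)))))]
    group
  rw [h6, h7, h8, one_mul, h3, ← commutatorElement_inv (x c) (x a), inv_inv] at h4
  rw [pow_two]
  nth_rewrite 1 [← h4]
  rw [inv_mul_cancel]

/-- If A acts on B centralizing [B, B], then [B, A] has derived subgroup central in B, and for abelian A and b ∈ B with [[b, A], A, A] = 1 the derived subgroup of the subgroup [b, A] generated by the commutators of b with A has exponent dividing 2. -/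
theorem result {G : Type*} [Group G] [Finite G] (A B : Subgroup G) (hAB : A ≤ Subgroup.normalizer (B : Set G)) (hc : ⁅⁅B, B⁆, A⁆ = ⊥) : ⁅⁅B, A⁆, ⁅B, A⁆⁆ ≤ B ⊓ Subgroup.centralizer (B : Set G) ∧ (IsMulCommutative A → ∀ b ∈ B, ⁅⁅(Subgroup.closure {g : G | ∃ a ∈ A, g = b⁻¹ * a * b * a⁻¹}), A⁆, A⁆ = ⊥ → ∀ w ∈ ⁅(Subgroup.closure {g : G | ∃ a ∈ A, g = b⁻¹ * a * b * a⁻¹}), (Subgroup.closure {g : G | ∃ a ∈ A, g = b⁻¹ * a * b * a⁻¹})⁆, w ^ 2 = 1) := by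

  obtain ⟨h1, h2⟩ := part1 A B hAB hc
  have hDB : ⁅B, A⁆ ≤ B := CfsgH1.commutator_le_self_of_norm hAB
  constructor
  · exact le_inf ((CfsgH1.comm_le_self _).trans hDB) ((Subgroup.commutator_eq_bot_iff_le_centralizer).1 h2)
  · intro hA b hb hq
    have hA' : ∀ a ∈ A, ∀ c ∈ A, a * c = c * a := by
      intro a ha c hc
      exact congrArg Subtype.val (hA.is_comm.comm (⟨a, ha⟩ : A) ⟨c, hc⟩)
    set X := Subgroup.closure {g : G | ∃ a ∈ A, g = b⁻¹ * a * b * a⁻¹} with hX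
    have hxD : ∀ a ∈ A, b⁻¹ * a * b * a⁻¹ ∈ ⁅B, A⁆ := by
      intro a ha
      have : b⁻¹ * a * b * a⁻¹ = ⁅b⁻¹, a⁆ := by rw [commutatorElement_def]; group
      rw [this]; exact Subgroup.commutator_mem_commutator (inv_mem hb) ha
    have hXD : X ≤ ⁅B, A⁆ := by
      rw [hX, Subgroup.closure_le]
      rintro _ ⟨a, ha, rfl⟩
      exact hxD a ha
    have hZ : ∀ w ∈ ⁅⁅B, A⁆, ⁅B, A⁆⁆, ∀ y ∈ B, y * w = w * y := by
      intro w hw y hy
      have := (Subgroup.commutator_eq_bot_iff_le_centralizer).1 h2 hw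
      exact Subgroup.mem_centralizer_iff.1 this y hy
    have hu : ∀ a ∈ A, ∀ c ∈ A, ∀ d ∈ A, Commute d ((b⁻¹ * a * b * a⁻¹)⁻¹ * (c * (b⁻¹ * a * b * a⁻¹) * c⁻¹)) := by
      intro a ha c hc d hd
      have h3 : (b⁻¹ * a * b * a⁻¹)⁻¹ * (c * (b⁻¹ * a * b * a⁻¹) * c⁻¹) ∈ ⁅X, A⁆ := by
        have : (b⁻¹ * a * b * a⁻¹)⁻¹ * (c * (b⁻¹ * a * b * a⁻¹) * c⁻¹) = ⁅(b⁻¹ * a * b * a⁻¹)⁻¹, c⁆ := by rw [commutatorElement_def]; group
        rw [this]
        exact Subgroup.commutator_mem_commutator (inv_mem (Subgroup.subset_closure ⟨a, ha, rfl⟩)) hc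
      have h4 := (Subgroup.commutator_eq_bot_iff_le_centralizer).1 hq h3
      exact Subgroup.mem_centralizer_iff.1 h4 d hd
    let P : Subgroup G := 
      { carrier := {w | w ∈ ⁅⁅B, A⁆, ⁅B, A⁆⁆ ∧ w ^ 2 = 1}
        one_mem' := ⟨one_mem _, by simp⟩
        mul_mem' := by
          rintro x y ⟨hx1, hx2⟩ ⟨hy1, hy2⟩
          refine ⟨mul_mem hx1 hy1, ?_⟩
          have : Commute x y := hZ y hy1 x ((CfsgH1.comm_le_self _).trans hDB hx1)
          rw [this.mul_pow, hx2, hy2, one_mul]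
        inv_mem' := by
          rintro x ⟨hx1, hx2⟩
          exact ⟨inv_mem hx1, by rw [inv_pow, hx2, inv_one]⟩ }
    have hP : ⁅X, X⁆ ≤ P := by
      rw [hX]
      apply CfsgH1.commutator_le_of_gens
      · rw [← hX, CfsgH1.le_normalizer_iff_conj]
        rintro g hg w ⟨hw1, hw2⟩
        have h3 : g * w * g⁻¹ = w := by rw [hZ w hw1 g (hDB (hXD hg))]; group
        rw [h3]; exact ⟨hw1, hw2⟩
      · rintro _ ⟨c, hc', rfl⟩ _ ⟨a, ha, rfl⟩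
        refine ⟨Subgroup.commutator_mem_commutator (hxD c hc') (hxD a ha), ?_⟩
        exact key A B hAB hc hA' b hb (fun a => b⁻¹ * a * b * a⁻¹) (fun _ => rfl) hu a ha c hc'
    intro w hw
    exact (hP hw).2

end Cfsg.Agent.S0648
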