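import Cfsg.Statements.S0650
import Cfsg.Agent.H7.ZJ3

set_option autoImplicit false
open Cfsg

namespace Cfsg.Agent.S0650

open scoped commutatorElement

/-- The Glauberman replacement Theorem: from an abelian A ⊇ [B, B] not normalized by the normal subgroup B and a suitable b ∈ B one gets the abelian subgroup A* = (A ∩ b⁻¹Ab)[A, b] of the same order, containing [B, B], meeting B strictly more than A does but not containing B, mutually normalizing with A, with strictly larger normalizer containing b, and (p odd) of no larger exponent. -/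
theorem result {S : Type*} [Group S] [Finite S] {p : ℕ} [Fact p.Prime] (hS : IsPGroup p S) (B : Subgroup S) [B.Normal] (hB2 : p = 2 → IsMulCommutative B) (A : Subgroup S) (hA : IsMulCommutative A) (hBA : ⁅B, B⁆ ≤ A) (hnot : ¬ B ≤ Subgroup.normalizer (A : Set S)) (b : S) (hb : b ∈ B) (hbN : b ∈ Subgroup.normalizer ((Subgroup.normalizer (A : Set S)) : Set S)) (hbA : b ∉ Subgroup.normalizer (A : Set S)) : Nat.card ↥((A ⊓ A.map (MulAut.conj (b⁻¹)).toMonoidHom) ⊔ Subgroup.closure {g : S | ∃ a ∈ A, g = a * b⁻¹ * a⁻¹ * b}) = Nat.card A ∧ IsMulCommutative ↥((A ⊓ A.map (MulAut.conj (b⁻¹)).toMonoidHom) ⊔ Subgroup.closure {g : S | ∃ a ∈ A, g = a * b⁻¹ * a⁻¹ * b}) ∧ ⁅B, B⁆ ≤ ((A ⊓ A.map (MulAut.conj (b⁻¹)).toMonoidHom) ⊔ Subgroup.closure {g : S | ∃ a ∈ A, g = a * b⁻¹ * a⁻¹ * b}) ∧ A ⊓ B < ((A ⊓ A.map (MulAut.conj (b⁻¹)).toMonoidHom) ⊔ Subgroup.closure {g : S | ∃ a ∈ A, g = a * b⁻¹ * a⁻¹ * b}) ⊓ B ∧ ((A ⊓ A.map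 (MulAut.conj (b⁻¹)).toMonoidHom) ⊔ Subgroup.closure {g : S | ∃ a ∈ A, g = a * b⁻¹ * a⁻¹ * b}) ⊓ B < B ∧ A ≤ Subgroup.normalizer (((A ⊓ A.map (MulAut.conj (b⁻¹)).toMonoidHom) ⊔ Subgroup.closure {g : S | ∃ a ∈ A, g = a * b⁻¹ * a⁻¹ * b} : Subgroup S) : Set S) ∧ ((A ⊓ A.map (MulAut.conj (b⁻¹)).toMonoidHom) ⊔ Subgroup.closure {g : S | ∃ a ∈ A, g = a * b⁻¹ * a⁻¹ * b}) ≤ Subgroup.normalizer (A : Set S) ∧ b ∈ Subgroup.normalizer (((A ⊓ A.map (MulAut.conj (b⁻¹)).toMonoidHom) ⊔ Subgroup.closure {g : S | ∃ a ∈ A, g = a * b⁻¹ * a⁻¹ * b} : Subgroup S) : Set S) ∧ Subgroup.normalizer (A : Set S) < Subgroup.normalizer (((A ⊓ A.map (MulAut.conj (b⁻¹)).toMonoidHom) ⊔ Subgroup.closure {g : S | ∃ a ∈ A, g = a * b⁻¹ * a⁻¹ * b} : Subgroup S) : Set S) ∧ (p ≠ 2 → Monoid.exponent ↥((A ⊓ A.map (MulAut.conj (b⁻¹)).toMonoidHom) ⊔ Subgroup.closure {g : S | ∃ a ∈ A, g = a * b⁻¹ * a⁻¹ * b}) ∣ Monoid.exponent A) := by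
  have hT : IsPGroup p ↥(⊤ : Subgroup S) := hS.to_subgroup ⊤
  have hSB : (⊤ : Subgroup S) ≤ Subgroup.normalizer (B : Set S) := by rw [Subgroup.normalizer_eq_top B]
  have hE : (A ⊓ A.map (MulAut.conj (b⁻¹)).toMonoidHom) ⊔ Subgroup.closure {g : S | ∃ a ∈ A, g = a * b⁻¹ * a⁻¹ * b} =
      CfsgH7.aStar A b⁻¹ := by
    unfold CfsgH7.aStar CfsgH7.cj
    congr 2
    ext g
    simp only [Set.mem_setOf_eq, commutatorElement_def, inv_inv]
  rw [hE]
  have hb' : b⁻¹ ∉ Subgroup.normalizer (A : Set S) := fun h => hbA (by simpa using inv_mem h)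
  have hp2 : p ≠ 2 ∨ ⁅B, B⁆ = ⊥ := by
    by_cases h : p = 2
    · right
      have h1 := CfsgH7.isMulComm_iff.mp (hB2 h)
      rw [eq_bot_iff, Subgroup.commutator_le]
      intro x hx y hy
      rw [Subgroup.mem_bot, commutatorElement_eq_one_iff_mul_comm]
      exact h1 x hx y hy
    · exact Or.inl h
  have hdata : CfsgH7.ReplData A B b⁻¹ := by
    refine CfsgH7.exists_replData hT hp2 le_top le_top hSB (CfsgH7.isMulComm_iff.mp hA) hBA (inv_mem hb) ?_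
    rw [top_inf_eq]
    exact inv_mem hbN
  have hBn : Subgroup.normalizer (A : Set S) ≤ Subgroup.normalizer (B : Set S) := le_top.trans hSB
  refine ⟨hdata.card_eq, CfsgH7.isMulComm_iff.mpr hdata.aStar_comm, hdata.derived_le.trans CfsgH7.ReplData.Z_le_aStar,
    hdata.inf_lt hb', hdata.not_le hb', hdata.le_normalizer_aStar, hdata.aStar_le_normalizer, ?_, ?_, ?_⟩
  · simpa using inv_mem hdata.x_mem
  · refine lt_of_le_of_ne (hdata.normalizer_le (inv_mem hbN) hBn) ?_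
    intro h
    apply hb'
    rw [h]
    exact hdata.x_mem
  · intro hp
    apply Monoid.exponent_dvd_of_forall_pow_eq_one
    rintro ⟨g, hg⟩
    apply Subtype.ext
    have hodd : Odd (Monoid.exponent ↥A) := by
      have h1 : IsPGroup p ↥A := hS.to_subgroup A
      obtain ⟨n, hn⟩ := IsPGroup.iff_card.mp h1
      have h2 : Monoid.exponent ↥A ∣ p ^ n := by rw [← hn]; exact Group.exponent_dvd_nat_card
      exact Odd.of_dvd_nat ((‹Fact p.Prime›.out.odd_of_ne_two hp).pow) h2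
    exact hdata.aStar_pow hodd (fun a ha => congrArg Subtype.val (Monoid.pow_exponent_eq_one (⟨a, ha⟩ : ↥A))) g hg

end Cfsg.Agent.S0650
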