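import Cfsg.Statements.S0654
import Cfsg.Agent.H7.ZJ3

set_option autoImplicit false
open Cfsg

namespace Cfsg.Agent.S0654

/-- The ZJ-Theorem for the elementary-abelian Thompson subgroup: for an odd prime p, a finite group G with C_G(O_p(G)) ≤ O_p(G) acting p-stably on its normal p-subgroups, and a Sylow p-subgroup S of G, the subgroup generated by the elements of order dividing p in Z(J_e(S)) is characteristic in G. -/
theorem result {G : Type*} [Group G] [Finite G] {p : ℕ} [Fact p.Prime] (hp : p ≠ 2) (hc : Subgroup.centralizer (Cfsg.pCore p G : Set G) ≤ Cfsg.pCore p G) (hst : ∀ (P : Subgroup G) [P.Normal], IsPGroup p P → Cfsg.IsPStableOn p P) (S : Sylow p G) : ((Cfsg.omegaCenterThompson p ↥(S : Subgroup G)).map (S : Subgroup G).subtype).Characteristic := by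
  have h1 : (Cfsg.omegaCenterThompson p ↥(S : Subgroup G)).map (S : Subgroup G).subtype =
      CfsgH7.zF (CfsgH7.PhiE p G) (S : Subgroup G) := by
    unfold Cfsg.omegaCenterThompson Cfsg.thompsonSubgroup
    rw [CfsgH7.maxEl_eq, CfsgH7.zjE_eq', ← CfsgH7.zF_map_inj (CfsgH7.goodPred_E hp) (S : Subgroup G).subtype
      (S : Subgroup G).subtype_injective, ← MonoidHom.range_eq_map, Subgroup.range_subtype]
  rw [h1]
  exact CfsgH7.zj_char hp ((CfsgH7.goodPred_E hp).rclass G) S hst hc

end Cfsg.Agent.S0654
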