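import Cfsg.Statements.S0655
import Cfsg.Agent.H7.ZJ3

set_option autoImplicit false
open Cfsg

namespace Cfsg.Agent.S0655

/-- In a p-group the intersection of all elementary abelian subgroups of largest order is the subgroup generated by the elements of order dividing p in the centre (equivalently the centralizer) of the elementary-version Thompson subgroup. -/
theorem result {S : Type*} [Group S] [Finite S] {p : ℕ} [Fact p.Prime] (hS : IsPGroup p S) : sInf (Cfsg.maxElementaryAbelianSubgroups p S) = Cfsg.omegaCenterThompson p S ∧ Cfsg.omegaCenterThompson p S = Cfsg.omegaOne p (Subgroup.centralizer (Cfsg.thompsonSubgroup p S : Set S)) := by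
  unfold Cfsg.omegaCenterThompson Cfsg.thompsonSubgroup
  rw [CfsgH7.maxEl_eq, CfsgH7.zjE_eq']
  refine ⟨rfl, le_antisymm ?_ ?_⟩
  · rw [← CfsgH7.zjE_eq']
    exact Subgroup.closure_mono fun x hx => ⟨(Subgroup.mem_inf.mp hx.1).2, hx.2⟩
  · unfold Cfsg.omegaOne
    rw [Subgroup.closure_le]
    rintro z ⟨hz, hzp⟩
    rw [CfsgH7.inf_centralizer_sSup] at hz
    refine Subgroup.mem_sInf.mpr fun A hA => ?_
    have h1 : CfsgH7.PhiE p S (A ⊔ Subgroup.zpowers z) := CfsgH7.elem_sup_zpowers hA.2.1 (hz A hA) hzp
    have h2 := hA.2.2 _ le_top h1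
    have h3 : A = A ⊔ Subgroup.zpowers z := Subgroup.eq_of_le_of_card_ge le_sup_left h2
    rw [h3]
    exact Subgroup.mem_sup_right (Subgroup.mem_zpowers z)

end Cfsg.Agent.S0655
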