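import Cfsg.Statements.S0809
import Cfsg.Agent.H9.SLt4

set_option autoImplicit false
open Cfsg

namespace Cfsg.Agent.S0809

open CfsgH7 CfsgH9.SLt in
theorem exists_gen {F : Type*} [Field F] [Fintype F] (h2 : (2 : F) ≠ 0) (A : Subgroup (SL2 F)) (hA : Nat.card A = 4) :
    ∃ a : SL2 F, a * a = m1 ∧ Subgroup.zpowers a = A := by
  classical
  by_contra hcon
  push Not at hcon
  -- no element with square `-1`
  have h1 : ∀ a ∈ A, a * a ≠ m1 := by
    intro a ha haa
    apply hcon a haa
    apply Subgroup.eq_of_le_of_card_ge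
    · rw [Subgroup.zpowers_le]; exact ha
    · rw [hA, Nat.card_zpowers]
      have h4 : a ^ 4 = 1 := by
        rw [show (4 : ℕ) = 2 * 2 from rfl, pow_mul, pow_two, pow_two, haa, m1_mul_m1]
      have h5 : orderOf a ∣ 2 ^ 2 := orderOf_dvd_of_pow_eq_one h4
      have h6 : ¬ orderOf a ∣ 2 ^ 1 := by
        intro h
        have := orderOf_dvd_iff_pow_eq_one.mp h
        rw [pow_one, pow_two, haa] at this
        exact m1_ne_one h2 this
      obtain ⟨k, hk1, hk2⟩ := (Nat.dvd_prime_pow Nat.prime_two).mp h5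
      have h7 : k = 2 := by
        by_contra hk
        exact h6 (by rw [hk2]; exact pow_dvd_pow 2 (by omega))
      rw [hk2, h7]
      norm_num
  have h3 : ∀ a ∈ A, a = 1 ∨ a = m1 := by
    intro a ha
    have h4 : a ^ 4 = 1 := by
      have := orderOf_dvd_natCard (⟨a, ha⟩ : A)
      rw [hA] at this
      have := orderOf_dvd_iff_pow_eq_one.mp this
      exact congrArg Subtype.val this
    have h5 : (a * a) * (a * a) = 1 := by
      rw [← h4]; simp only [pow_succ, pow_zero, one_mul, mul_assoc]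
    by_cases h6 : a * a = 1
    · by_cases h7 : a = 1
      · left; exact h7
      · right; exact inv_unique h2 h6 h7
    · exact absurd (inv_unique h2 h5 h6) (h1 a ha)
  have h8 : (A : Set (SL2 F)) ⊆ {1, m1} := fun a ha => h3 a ha
  have h9 : (A : Set (SL2 F)).ncard ≤ ({1, m1} : Set (SL2 F)).ncard := Set.ncard_le_ncard h8 (Set.toFinite _)
  have h10 : (A : Set (SL2 F)).ncard = 4 := hA
  rw [h10, Set.ncard_pair (m1_ne_one h2).symm] at h9
  omega

open CfsgH7 CfsgH9.SLt in
theorem map_conj_zpowers {G : Type*} [Group G] (c a : G) :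
    (Subgroup.zpowers a).map (MulAut.conj c).toMonoidHom = Subgroup.zpowers (c * a * c⁻¹) := by
  rw [MonoidHom.map_zpowers]; rfl

open CfsgH7 CfsgH9.SLt in
/-- the order of the normaliser of a cyclic group of order four -/
theorem card_norm {F : Type*} [Field F] [Fintype F] (h2 : (2 : F) ≠ 0) {a : SL2 F} (ha : a * a = m1) :
    Nat.card ↥(Subgroup.normalizer ((Subgroup.zpowers a : Subgroup (SL2 F)) : Set (SL2 F))) = 2 * Nat.card ↥(cen a) := by
  classical
  have hainv := inv_of_sq ha
  have hmem : ∀ x : SL2 F, x ∈ Subgroup.zpowers a ↔ x = 1 ∨ x = m1 ∨ x = a ∨ x = a⁻¹ := by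
    intro x
    constructor
    · rintro ⟨n, rfl⟩
      have h4 : a ^ (4 : ℤ) = 1 := by
        rw [show (4 : ℤ) = 2 * 2 from rfl, zpow_mul, zpow_two, zpow_two, ha, m1_mul_m1]
      have h5 : a ^ n = a ^ (n % 4) := by
        conv_lhs => rw [← Int.mul_ediv_add_emod n 4, zpow_add, zpow_mul, h4, one_zpow, one_mul]
      have h6 : n % 4 = 0 ∨ n % 4 = 1 ∨ n % 4 = 2 ∨ n % 4 = 3 := by omega
      change a ^ n = 1 ∨ a ^ n = m1 ∨ a ^ n = a ∨ a ^ n = a⁻¹
      rw [h5]
      rcases h6 with h | h | h | h <;> rw [h]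
      · left; rfl
      · right; right; left; exact zpow_one a
      · right; left; rw [zpow_two, ha]
      · right; right; right
        rw [eq_inv_iff_mul_eq_one, ← zpow_add_one]; exact h4
    · rintro (rfl | rfl | rfl | rfl)
      · exact one_mem _
      · rw [← ha]; exact mul_mem (Subgroup.mem_zpowers a) (Subgroup.mem_zpowers a)
      · exact Subgroup.mem_zpowers _
      · exact inv_mem (Subgroup.mem_zpowers a)
  obtain ⟨c, hc⟩ := isConj_iff.mp (conj_of_tr (tr0_ne h2 ha) (tr2_inv a))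
  have hne : a⁻¹ ≠ a := by
    intro h
    rw [hainv] at h
    exact m1_ne_one h2 (mul_eq_right.mp h)
  have hN : ∀ g : SL2 F, g ∈ Subgroup.normalizer ((Subgroup.zpowers a : Subgroup (SL2 F)) : Set (SL2 F)) ↔ g * a * g⁻¹ = a ∨ g * a * g⁻¹ = a⁻¹ := by
    intro g
    rw [Subgroup.mem_normalizer_iff]
    constructor
    · intro h
      have h3 := (h a).mp (Subgroup.mem_zpowers a)
      rcases (hmem _).mp h3 with h4 | h4 | h4 | h4
      · exfalso
        have h5 : a = 1 := by
          have := congrArg (fun z => g⁻¹ * z * g) h4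
          simpa [mul_assoc] using this
        rw [h5, mul_one] at ha
        exact m1_ne_one h2 ha.symm
      · exfalso
        have h5 : a = m1 := by
          have h6 := congrArg (fun z => g⁻¹ * z * g) h4
          have h7 : g⁻¹ * m1 * g = m1 := by rw [← m1_comm]; group
          simp only [h7] at h6
          simpa [mul_assoc] using h6
        rw [h5, m1_mul_m1] at ha
        exact m1_ne_one h2 ha.symm
      · left; exact h4
      · right; exact h4
    · intro h
      have h5 : (Subgroup.zpowers a).map (MulAut.conj g).toMonoidHom = Subgroup.zpowers a := by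
        rw [map_conj_zpowers]
        rcases h with h | h
        · rw [h]
        · rw [h, Subgroup.zpowers_inv]
      intro x
      constructor
      · intro hx
        rw [← h5]; exact ⟨x, hx, rfl⟩
      · intro hx
        rw [← h5] at hx
        obtain ⟨y, hy, hxy⟩ := hx
        have : y = x := by
          have h6 : g * y * g⁻¹ = g * x * g⁻¹ := hxy
          simpa using h6
        rw [← this]; exact hy
  have hset : ((Subgroup.normalizer ((Subgroup.zpowers a : Subgroup (SL2 F)) : Set (SL2 F)) : Subgroup (SL2 F)) : Set (SL2 F)) =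
      (cen a : Set (SL2 F)) ∪ (fun x => c * x) '' (cen a : Set (SL2 F)) := by
    ext g
    simp only [SetLike.mem_coe, hN, Set.mem_union, Set.mem_image, mem_cen]
    constructor
    · rintro (h | h)
      · left; exact (mul_inv_eq_iff_eq_mul.mp h).symm
      · right
        refine ⟨c⁻¹ * g, ?_, by group⟩
        calc a * (c⁻¹ * g) = c⁻¹ * (c * a * c⁻¹) * g := by group
          _ = c⁻¹ * (g * a * g⁻¹) * g := by rw [hc, h]
          _ = _ := by group
    · rintro (h | ⟨x, hx, rfl⟩)
      · left; exact mul_inv_eq_iff_eq_mul.mpr h.symm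
      · right
        calc c * x * a * (c * x)⁻¹ = c * (x * a) * x⁻¹ * c⁻¹ := by group
          _ = c * (a * x) * x⁻¹ * c⁻¹ := by rw [hx]
          _ = c * a * c⁻¹ := by group
          _ = _ := hc
  change ((Subgroup.normalizer ((Subgroup.zpowers a : Subgroup (SL2 F)) : Set (SL2 F)) : Subgroup (SL2 F)) : Set (SL2 F)).ncard = _
  rw [hset, Set.ncard_union_eq _ (Set.toFinite _) (Set.toFinite _), Set.ncard_image_of_injective _ (mul_right_injective c)]
  · have : ((cen a : Subgroup (SL2 F)) : Set (SL2 F)).ncard = Nat.card ↥(cen a) := rfl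
    rw [this]; ring
  · rw [Set.disjoint_left]
    rintro _ hx ⟨x, hx2, rfl⟩
    apply hne
    have e1 := mem_cen.mp hx
    have e2 := mem_cen.mp hx2
    rw [← hc]
    simp only at e1
    have e3 : c * a * x = a * c * x := by
      calc c * a * x = c * (a * x) := mul_assoc _ _ _
        _ = c * x * a := by rw [e2, mul_assoc]
        _ = a * (c * x) := e1.symm
        _ = _ := (mul_assoc _ _ _).symm
    have e4 : c * a = a * c := mul_right_cancel e3
    rw [e4]; group

/-- In SL_2(q), q odd: any two subgroups of order 4 are conjugate, and the normaliser of a subgroup of order 4 has order 2(q − 1) if q ≡ 1 (mod 4) and 2(q + 1) if q ≡ 3 (mod 4); consequently all involutions of PSL_2(q) are conjugate. -/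
theorem result {F : Type*} [Field F] [Fintype F] {q : ℕ} (hF : Fintype.card F = q) (hodd : Odd q) (A : Subgroup (Matrix.SpecialLinearGroup (Fin 2) F)) (hA : Nat.card A = 4) : (∀ B : Subgroup (Matrix.SpecialLinearGroup (Fin 2) F), Nat.card B = 4 → ∃ g : Matrix.SpecialLinearGroup (Fin 2) F, B = A.map (MulAut.conj g).toMonoidHom) ∧ (q % 4 = 1 → Nat.card ↥(Subgroup.normalizer (A : Set (Matrix.SpecialLinearGroup (Fin 2) F))) = 2 * (q - 1)) ∧ (q % 4 = 3 → Nat.card ↥(Subgroup.normalizer (A : Set (Matrix.SpecialLinearGroup (Fin 2) F))) = 2 * (q + 1)) ∧ (∀ x y : Matrix.ProjectiveSpecialLinearGroup (Fin 2) F, orderOf x = 2 → orderOf y = 2 → IsConj x y) := by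
  have h2 := CfsgH9.SLt.two_ne_zero_of_card (F := F) (by rw [hF]; exact hodd)
  obtain ⟨a, ha, rfl⟩ := exists_gen h2 A hA
  refine ⟨?_, ?_, ?_, ?_⟩
  · intro B hB
    obtain ⟨b, hb, rfl⟩ := exists_gen h2 B hB
    obtain ⟨c, hc⟩ := isConj_iff.mp (CfsgH9.SLt.conj_of_tr (CfsgH9.SLt.tr0_ne h2 ha)
      (by rw [CfsgH9.SLt.sq_eq_m1_iff.mp ha, CfsgH9.SLt.sq_eq_m1_iff.mp hb] : CfsgH7.tr2 b = CfsgH7.tr2 a))
    refine ⟨c, ?_⟩
    rw [map_conj_zpowers, hc]
  · intro hq
    rw [card_norm h2 ha]
    obtain ⟨n, hn, hc, -, h3, h4⟩ := CfsgH9.SLt.exists_torus a (CfsgH9.SLt.tr0_ne h2 ha)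
    have h5 : IsSquare (-1 : F) := FiniteField.isSquare_neg_one_iff.mpr (by rw [hF]; omega)
    obtain ⟨r, hr⟩ := h5
    rw [hc, h4 ⟨r, by rw [CfsgH9.SLt.sq_eq_m1_iff.mp ha]; linear_combination -hr⟩, hF]
  · intro hq
    rw [card_norm h2 ha]
    obtain ⟨n, hn, hc, -, h3, h4⟩ := CfsgH9.SLt.exists_torus a (CfsgH9.SLt.tr0_ne h2 ha)
    have h5 : ¬ IsSquare (-1 : F) := by
      intro h
      exact FiniteField.isSquare_neg_one_iff.mp h (by rw [hF]; omega)
    rcases hn with hn | hn
    · exfalso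
      obtain ⟨r, hr⟩ := h3 hn
      rw [CfsgH9.SLt.sq_eq_m1_iff.mp ha] at hr
      exact h5 ⟨r, by linear_combination -hr⟩
    · rw [hc, hn, hF]
  · intro x y hx hy
    obtain ⟨u, rfl⟩ := CfsgH9.SLt.pr_surjective x
    obtain ⟨v, rfl⟩ := CfsgH9.SLt.pr_surjective y
    have key : ∀ w : CfsgH7.SL2 F, orderOf (CfsgH9.SLt.pr w) = 2 → w * w = CfsgH9.SLt.m1 := by
      intro w hw
      apply CfsgH9.SLt.sq_of_pr h2
      · have := pow_orderOf_eq_one (CfsgH9.SLt.pr w)
        rwa [hw, pow_two] at this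
      · intro h
        rw [h, orderOf_one] at hw
        omega
    have hu := key u hx
    have hv := key v hy
    obtain ⟨c, hc⟩ := isConj_iff.mp (CfsgH9.SLt.conj_of_tr (CfsgH9.SLt.tr0_ne h2 hu)
      (by rw [CfsgH9.SLt.sq_eq_m1_iff.mp hu, CfsgH9.SLt.sq_eq_m1_iff.mp hv] : CfsgH7.tr2 v = CfsgH7.tr2 u))
    rw [isConj_iff]
    exact ⟨CfsgH9.SLt.pr c, by rw [← map_mul, ← map_inv, ← map_mul, hc]⟩

end Cfsg.Agent.S0809
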