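import Mathlib
import Cfsg.Agent.H3.Simp
import Cfsg.Statements.S0994

set_option autoImplicit false
open Cfsg

namespace Cfsg.Agent.S0994

/-- No finite simple group has order 1188 = 2^2 * 3^3 * 11. -/
theorem result {G : Type*} [Group G] [Finite G] [IsSimpleGroup G] : Nat.card G ≠ 1188 := by
  intro h
  have hG : ¬ IsMulCommutative G := CfsgH3.Simp.not_comm_of_card (by rw [h]; norm_num)
  haveI : Fact (Nat.Prime 11) := ⟨by norm_num⟩
  have hG1 : Nat.card G = 11 ^ 1 * 108 := by rw [h]; norm_num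
  have h1 := CfsgH3.Simp.syl_dvd hG1 (by norm_num)
  have h2 := CfsgH3.Simp.syl_mod (G := G) (p := 11)
  have h3 := CfsgH3.Simp.syl_ne_one (p := 11) hG (by rw [h]; norm_num)
  have h4 : Nat.card (Sylow 11 G) = 12 := by
    have h5 := Nat.le_of_dvd (by norm_num) h1
    interval_cases Nat.card (Sylow 11 G) <;> omega
  obtain ⟨P⟩ : Nonempty (Sylow 11 G) := inferInstance
  have hPc : Nat.card P = 11 := by rw [CfsgH3.Simp.card_syl hG1 (by norm_num) P, pow_one]
  have h6 := CfsgH3.Simp.card_norm P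
  rw [h4, h] at h6
  apply CfsgH3.Simp.not_npc (p := 11) hG (by rw [h]; norm_num)
  exact CfsgH3.Simp.npc_of_gcd P hPc (m := 9) (by omega) (by norm_num)

end Cfsg.Agent.S0994
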