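import Cfsg.Statements.S1155
import Cfsg.Agent.H6.TwR3

set_option autoImplicit false
open Cfsg

namespace Cfsg.Agent.S1155

/-- In the small Ree group ²G₂(q), q = 3^(2m+1) with m ≥ 1, realised as G¹ inside the Chevalley group G₂ over the field with q elements (θ the 3^m-th power map): distinct Sylow 3-subgroups of `G¹` meet trivially. -/
theorem result {K : Type*} [Field K] [Fintype K] {m : ℕ} (hm : 1 ≤ m) (hK : Fintype.card K = 3 ^ (2 * m + 1))
    (P Q : Sylow 3 ↥(Cfsg.Lie.twistedG2 K (3 ^ m))) (hPQ : P ≠ Q) : (P : Subgroup ↥(Cfsg.Lie.twistedG2 K (3 ^ m))) ⊓ (Q : Subgroup ↥(Cfsg.Lie.twistedG2 K (3 ^ m))) = ⊥ := by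
  haveI : CharP K 3 := charP_of_card_eq_prime_pow hK
  revert P Q
  rw [CfsgH6.Chv.twistedG2_eq hK]
  intro P Q hPQ
  exact CfsgH6.Chv.sylow3G2 hK P Q hPQ

end Cfsg.Agent.S1155
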