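import Mathlib
import Cfsg.Agent.H3.AlpFus
import Cfsg.Statements.S1249

set_option autoImplicit false
open Cfsg

namespace Cfsg.Agent.S1249

open scoped Pointwise

/-- Let P and Q be Sylow p-subgroups of the finite group G both containing the subgroup A. If A is strongly closed in P, then A is strongly closed in Q. -/
theorem result {G : Type*} [Group G] [Finite G] {p : ℕ} [Fact p.Prime] (P Q : Sylow p G) (A : Subgroup G) (hAQ : A ≤ Q) (hA : Cfsg.IsStronglyClosed A (P : Subgroup G)) : Cfsg.IsStronglyClosed A (Q : Subgroup G) := by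
  obtain ⟨hAP, hcl⟩ := hA
  refine ⟨hAQ, ?_⟩
  obtain ⟨k, hk⟩ := MulAction.exists_smul_eq G Q P
  have hkQ : ∀ y ∈ (Q : Subgroup G), k * y * k⁻¹ ∈ (P : Subgroup G) := by
    intro y hy
    rw [← hk, Sylow.coe_subgroup_smul, CfsgH1.mem_conj_smul]
    simpa [mul_assoc] using hy
  have hkA : ∀ a ∈ A, k * a * k⁻¹ ∈ A := fun a ha => hcl a ha k (hkQ a (hAQ ha))
  have hkA' : MulAut.conj k • A = A := by
    apply Subgroup.eq_of_le_of_card_ge
    · exact CfsgH3.conj_smul_le_iff.2 hkA
    · rw [CfsgH1.card_conj_smul]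
  intro x hx g hg
  have h1 := hcl x hx (k * g) (by
    have := hkQ _ hg
    have e : k * (g * x * g⁻¹) * k⁻¹ = k * g * x * (k * g)⁻¹ := by group
    rwa [e] at this)
  rw [← hkA', CfsgH1.mem_conj_smul] at h1
  have e : k⁻¹ * (k * g * x * (k * g)⁻¹) * k = g * x * g⁻¹ := by group
  rwa [e] at h1

end Cfsg.Agent.S1249
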