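import Mathlib
import Cfsg.Agent.H3.AlpFus
import Cfsg.Statements.S1250

set_option autoImplicit false
open Cfsg

namespace Cfsg.Agent.S1250

/-- Let S be a Sylow p-subgroup of the finite group G, A ≤ S strongly closed in S, and N a normal subgroup. Then the image of A in G ⧸ N is strongly closed in the image of S (which is a Sylow p-subgroup of G ⧸ N). -/
theorem result {G : Type*} [Group G] [Finite G] {p : ℕ} [Fact p.Prime] (S : Sylow p G) (A : Subgroup G) (hA : Cfsg.IsStronglyClosed A (S : Subgroup G)) (N : Subgroup G) [N.Normal] : Cfsg.IsStronglyClosed (A.map (QuotientGroup.mk' N)) ((S : Subgroup G).map (QuotientGroup.mk' N)) := by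
  obtain ⟨hAS, hcl⟩ := hA
  refine ⟨Subgroup.map_mono hAS, ?_⟩
  rintro _ ⟨x, hx, rfl⟩ g hg
  obtain ⟨g, rfl⟩ := QuotientGroup.mk'_surjective N g
  rw [← map_inv, ← map_mul, ← map_mul] at hg ⊢
  set y := g * x * g⁻¹ with hy
  -- y is a p-element of S N
  obtain ⟨s, hs, hsy⟩ := hg
  have hyK : y ∈ N ⊔ (S : Subgroup G) := by
    have h1 : s⁻¹ * y ∈ N := QuotientGroup.eq.1 hsy
    have h2 := mul_mem (Subgroup.mem_sup_right hs : s ∈ N ⊔ (S : Subgroup G)) (Subgroup.mem_sup_left h1 : s⁻¹ * y ∈ N ⊔ (S : Subgroup G))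
    rwa [mul_inv_cancel_left] at h2
  have hyp : IsPGroup p (Subgroup.zpowers y) := by
    have h1 : IsPGroup p (Subgroup.zpowers x) := S.2.to_le (Subgroup.zpowers_le.2 (hAS hx))
    have h2 : Subgroup.zpowers y = (Subgroup.zpowers x).map (MulAut.conj g).toMonoidHom := by
      rw [MonoidHom.map_zpowers]; rfl
    rw [h2]
    exact h1.map _
  have hSs : CfsgH1.IsSylowOf p (S : Subgroup G) (N ⊔ (S : Subgroup G)) := by
    rw [CfsgH1.isSylowOf_iff]
    exact ⟨le_sup_right, S.2, fun h => S.not_dvd_index (h.trans (Subgroup.relIndex_dvd_index_of_le le_sup_right))⟩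
  obtain ⟨k, hk, hkS⟩ := CfsgH3.exists_conj_le_sylowOf hSs hyp (Subgroup.zpowers_le.2 hyK)
  have h1 := CfsgH3.conj_smul_le_iff.1 hkS y (Subgroup.mem_zpowers y)
  -- k = s' n
  have h2 : ∃ n ∈ N, n * y * n⁻¹ ∈ (S : Subgroup G) := by
    rw [sup_comm] at hk
    obtain ⟨s', hs', n, hn, rfl⟩ := (CfsgH1.mem_sup_of_le_normalizer (show (S : Subgroup G) ≤ Subgroup.normalizer ((N : Subgroup G) : Set G) by
      rw [Subgroup.normalizer_eq_top]; exact le_top)).1 hk
    refine ⟨n, hn, ?_⟩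
    have := mul_mem (mul_mem (inv_mem hs') h1) hs'
    have e : s'⁻¹ * (s' * n * y * (s' * n)⁻¹) * s' = n * y * n⁻¹ := by group
    rwa [e] at this
  obtain ⟨n, hn, hny⟩ := h2
  have h3 := hcl x hx (n * g) (by
    have e : n * g * x * (n * g)⁻¹ = n * y * n⁻¹ := by rw [hy]; group
    rw [e]; exact hny)
  refine ⟨_, h3, ?_⟩
  rw [map_mul, map_mul, map_mul, map_inv, map_mul]
  have h4 : QuotientGroup.mk' N n = 1 := (QuotientGroup.eq_one_iff n).2 hn
  rw [h4, hy, map_mul, map_mul, map_inv, one_mul]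

end Cfsg.Agent.S1250
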