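import Cfsg.Statements.S1292
import Cfsg.Agent.H2.LocalN

set_option autoImplicit false
open Cfsg

namespace Cfsg.Agent.S1292

open Subgroup in
/-- transport of `F* = O_p` for the normalizer of a subgroup inside `C`. -/
theorem aux {G : Type*} [Group G] [Finite G] {T C : Subgroup G} (hTC : T ≤ C)
    (h : Cfsg.generalizedFittingSubgroup C = Cfsg.pCore 2 C) (hT : IsPGroup 2 T)
    (Y : Subgroup G) (hY : Y ≤ C ⊓ normalizer (T : Set G)) (hYn : C ⊓ normalizer (T : Set G) ≤ normalizer (Y : Set G)) :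
    ((Nat.card Y).Coprime 2 → Y = ⊥) ∧ (⁅Y, Y⁆ = Y → ⁅Y, Y ⊓ centralizer (Y : Set G)⁆ = ⊥ →
      (Cfsg.layer Y).map Y.subtype = Y → Y = ⊥) := by
  haveI : Fact (Nat.Prime 2) := ⟨Nat.prime_two⟩
  have hT' : IsPGroup 2 (T.subgroupOf C) := hT.comap_subtype
  have h1 := CfsgH2.genFitting_normalizer h hT'
  set M := normalizer ((T.subgroupOf C : Subgroup C) : Set C) with hM
  -- image of `M` in `G`
  have hMG : ∀ x : G, x ∈ C ⊓ normalizer (T : Set G) → ∃ y : M, ((y : C) : G) = x := by
    rintro x ⟨hx1, hx2⟩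
    refine ⟨⟨⟨x, hx1⟩, ?_⟩, rfl⟩
    rw [hM, mem_normalizer_iff]
    intro z
    rw [mem_subgroupOf, mem_subgroupOf]
    exact mem_normalizer_iff.mp hx2 z
  let Y' : Subgroup M := (Y.comap C.subtype).comap M.subtype
  have hY'map : (Y'.map M.subtype).map C.subtype = Y := by
    ext x
    constructor
    · rintro ⟨_, ⟨y, hy, rfl⟩, rfl⟩; exact hy
    · intro hx
      obtain ⟨y, hy⟩ := hMG x (hY hx)
      exact ⟨y, ⟨y, by change ((y : C) : G) ∈ Y; rw [hy]; exact hx, rfl⟩, hy⟩
  have hMle : ∀ y : M, ((y : C) : G) ∈ C ⊓ normalizer (T : Set G) := by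
    intro y
    refine ⟨(y : C).2, ?_⟩
    change ((y : C) : G) ∈ normalizer (T : Set G)
    rw [mem_normalizer_iff]
    intro z
    have hy : ∀ w : C, w ∈ T.subgroupOf C ↔ (y : C) * w * (y : C)⁻¹ ∈ T.subgroupOf C := mem_normalizer_iff.mp y.2
    constructor
    · intro hz
      exact (hy ⟨z, hTC hz⟩).mp hz
    · intro hz
      have h3 := (hy ⟨((y : C) : G) * z * ((y : C) : G)⁻¹, hTC hz⟩)
      have hz2 : z ∈ C := by
        have h4 : ((y : C) : G)⁻¹ * (((y : C) : G) * z * ((y : C) : G)⁻¹) * ((y : C) : G) ∈ C :=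
          C.mul_mem (C.mul_mem (C.inv_mem (y : C).2) (hTC hz)) (y : C).2
        simpa [mul_assoc] using h4
      exact (hy ⟨z, hz2⟩).mpr hz
  have hYn' : Y'.Normal := by
    refine ⟨fun a ha b => ?_⟩
    change ((b : C) : G) * ((a : C) : G) * (((b : C) : G))⁻¹ ∈ Y
    exact (mem_normalizer_iff.mp (hYn (hMle b)) _).mp ha
  have e1 : Y' ≃* Y := by
    have e2 := Y'.equivMapOfInjective M.subtype M.subtype_injective
    have e3 := (Y'.map M.subtype).equivMapOfInjective C.subtype C.subtype_injective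
    exact (e2.trans e3).trans (MulEquiv.subgroupCongr hY'map)
  have hbot : Y' = ⊥ → Y = ⊥ := by
    intro h0
    rw [← hY'map, h0, Subgroup.map_bot, Subgroup.map_bot]
  constructor
  · intro hcop
    apply hbot
    have h5 : Y' ≤ Cfsg.pPrimeCore 2 M := by
      refine CfsgH2.le_pPrimeCore hYn' ?_
      rw [Nat.card_congr e1.toEquiv]; exact hcop
    have h6 : Cfsg.pPrimeCore 2 M ≤ Subgroup.centralizer (Cfsg.generalizedFittingSubgroup M : Set M) := by
      rw [h1, ← Subgroup.commutator_eq_bot_iff_le_centralizer]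
      exact CfsgH2.commutator_pPrimeCore_pCore
    have h7 : Y' ≤ Cfsg.pCore 2 M := by
      rw [← h1]; exact (h5.trans h6).trans CfsgH2.centralizer_generalizedFittingSubgroup_le
    apply CfsgH2.eq_bot_of_isPGroup_of_coprime (p := 2) ((CfsgH2.isPGroup_pCore (G := M) 2).to_le h7)
    rw [Nat.card_congr e1.toEquiv]; exact hcop
  · intro hperf _ hlay
    apply hbot
    have h8 : Cfsg.layer Y = ⊤ := CfsgH2.layer_eq_top_of_eq.mp hlay
    have h9 : Cfsg.layer Y' = ⊤ := by
      have := CfsgH2.layer_map_equiv e1.symm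
      rw [← this, h8, Subgroup.map_top_of_surjective _ e1.symm.surjective]
    have h10 : Y' ≤ Cfsg.layer M := by
      have := CfsgH2.IsSubnormal.layer_le hYn'.isSubnormal
      rwa [h9, ← MonoidHom.range_eq_map, Subgroup.range_subtype] at this
    have h11 : Y' ≤ Cfsg.pCore 2 M := by
      rw [← h1]; exact h10.trans CfsgH2.layer_le_generalizedFittingSubgroup
    have hp' : IsPGroup 2 Y' := (CfsgH2.isPGroup_pCore (G := M) 2).to_le h11
    apply CfsgH2.eq_bot_of_perfect_of_isPGroup (p := 2) ?_ hp'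
    have hperf' : Group.IsPerfect Y := Subgroup.isPerfect_iff.mpr hperf
    have hperf'' : Group.IsPerfect Y' := CfsgH2.isPerfect_of_mulEquiv e1.symm hperf'
    exact Subgroup.isPerfect_iff.mp hperf''


/-- Let G be a finite group such that F*(C_G(t)) = O_2(C_G(t)) for every involution t. Then F*(N_G(T)) = O_2(N_G(T)) for every nontrivial 2-subgroup T of G. -/
theorem result {G : Type*} [Group G] [Finite G] (h : ∀ t : G, orderOf t = 2 → Cfsg.generalizedFittingSubgroup ↥(Subgroup.centralizer ({t} : Set G)) = Cfsg.pCore 2 ↥(Subgroup.centralizer ({t} : Set G))) (T : Subgroup G) (hT : IsPGroup 2 ↥T) (hT1 : T ≠ ⊥) : Cfsg.generalizedFittingSubgroup ↥(Subgroup.normalizer (T : Set G)) = Cfsg.pCore 2 ↥(Subgroup.normalizer (T : Set G)) := by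
  haveI : Fact (Nat.Prime 2) := ⟨Nat.prime_two⟩
  set N := Subgroup.normalizer (T : Set G) with hN
  -- a central involution of `T`
  haveI : Nontrivial T := (Subgroup.nontrivial_iff_ne_bot T).mpr hT1
  obtain ⟨z, hz2⟩ : ∃ z : Subgroup.center T, orderOf z = 2 := by
    haveI := hT.center_nontrivial
    have h1 : 2 ∣ Nat.card (Subgroup.center T) := by
      have h2 : IsPGroup 2 (Subgroup.center T) := hT.to_subgroup _
      obtain ⟨n, hn⟩ := IsPGroup.iff_card.mp h2
      have h3 : 1 < Nat.card (Subgroup.center T) := Finite.one_lt_card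
      rw [hn] at h3 ⊢
      have : n ≠ 0 := by rintro rfl; simp at h3
      exact dvd_pow_self 2 this
    exact exists_prime_orderOf_dvd_card' 2 h1
  set t : G := ((z : T) : G) with ht
  have htT : t ∈ T := (z : T).2
  have ht2 : orderOf t = 2 := by
    rw [ht, Subgroup.orderOf_coe, Subgroup.orderOf_coe]; exact hz2
  set C := Subgroup.centralizer ({t} : Set G) with hC
  have hTC : T ≤ C := by
    intro x hx
    rw [hC, Subgroup.mem_centralizer_iff]
    rintro y rfl
    have h3 := Subgroup.mem_center_iff.mp z.2 ⟨x, hx⟩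
    exact (congrArg Subtype.val h3).symm
  -- subgroups of `N` commuting with `O_2(N)` lie in `C ⊓ N`
  have hTp : T ≤ (Cfsg.pCore 2 N).map N.subtype := CfsgH2.subgroupOf_normalizer_le_pCore hT
  have hin : ∀ Y : Subgroup N, ⁅Y, Cfsg.pCore 2 N⁆ = ⊥ → Y.map N.subtype ≤ C ⊓ N := by
    intro Y hY
    refine le_inf ?_ (Subgroup.map_subtype_le _)
    have h4 : ⁅Y.map N.subtype, (Cfsg.pCore 2 N).map N.subtype⁆ = ⊥ := by
      rw [← Subgroup.map_commutator, hY, Subgroup.map_bot]
    intro y hy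
    rw [hC, Subgroup.mem_centralizer_iff]
    rintro w rfl
    exact (CfsgH2.commutator_eq_bot_iff_forall.mp h4 y hy _ (hTp htT)).symm
  have hnorm : ∀ Y : Subgroup N, Y.Normal → C ⊓ N ≤ Subgroup.normalizer ((Y.map N.subtype : Subgroup G) : Set G) := by
    intro Y hY
    refine inf_le_right.trans ?_
    exact CfsgH1.le_normalizer_of_normal_subgroupOf (Subgroup.map_subtype_le _) (by
      rw [Subgroup.subgroupOf, Subgroup.comap_map_eq_self_of_injective N.subtype_injective]; exact hY)
  have hO : Cfsg.pPrimeCore 2 N = ⊥ := by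
    have h5 := (aux hTC (h t ht2) hT ((Cfsg.pPrimeCore 2 N).map N.subtype)
      (hin _ CfsgH2.commutator_pPrimeCore_pCore) (hnorm _ inferInstance)).1 ?_
    · exact (Subgroup.map_eq_bot_iff_of_injective _ N.subtype_injective).mp h5
    · rw [Subgroup.card_map_of_injective N.subtype_injective]; exact CfsgH2.coprime_card_pPrimeCore 2
  have hE : Cfsg.layer N = ⊥ := by
    have h6 : ⁅Cfsg.layer N, Cfsg.pCore 2 N⁆ = ⊥ :=
      CfsgH2.commutator_layer_eq_bot_of_solvable_subnormal
        (inferInstance : (Cfsg.pCore 2 N).Normal).isSubnormal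
        (CfsgH1.isSolvable_of_isPGroup (CfsgH2.isPGroup_pCore 2))
    have h5 := (aux hTC (h t ht2) hT ((Cfsg.layer N).map N.subtype)
      (hin _ h6) (hnorm _ inferInstance)).2 ?_ ?_ ?_
    · exact (Subgroup.map_eq_bot_iff_of_injective _ N.subtype_injective).mp h5
    · rw [← Subgroup.map_commutator, CfsgH2.commutator_layer]
    · rw [CfsgH2.commutator_eq_bot_iff_forall]
      intro a ha b hb
      exact Subgroup.mem_centralizer_iff.mp hb.2 a ha
    · rw [CfsgH2.layer_eq_top_of_eq]
      exact CfsgH2.layer_eq_top_of_mulEquiv ((Cfsg.layer N).equivMapOfInjective _ N.subtype_injective)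
        CfsgH2.layer_layer_eq_top
  unfold Cfsg.generalizedFittingSubgroup
  rw [hE, bot_sup_eq, CfsgH2.fittingSubgroup_eq_pCore_of_pPrimeCore_eq_bot hO]

end Cfsg.Agent.S1292
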