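import Cfsg.Statements.S1293
import Cfsg.Agent.H2.LocalQ

set_option autoImplicit false
open Cfsg
open scoped commutatorElement

namespace Cfsg.Agent.S1293

/-- Let G be finite with L_{p'}(G) = 1, and H = N_G(P) for a nontrivial p-subgroup P. Then L_{p'}(H) = 1 and O_{p'}(H) ≤ O_{p'}(G). -/
theorem result {G : Type*} [Group G] [Finite G] (p : ℕ) [Fact p.Prime] (hL : Cfsg.pLayer p G = ⊥) (P : Subgroup G) (hP : IsPGroup p ↥P) (hP1 : P ≠ ⊥) : Cfsg.pLayer p ↥(Subgroup.normalizer (P : Set G)) = ⊥ ∧ (Cfsg.pPrimeCore p ↥(Subgroup.normalizer (P : Set G))).map (Subgroup.normalizer (P : Set G)).subtype ≤ Cfsg.pPrimeCore p G := by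
  set H := Subgroup.normalizer (P : Set G) with hH
  set O := Cfsg.pPrimeCore p G with hO
  set π := QuotientGroup.mk' O with hπ
  have hlay : Cfsg.layer (G ⧸ O) = ⊥ := CfsgH2.pLayer_eq_bot_iff.mp hL
  have hpc : Cfsg.pPrimeCore p (G ⧸ O) = ⊥ := CfsgH2.pPrimeCore_quotient_pPrimeCore p
  have hF : Cfsg.generalizedFittingSubgroup (G ⧸ O) = Cfsg.pCore p (G ⧸ O) := by
    unfold Cfsg.generalizedFittingSubgroup
    rw [hlay, bot_sup_eq, CfsgH2.fittingSubgroup_eq_pCore_of_pPrimeCore_eq_bot hpc]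
  have hPbar : IsPGroup p (P.map π) := hP.map _
  have hNbar : Subgroup.normalizer ((P.map π : Subgroup (G ⧸ O)) : Set (G ⧸ O)) = H.map π :=
    CfsgH2.normalizer_map_mk' hP (CfsgH2.coprime_card_pPrimeCore p)
  have hcent : Subgroup.centralizer (Cfsg.pCore p (G ⧸ O) : Set (G ⧸ O)) ≤ Cfsg.pCore p (G ⧸ O) := by
    rw [← hF]; exact CfsgH2.centralizer_generalizedFittingSubgroup_le
  -- part (2): cores
  have h2 : (Cfsg.pPrimeCore p H).map H.subtype ≤ O := by
    set Nb := Subgroup.normalizer ((P.map π : Subgroup (G ⧸ O)) : Set (G ⧸ O)) with hNb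
    have h3 := CfsgH2.pPrimeCore_normalizer_le_centralizer hPbar
    have h4 : (((Cfsg.pPrimeCore p H).map H.subtype).map π) ≤ (Cfsg.pPrimeCore p Nb).map Nb.subtype := by
      have hle : ((Cfsg.pPrimeCore p H).map H.subtype).map π ≤ Nb := by
        rw [hNbar]; exact Subgroup.map_mono (Subgroup.map_subtype_le _)
      have h5 : (((Cfsg.pPrimeCore p H).map H.subtype).map π).subgroupOf Nb ≤ Cfsg.pPrimeCore p Nb := by
        refine CfsgH2.le_pPrimeCore ?_ ?_
        · apply CfsgH1.normal_subgroupOf_of_le_normalizer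
          rw [hNbar]
          have h6 : H ≤ Subgroup.normalizer (((Cfsg.pPrimeCore p H).map H.subtype : Subgroup G) : Set G) :=
            CfsgH1.le_normalizer_of_normal_subgroupOf (Subgroup.map_subtype_le _) (by
              rw [Subgroup.subgroupOf, Subgroup.comap_map_eq_self_of_injective H.subtype_injective]; infer_instance)
          exact (Subgroup.map_mono h6).trans (Subgroup.le_normalizer_map π)
        · rw [Nat.card_congr (Subgroup.subgroupOfEquivOfLe hle).toEquiv]
          refine Nat.Coprime.coprime_dvd_left (Subgroup.card_map_dvd _ _) ?_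
          rw [Subgroup.card_map_of_injective H.subtype_injective]
          exact CfsgH2.coprime_card_pPrimeCore p
      have h7 := Subgroup.map_mono (f := Nb.subtype) h5
      rwa [Subgroup.map_subgroupOf_eq_of_le hle] at h7
    have h5 := (h4.trans h3).trans hcent
    have h6 : ((Cfsg.pPrimeCore p H).map H.subtype).map π = ⊥ := by
      apply CfsgH2.eq_bot_of_isPGroup_of_coprime (p := p) ((CfsgH2.isPGroup_pCore p).to_le h5)
      refine Nat.Coprime.coprime_dvd_left (Subgroup.card_map_dvd _ _) ?_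
      rw [Subgroup.card_map_of_injective H.subtype_injective]
      exact CfsgH2.coprime_card_pPrimeCore p
    rw [Subgroup.map_eq_bot_iff, hπ, QuotientGroup.ker_mk'] at h6
    exact h6
  refine ⟨?_, h2⟩
  rw [eq_bot_iff]
  refine sSup_le fun K hK => ?_
  exfalso
  have hperf := CfsgH2.IsPComponent.commutator_self hK
  -- `[K, Y] ≤ O_{p'}(H)` for `Y` the preimage of `O_p(G/O)` in `H`
  let Y : Subgroup H := ((Cfsg.pCore p (G ⧸ O)).comap π).subgroupOf H
  have hYn : Y.Normal := inferInstance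
  have hOH : O.subgroupOf H ≤ Cfsg.pPrimeCore p H := by
    refine CfsgH2.le_pPrimeCore inferInstance ?_
    refine Nat.Coprime.coprime_dvd_left ?_ (CfsgH2.coprime_card_pPrimeCore (G := G) p)
    exact Subgroup.card_comap_dvd_of_injective O H.subtype H.subtype_injective
  have hYp : IsPGroup p (Y.map (QuotientGroup.mk' (Cfsg.pPrimeCore p H))) := by
    rintro ⟨_, y, hy, rfl⟩
    obtain ⟨k, hk⟩ := CfsgH2.isPGroup_pCore (G := G ⧸ O) p ⟨π y, hy⟩
    refine ⟨k, Subtype.ext ?_⟩
    rw [Subgroup.coe_pow, Subgroup.coe_one]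
    change (QuotientGroup.mk' (Cfsg.pPrimeCore p H) y) ^ p ^ k = 1
    rw [← map_pow]
    apply (QuotientGroup.eq_one_iff _).mpr
    apply hOH
    rw [Subgroup.mem_subgroupOf, Subgroup.coe_pow, ← QuotientGroup.eq_one_iff]
    have h8 := congrArg Subtype.val hk
    rw [Subgroup.coe_pow, Subgroup.coe_one] at h8
    change π ((y : G) ^ p ^ k) = 1
    rw [map_pow]; exact h8
  have hKY : ⁅K, Y⁆ ≤ Cfsg.pPrimeCore p H := by
    have hn : (Y.map (QuotientGroup.mk' (Cfsg.pPrimeCore p H))).Normal := hYn.map _ (QuotientGroup.mk'_surjective _)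
    have h1 := CfsgH2.IsComponent.commutator_eq_bot_of_solvable_subnormal hK.2.1 hn.isSubnormal
      (CfsgH1.isSolvable_of_isPGroup hYp)
    rw [← Subgroup.map_commutator, Subgroup.map_eq_bot_iff, QuotientGroup.ker_mk'] at h1
    exact h1
  set K' := K.map H.subtype with hK'
  have hK'perf : ⁅K', K'⁆ = K' := by rw [hK', ← Subgroup.map_commutator, hperf]
  -- `K` commutes with `P`
  have hKP : ⁅K', P⁆ = ⊥ := by
    have h9 : ⁅K, Cfsg.pCore p H⁆ = ⊥ := by
      rw [← le_bot_iff, ← CfsgH2.commutator_pLayer_pCore (p := p) (X := H)]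
      exact Subgroup.commutator_mono (CfsgH2.IsPComponent.le_pLayer hK) le_rfl
    have h10 : ⁅K', (Cfsg.pCore p H).map H.subtype⁆ = ⊥ := by
      rw [hK', ← Subgroup.map_commutator, h9, Subgroup.map_bot]
    rw [← le_bot_iff, ← h10]
    exact Subgroup.commutator_mono le_rfl (CfsgH2.subgroupOf_normalizer_le_pCore hP)
  have hmain : ⁅Cfsg.pCore p (G ⧸ O), K'.map π⁆ = ⊥ := by
    refine CfsgH2.perfect_axb (B := P.map π) ?_ hPbar ?_ (CfsgH2.isPGroup_pCore p)
      (CfsgH1.le_normalizer_of_normal _ _) (CfsgH1.le_normalizer_of_normal _ _) ?_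
    · rw [← Subgroup.map_commutator, hK'perf]
    · rw [← Subgroup.map_commutator, hKP, Subgroup.map_bot]
    · rw [Subgroup.commutator_comm, CfsgH2.commutator_eq_bot_iff_forall]
      rintro _ ⟨k, hk, rfl⟩ q ⟨hq1, hq2⟩
      have hq3 : q ∈ H.map π := by
        rw [← hNbar]; exact Subgroup.centralizer_le_normalizer _ hq2
      obtain ⟨y, hy, rfl⟩ := hq3
      obtain ⟨k0, hk0, rfl⟩ := hk
      have h11 : ⁅k0, (⟨y, hy⟩ : H)⁆ ∈ Cfsg.pPrimeCore p H :=
        hKY (Subgroup.commutator_mem_commutator hk0 hq1)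
      have h12 : (⁅(k0 : G), y⁆ : G) ∈ O := h2 ⟨_, h11, rfl⟩
      have h13 : π ⁅(k0 : G), y⁆ = 1 := (QuotientGroup.eq_one_iff _).mpr h12
      rw [map_commutatorElement, commutatorElement_eq_one_iff_mul_comm] at h13
      exact h13
  have h14 : K'.map π ≤ Cfsg.pCore p (G ⧸ O) := by
    refine le_trans ?_ hcent
    rw [← Subgroup.commutator_eq_bot_iff_le_centralizer, Subgroup.commutator_comm]
    exact hmain
  have h15 : K'.map π = ⊥ := by
    apply CfsgH2.eq_bot_of_perfect_of_isPGroup (p := p) ?_ ((CfsgH2.isPGroup_pCore p).to_le h14)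
    rw [← Subgroup.map_commutator, hK'perf]
  rw [Subgroup.map_eq_bot_iff, hπ, QuotientGroup.ker_mk'] at h15
  have h16 : p ∣ Nat.card K' := by
    rw [hK', Subgroup.card_map_of_injective H.subtype_injective]; exact CfsgH2.IsPComponent.dvd_card hK
  have h17 := h16.trans (Subgroup.card_dvd_of_le h15)
  have h18 := CfsgH2.coprime_card_pPrimeCore (G := G) p
  exact ((Fact.out : p.Prime).coprime_iff_not_dvd.mp h18.symm) h17

end Cfsg.Agent.S1293
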