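import Cfsg.Statements.S1323
import Cfsg.Agent.H2.AltStd

set_option autoImplicit false
open Cfsg
open scoped commutatorElement

namespace Cfsg.Agent.S1323

/-- For n ≥ 9, the subgroup of the alternating group on Fin n fixing each of the points 0, 1, 2, 3 is a standard subgroup. -/
theorem result (n : ℕ) (h4 : 4 ≤ n) (hn : 9 ≤ n) : Cfsg.IsStandardSubgroup (⨅ i : Fin 4, MulAction.stabilizer ↥(alternatingGroup (Fin n)) (Fin.castLE h4 i : Fin n)) := by
  obtain ⟨s, hs⟩ : ∃ s : Finset (Fin n), s = (Finset.univ.image (Fin.castLE h4))ᶜ := ⟨_, rfl⟩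
  have hsc : sᶜ.card = 4 := by
    rw [hs, compl_compl, Finset.card_image_of_injective _ (Fin.castLE_injective h4), Finset.card_univ, Fintype.card_fin]
  have hs5 : 5 ≤ s.card := by
    have := Finset.card_add_card_compl s
    rw [hsc, Fintype.card_fin] at this
    omega
  have hmem : ∀ x, x ∉ s ↔ ∃ i : Fin 4, Fin.castLE h4 i = x := by
    intro x
    rw [hs, Finset.mem_compl, not_not, Finset.mem_image]
    simp
  have hA : (⨅ i : Fin 4, MulAction.stabilizer ↥(alternatingGroup (Fin n)) (Fin.castLE h4 i : Fin n)) = CfsgH2.RA s := by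
    ext k
    rw [Subgroup.mem_iInf, CfsgH2.mem_RA']
    constructor
    · intro h x hx
      obtain ⟨i, rfl⟩ := (hmem x).mp hx
      exact MulAction.mem_stabilizer_iff.mp (h i)
    · intro h i
      rw [MulAction.mem_stabilizer_iff]
      exact h _ ((hmem _).mpr ⟨i, rfl⟩)
  rw [hA]
  exact CfsgH2.standard_RA hs5 hsc

end Cfsg.Agent.S1323
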