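import Cfsg.Statements.S2247
import Cfsg.Agent.L.Sz.Syl

set_option autoImplicit false
open Cfsg

namespace Cfsg.Agent.S2247
open Subgroup
open CfsgL.Sz

/-- In the Suzuki group with q = 2^(2m+1), m ≥ 1 (realised as the stabiliser in SL₄ of the Suzuki–Tits ovoid), the normalizer of a Sylow 2-subgroup P is a maximal subgroup and is the only maximal subgroup containing P. -/
theorem result {F : Type*} [Field F] [Fintype F] {m : ℕ} (hm : 1 ≤ m) (hF : Fintype.card F = 2 ^ (2 * m + 1)) (P : Sylow 2 ↥(Cfsg.Sz F m)) :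
    IsCoatom (Subgroup.normalizer ((P : Subgroup ↥(Cfsg.Sz F m)) : Set ↥(Cfsg.Sz F m))) ∧
    ∀ M : Subgroup ↥(Cfsg.Sz F m), IsCoatom M → (P : Subgroup ↥(Cfsg.Sz F m)) ≤ M → M = Subgroup.normalizer ((P : Subgroup ↥(Cfsg.Sz F m)) : Set ↥(Cfsg.Sz F m)) := by
  haveI := CfsgL.Sz.char_two hF
  haveI : Fact (Fintype.card F = 2 ^ (2 * m + 1)) := ⟨hF⟩
  haveI : Fact (1 ≤ m) := ⟨hm⟩
  obtain ⟨x, hx⟩ := sylow_conj (F := F) (m := m) P
  have hN : normalizer ((P : Subgroup (Cfsg.Sz F m)) : Set (Cfsg.Sz F m)) =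
      MulAction.stabilizer (Cfsg.Sz F m) (x⁻¹ • pinf F m) := by
    ext g
    rw [sylow_norm hx, MulAction.mem_stabilizer_iff, mem_BB, eq_inv_smul_iff, mul_smul, mul_smul]
  haveI : MulAction.IsPreprimitive (Cfsg.Sz F m) (Om F m) :=
    MulAction.isPreprimitive_of_is_two_pretransitive isTwoTrans
  have hco : IsCoatom (MulAction.stabilizer (Cfsg.Sz F m) (x⁻¹ • pinf F m)) := by
    haveI : Nontrivial (Om F m) := ⟨⟨pinf F m, pzero F m, (pp_ne_inf _ _).symm⟩⟩
    exact (MulAction.isCoatom_stabilizer_iff_preprimitive _ _).2 inferInstance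
  rw [← hN] at hco
  refine ⟨hco, ?_⟩
  intro M hM hPM
  -- conjugate everything
  have hMle : M ≤ normalizer ((P : Subgroup (Cfsg.Sz F m)) : Set (Cfsg.Sz F m)) := by
    by_contra hnot
    obtain ⟨g, hgM, hgN⟩ := SetLike.not_le_iff_exists.1 hnot
    apply hM.1
    have hU : ∀ a b, x⁻¹ * u m a b * x ∈ M := fun a b => hPM ((hx _).2 (by
      have : x * (x⁻¹ * u m a b * x) * x⁻¹ = u m a b := by group
      rw [this]; exact u_mem_QQ a b))
    -- M is transitive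
    have htr : ∀ p : Om F m, ∃ k ∈ M, k • (x⁻¹ • pinf F m) = p := by
      have h1 : (x * g * x⁻¹) • pinf F m ≠ pinf F m := fun h => hgN ((sylow_norm hx g).2 (mem_BB.2 h))
      obtain ⟨a, b, hab⟩ := exists_pp h1
      intro p
      by_cases hp : x • p = pinf F m
      · exact ⟨1, one_mem _, by rw [one_smul, inv_smul_eq_iff, hp]⟩
      · obtain ⟨c, d, hcd⟩ := exists_pp hp
        refine ⟨(x⁻¹ * u m c d * x) * (x⁻¹ * u m a b * x)⁻¹ * g, mul_mem (mul_mem (hU _ _) (inv_mem (hU _ _))) hgM, ?_⟩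
        have h2 : (x⁻¹ * u m c d * x) * (x⁻¹ * u m a b * x)⁻¹ * g =
            x⁻¹ * (u m c d * (u m a b)⁻¹) * (x * g * x⁻¹) * x := by group
        rw [h2, mul_smul, smul_inv_smul, mul_smul, hab, mul_smul, mul_smul, inv_smul_eq_iff, ← u_smul_zero a b,
          inv_smul_smul, u_smul_zero, hcd]
    let N : Subgroup (Cfsg.Sz F m) := normalClosure (ZQ F m : Set (Cfsg.Sz F m))
    have hNtop : N = ⊤ := eq_top_of_normal subset_normalClosure
    rw [eq_top_iff, ← hNtop]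
    rw [show N = Subgroup.closure (Group.conjugatesOfSet (ZQ F m : Set (Cfsg.Sz F m))) from rfl, closure_le]
    intro y hy
    obtain ⟨z, hz, hzy⟩ := Group.mem_conjugatesOfSet_iff.1 hy
    obtain ⟨c, rfl⟩ := isConj_iff.1 hzy
    obtain ⟨k, hkM, hk⟩ := htr (c • pinf F m)
    have h3 : x * (k⁻¹ * c) ∈ BB F m := by
      rw [mem_BB, mul_smul, mul_smul, ← hk, inv_smul_smul, smul_inv_smul]
    have h4 : x * (k⁻¹ * c) * z * (x * (k⁻¹ * c))⁻¹ ∈ QQ F m := QQ_norm_conj h3 (ZQ_le_QQ hz)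
    obtain ⟨a, b, hab⟩ := h4
    have h5 := hU a b
    rw [← hab] at h5
    have h6 : c * z * c⁻¹ = k * (x⁻¹ * (x * (k⁻¹ * c) * z * (x * (k⁻¹ * c))⁻¹) * x) * k⁻¹ := by group
    rw [SetLike.mem_coe, h6]
    exact mul_mem (mul_mem hkM h5) (inv_mem hkM)
  rcases hM.le_iff.1 hMle with h | h
  · exact absurd h hco.1
  · exact h.symm

end Cfsg.Agent.S2247
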