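import Mathlib
import Cfsg.Statements.S2477

set_option autoImplicit false
open Cfsg

namespace Cfsg.Agent.S2477

set_option maxRecDepth 100000

theorem dec : ∀ (c2 : Fin 6) (c3 : Fin 4) (c4 : Fin 3) (c5 : Fin 3) (c6 c7 c8 c9 c10 : Fin 2),
    2 * c2.val + 3 * c3.val + 4 * c4.val + 5 * c5.val + 6 * c6.val + 7 * c7.val + 8 * c8.val + 9 * c9.val + 10 * c10.val ≤ 10 →
    (3 * c2.val + 4 * c3.val + 5 * c4.val + 6 * c5.val + 7 * c6.val + 8 * c7.val + 9 * c8.val + 10 * c9.val + 11 * c10.val) % 2 = 0 →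
    (Nat.lcm (if c2.val = 0 then 1 else 2) (Nat.lcm (if c3.val = 0 then 1 else 3) (Nat.lcm (if c4.val = 0 then 1 else 4)
      (Nat.lcm (if c5.val = 0 then 1 else 5) (Nat.lcm (if c6.val = 0 then 1 else 6) (Nat.lcm (if c7.val = 0 then 1 else 7)
      (Nat.lcm (if c8.val = 0 then 1 else 8) (Nat.lcm (if c9.val = 0 then 1 else 9) (if c10.val = 0 then 1 else 10))))))))) ∈
      [1, 2, 3, 4, 5, 6, 7, 8, 9, 10, 12, 15, 21] := by decide +kernel

theorem lcm_eq (m : Multiset ℕ) (h2 : ∀ c ∈ m, 2 ≤ c) (h10 : ∀ c ∈ m, c ≤ 10) :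
    m.lcm = (Nat.lcm (if m.count 2 = 0 then 1 else 2) (Nat.lcm (if m.count 3 = 0 then 1 else 3) (Nat.lcm (if m.count 4 = 0 then 1 else 4)
      (Nat.lcm (if m.count 5 = 0 then 1 else 5) (Nat.lcm (if m.count 6 = 0 then 1 else 6) (Nat.lcm (if m.count 7 = 0 then 1 else 7)
      (Nat.lcm (if m.count 8 = 0 then 1 else 8) (Nat.lcm (if m.count 9 = 0 then 1 else 9) (if m.count 10 = 0 then 1 else 10))))))))) := by
  apply Nat.dvd_right_iff_eq.1
  intro a
  rw [Multiset.lcm_dvd]
  simp only [Nat.lcm_dvd_iff]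
  have hk : ∀ k : ℕ, (if m.count k = 0 then 1 else k) ∣ a ↔ (k ∈ m → k ∣ a) := by
    intro k
    by_cases h : m.count k = 0
    · rw [if_pos h]
      have : k ∉ m := Multiset.count_eq_zero.1 h
      exact ⟨fun _ h1 => absurd h1 this, fun _ => one_dvd _⟩
    · rw [if_neg h]
      have : k ∈ m := by
        by_contra h1
        exact h (Multiset.count_eq_zero.2 h1)
      exact ⟨fun h1 _ => h1, fun h1 => h1 this⟩
  simp only [hk]
  constructor
  · intro h
    exact ⟨h 2, h 3, h 4, h 5, h 6, h 7, h 8, h 9, h 10⟩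
  · rintro ⟨g2, g3, g4, g5, g6, g7, g8, g9, g10⟩ c hc
    have hl := h2 c hc
    have hu := h10 c hc
    interval_cases c
    · exact g2 hc
    · exact g3 hc
    · exact g4 hc
    · exact g5 hc
    · exact g6 hc
    · exact g7 hc
    · exact g8 hc
    · exact g9 hc
    · exact g10 hc

theorem sum_eq (m : Multiset ℕ) (h2 : ∀ c ∈ m, 2 ≤ c) (h10 : ∀ c ∈ m, c ≤ 10) :
    m.sum = 2 * m.count 2 + 3 * m.count 3 + 4 * m.count 4 + 5 * m.count 5 + 6 * m.count 6 + 7 * m.count 7 + 8 * m.count 8 + 9 * m.count 9 + 10 * m.count 10 ∧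
    Multiset.card m = m.count 2 + m.count 3 + m.count 4 + m.count 5 + m.count 6 + m.count 7 + m.count 8 + m.count 9 + m.count 10 := by
  induction m using Multiset.induction_on with
  | empty => simp
  | cons a m ih =>
    obtain ⟨i1, i2⟩ := ih (fun c hc => h2 c (Multiset.mem_cons_of_mem hc)) (fun c hc => h10 c (Multiset.mem_cons_of_mem hc))
    have hl := h2 a (Multiset.mem_cons_self a m)
    have hu := h10 a (Multiset.mem_cons_self a m)
    rw [Multiset.sum_cons, Multiset.card_cons, i1, i2]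
    simp only [Multiset.count_cons]
    interval_cases a <;> simp <;> omega

theorem mem_of (m : Multiset ℕ) (hs : m.sum ≤ 10) (h2 : ∀ c ∈ m, 2 ≤ c) (hp : (m.sum + Multiset.card m) % 2 = 0) :
    m.lcm ∈ Set.range (orderOf : alternatingGroup (Fin 10) → ℕ) := by
  classical
  obtain ⟨y, hy⟩ := (Equiv.Perm.exists_with_cycleType_iff (α := Fin 10) (m := m)).2 ⟨by simpa using hs, h2⟩
  have hsign : Equiv.Perm.sign y = 1 := by
    rw [Equiv.Perm.sign_of_cycleType, hy]
    apply Even.neg_one_pow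
    rw [Nat.even_iff]; exact hp
  refine ⟨⟨y, Equiv.Perm.mem_alternatingGroup.2 hsign⟩, ?_⟩
  rw [← Subgroup.orderOf_coe]
  change orderOf y = _
  rw [← Equiv.Perm.lcm_cycleType, hy]

/-- The set of element orders of the alternating group of degree 10 is {1, 2, 3, 4, 5, 6, 7, 8, 9, 10, 12, 15, 21}. -/
theorem result : Set.range (orderOf : alternatingGroup (Fin 10) → ℕ) = {1, 2, 3, 4, 5, 6, 7, 8, 9, 10, 12, 15, 21} := by
  classical
  apply Set.Subset.antisymm
  · rintro _ ⟨x, rfl⟩
    rw [← Subgroup.orderOf_coe, ← Equiv.Perm.lcm_cycleType]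
    have hsg : Equiv.Perm.sign (x : Equiv.Perm (Fin 10)) = 1 := Equiv.Perm.mem_alternatingGroup.1 x.2
    set y := (x : Equiv.Perm (Fin 10)) with hy
    have h2 : ∀ c ∈ y.cycleType, 2 ≤ c := fun c hc => Equiv.Perm.two_le_of_mem_cycleType hc
    have hsum : y.cycleType.sum ≤ 10 := by
      rw [Equiv.Perm.sum_cycleType]
      have := y.support.card_le_univ
      simpa using this
    have h10 : ∀ c ∈ y.cycleType, c ≤ 10 := fun c hc => (Multiset.single_le_sum (fun _ _ => Nat.zero_le _) _ hc).trans hsum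
    rw [Equiv.Perm.sign_of_cycleType] at hsg
    generalize y.cycleType = m at hsg h2 hsum h10 ⊢
    obtain ⟨e1, e2⟩ := sum_eq m h2 h10
    have hpar : (m.sum + Multiset.card m) % 2 = 0 := by
      by_contra hne
      have hodd : Odd (m.sum + Multiset.card m) := Nat.odd_iff.2 (by omega)
      rw [hodd.neg_one_pow] at hsg
      exact absurd hsg (by decide)
    rw [lcm_eq m h2 h10]
    have h := dec ⟨m.count 2, by omega⟩ ⟨m.count 3, by omega⟩ ⟨m.count 4, by omega⟩ ⟨m.count 5, by omega⟩ ⟨m.count 6, by omega⟩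
      ⟨m.count 7, by omega⟩ ⟨m.count 8, by omega⟩ ⟨m.count 9, by omega⟩ ⟨m.count 10, by omega⟩ (by simp only []; omega) (by simp only []; omega)
    simpa using h
  · intro n hn
    simp only [Set.mem_insert_iff, Set.mem_singleton_iff] at hn
    rcases hn with rfl | rfl | rfl | rfl | rfl | rfl | rfl | rfl | rfl | rfl | rfl | rfl | rfl
    · exact ⟨1, orderOf_one⟩
    · exact mem_of {2, 2} (by decide) (by decide) (by decide)
    · exact mem_of {3} (by decide) (by decide) (by decide)
    · exact mem_of {4, 2} (by decide) (by decide) (by decide)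
    · exact mem_of {5} (by decide) (by decide) (by decide)
    · exact mem_of {3, 2, 2} (by decide) (by decide) (by decide)
    · exact mem_of {7} (by decide) (by decide) (by decide)
    · exact mem_of {8, 2} (by decide) (by decide) (by decide)
    · exact mem_of {9} (by decide) (by decide) (by decide)
    · exact mem_of {5, 2, 2} (by decide) (by decide) (by decide)
    · exact mem_of {4, 3, 2} (by decide) (by decide) (by decide)
    · exact mem_of {5, 3} (by decide) (by decide) (by decide)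
    · exact mem_of {7, 3} (by decide) (by decide) (by decide)

end Cfsg.Agent.S2477
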