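import Cfsg.Statements.S2803
import Cfsg.Agent.H7.PRed5

set_option autoImplicit false
open Cfsg

namespace Cfsg.Agent.S2803

/-- Let L be a finite group and p a prime with C_L(O_p(L)) ≤ O_p(L), T a Sylow p-subgroup, and Y the largest p-reduced normal subgroup of L. Put T_L = C_T(Y) and L_T = N_L(T_L). Then L = L_T · C_L(Y) (elementwise), T_L = O_p(L_T), and Y = Ω₁(Z(T_L)). -/
theorem result {L : Type*} [Group L] [Finite L] {p : ℕ} [Fact p.Prime] (hchar : Subgroup.centralizer (Cfsg.pCore p L : Set L) ≤ Cfsg.pCore p L) (T : Sylow p L) (Y : Subgroup L) (hY : (Cfsg.IsPReducedNormal p Y ∧ ∀ V : Subgroup L, Cfsg.IsPReducedNormal p V → V ≤ Y)) (TL : Subgroup L) (hTL : TL = (T : Subgroup L) ⊓ Subgroup.centralizer (Y : Set L)) : (∀ g : L, ∃ a ∈ Subgroup.normalizer (TL : Set L), ∃ c ∈ Subgroup.centralizer (Y : Set L), g = a * c) ∧ (Cfsg.pCore p ↥(Subgroup.normalizer (TL : Set L))).map (Subgroup.normalizer (TL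 : Set L)).subtype = TL ∧ Y = Cfsg.omegaOne p (TL ⊓ Subgroup.centralizer (TL : Set L)) := by
  subst hTL
  have hCP : CfsgH7.CP p (⊤ : Subgroup L) := by
    unfold CfsgH7.CP
    have h1 : Cfsg.pCoreOf p (⊤ : Subgroup L) = Cfsg.pCore p L := CfsgH2.pCore_top p
    rw [h1, top_inf_eq]; exact hchar
  obtain ⟨h1, h2, h3⟩ := CfsgH7.yl_structure hCP (CfsgH7.isSyl_of_sylow T) (CfsgH7.pr_top_iff.mp hY.1) (fun V hV => hY.2 V (CfsgH7.pr_top_iff.mpr hV))
  rw [top_inf_eq] at h2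
  refine ⟨fun g => ?_, h2, h3⟩
  obtain ⟨a, ha, c, hc, hgac⟩ := h1 g (Subgroup.mem_top g)
  exact ⟨a, (Subgroup.mem_inf.mp ha).2, c, (Subgroup.mem_inf.mp hc).2, hgac⟩

end Cfsg.Agent.S2803
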