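import Cfsg.Statements.S2830
import Cfsg.Agent.H7.PIrr2

set_option autoImplicit false
open Cfsg

namespace Cfsg.Agent.S2830

/-- Let H act by conjugation on the elementary abelian p-subgroup V of a finite group G (H ≤ N(V)), with H p-irreducible and O^p(H) not centralizing V. Then C_H(V) is p-closed and C_T(V) ≤ O_p(H) for every p-subgroup T of H. If in addition O_p(H) centralizes V, then C_T(V) = T ∩ O_p(H) for every p-subgroup T of H, and V is p-reduced for H: O_p(H/C_H(V)) = 1. -/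
theorem result {G : Type*} [Group G] [Finite G] {p : ℕ} [Fact p.Prime] (V H : Subgroup G) (hV : Cfsg.IsElementaryAbelian p V) (hHV : H ≤ Subgroup.normalizer (V : Set G)) (hH : Cfsg.IsPIrreducible p ↥H) (hnc : ¬ (Cfsg.pResidual p ↥H).map H.subtype ≤ Subgroup.centralizer (V : Set G)) [hn : ((Subgroup.centralizer (V : Set G)).subgroupOf H).Normal] : Cfsg.IsPClosed p ↥(H ⊓ Subgroup.centralizer (V : Set G)) ∧ (∀ T : Subgroup G, T ≤ H → IsPGroup p ↥T → T ⊓ Subgroup.centralizer (V : Set G) ≤ Cfsg.pCoreOf p H) ∧ (Cfsg.pCoreOf p H ≤ Subgroup.centralizer (V : Set G) → (∀ T : Subgroup G, T ≤ H → IsPGroup p ↥T → T ⊓ Subgroup.centralizer (V : Set G) = T ⊓ Cfsg.pCoreOf p H) ∧ Cfsg.pCore p (↥H ⧸ (Subgroup.centralizer (V : Set G)).subgroupOf H) = ⊥) := by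
  have hH' := CfsgH7.pir_iff.mp hH
  rw [CfsgH7.map_pResidual] at hnc
  refine ⟨CfsgH7.pcl_iff.mpr (hH'.act hHV hnc), fun T hTH hT => hH'.act_cent hHV hnc hTH hT, fun hO => ⟨fun T hTH hT => ?_, ?_⟩⟩
  · exact le_antisymm (le_inf inf_le_left (hH'.act_cent hHV hnc hTH hT)) (inf_le_inf le_rfl hO)
  · refine CfsgH7.pCore_quot_eq_bot fun N hN hNp => ?_
    have h1 := hH'.act_red hHV hnc hO (N := N.map H.subtype) (Subgroup.map_subtype_le _) (CfsgH7.normalizer_map_iff.mpr hN) (by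
      rintro _ ⟨x, hx, rfl⟩ hxo
      exact hNp x hx (by rwa [← Subgroup.orderOf_coe]))
    intro x hx
    exact h1 ⟨x, hx, rfl⟩

end Cfsg.Agent.S2830
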