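import Cfsg.Statements.S2835
import Cfsg.Agent.H7.PIrr3

set_option autoImplicit false
open Cfsg

namespace Cfsg.Agent.S2835

/-- Let L be a finite group, L₀ a maximal subgroup, T a Sylow p-subgroup of L₀ and Y ≤ T, and suppose L is Y-minimal (generated by the conjugates of Y, with Y in exactly one maximal subgroup, necessarily L₀). Then N_L(T) ≤ L₀, O_p(L) ≤ L₀ and T is a Sylow p-subgroup of L; N_L(L₀) = L₀; L = ⟨Y, gYg⁻¹⟩ for each g ∈ L outside L₀; and if Y is abelian then Y ∩ gYg⁻¹ = C_Y(L) for each such g. -/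
theorem result {L : Type*} [Group L] [Finite L] {p : ℕ} [Fact p.Prime] (L₀ : Subgroup L) (hL₀ : IsCoatom L₀) (T : Sylow p ↥L₀) (Y : Subgroup L) (hYT : Y ≤ (T : Subgroup ↥L₀).map L₀.subtype) (hmin : Cfsg.IsMinimalOver Y) : Subgroup.normalizer (((T : Subgroup ↥L₀).map L₀.subtype : Subgroup L) : Set L) ≤ L₀ ∧ Cfsg.pCore p L ≤ L₀ ∧ (∃ P : Sylow p L, (P : Subgroup L) = (T : Subgroup ↥L₀).map L₀.subtype) ∧ Subgroup.normalizer (L₀ : Set L) = L₀ ∧ (∀ g : L, g ∉ L₀ → Y ⊔ Y.map (MulAut.conj g).toMonoidHom = ⊤) ∧ (IsMulCommutative ↥Y → ∀ g : L, g ∉ L₀ → Y ⊓ Y.map (MulAut.conj g).toMonoidHom = Y ⊓ Subgroup.center L) := by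
  have hT := CfsgH7.isSyl_map_subtype T
  have hYL₀ : Y ≤ L₀ := hYT.trans hT.le
  have hY := CfsgH7.ym_of hL₀ hYL₀ hmin
  obtain ⟨h1, h2⟩ := hY.syl hT hYT
  refine ⟨h1, ?_, ?_, hY.normalizer_eq, fun g hg => hY.gen_two hg, fun hab g hg => ?_⟩
  · have h3 := CfsgH7.core_le_syl h2
    rw [CfsgH7.pCoreOf_top'] at h3
    exact h3.trans hT.le
  · obtain ⟨P, -, hP⟩ := h2.exists_sylow
    have h4 : IsPGroup p ↥((T : Subgroup ↥L₀).map L₀.subtype) := hT.isPGroup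
    obtain ⟨Q, hQ⟩ := h4.exists_le_sylow
    refine ⟨Q, ?_⟩
    exact h2.eq_of_le Q.isPGroup' hQ le_top
  · refine hY.inter ?_ hg
    intro x hx
    rw [Subgroup.mem_centralizer_iff]
    intro y hy
    have := hab
    exact congrArg Subtype.val (mul_comm' (⟨y, hy⟩ : ↥Y) ⟨x, hx⟩)

end Cfsg.Agent.S2835
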