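import Cfsg.Statements.S2842
import Cfsg.Agent.H7.Large

set_option autoImplicit false
open Cfsg

namespace Cfsg.Agent.S2842

/-- Let Q be a nontrivial p-subgroup of the finite group H that is a weakly closed subgroup with C_H(Q) ≤ Q, and Q ≤ L ≤ H. Suppose H has characteristic p, or more generally that C_H(y) has characteristic p for some nonidentity y ∈ C_{O_p(L)}(Q). Then [Q, C_H(O_p(L))] ≤ Q ∩ O_p(L), C_H(O_p(L)) is a p-group, and L has characteristic p. -/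
theorem result {H : Type*} [Group H] [Finite H] {p : ℕ} [Fact p.Prime] (Q : Subgroup H) (hQp : IsPGroup p ↥Q) (hQ1 : Q ≠ ⊥) (hwc : Cfsg.IsWeaklyClosedSubgroup p Q) (hCQ : Subgroup.centralizer ((Q : Subgroup H) : Set H) ≤ Q) (L : Subgroup H) (hQL : Q ≤ L) (hyp : Subgroup.centralizer (Cfsg.pCore p H : Set H) ≤ Cfsg.pCore p H ∨ ∃ y : H, y ≠ 1 ∧ y ∈ (Cfsg.pCoreOf p L) ⊓ Subgroup.centralizer ((Q : Subgroup H) : Set H) ∧ Subgroup.centralizer (Cfsg.pCore p ↥(Subgroup.centralizer ({y} : Set H)) : Set ↥(Subgroup.centralizer ({y} : Set H))) ≤ Cfsg.pCore p ↥(Subgroup.centralizer ({y} : Set H))) : ⁅Q, Subgroup.centralizer (((Cfsg.pCoreOf p L) : Subgroup H) : Set H)⁆ ≤ Q ⊓ (Cfsg.pCoreOf p L) ∧ IsPGroup p ↥(Subgroup.centralizer (((Cfsg.pCoreOf p L) : Subgroup H) : Set H)) ∧ Subgroup.centralizer (Cfsg.pCore p ↥L : Set ↥L) ≤ Cfsg.pCore p ↥L := by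
  have h := (CfsgH7.wc_iff hQp).mp hwc
  rcases hyp with hH | ⟨y, hy1, hy, hyc⟩
  · have hCP : CfsgH7.CP p (⊤ : Subgroup H) := by
      unfold CfsgH7.CP
      rw [CfsgH7.pCoreOf_top', top_inf_eq]; exact hH
    obtain ⟨h1, h2, h3⟩ := CfsgH7.large_struct h hQp hCQ hQL le_top hCP le_top
    exact ⟨h1, h2, CfsgH7.cp_iff.mp h3⟩
  · obtain ⟨hyL, hyQ⟩ := Subgroup.mem_inf.mp hy
    have hQY : Q ≤ Subgroup.centralizer ({y} : Set H) := by
      intro q hq
      rw [Subgroup.mem_centralizer_singleton_iff]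
      exact Subgroup.mem_centralizer_iff.mp hyQ q hq
    obtain ⟨h1, h2, h3⟩ := CfsgH7.large_struct h hQp hCQ hQL hQY (CfsgH7.cp_iff.mpr hyc) (Subgroup.centralizer_le (by
      intro z hz; rw [Set.mem_singleton_iff.mp hz]; exact hyL))
    exact ⟨h1, h2, CfsgH7.cp_iff.mp h3⟩

end Cfsg.Agent.S2842
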