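import Cfsg.Statements.S2845
import Cfsg.Agent.H7.Large

set_option autoImplicit false
open Cfsg

namespace Cfsg.Agent.S2845

/-- Let Q be a nontrivial large p-subgroup of the finite group H. Then for every subgroup L ≥ Q with O_p(L) ≠ 1, C_H(O_p(L)) is a p-group and L has characteristic p, and either the weak closure L° of Q in L equals Q or C_H(L°) = 1; for every subgroup R of H containing a Sylow p-subgroup of H with O_p(R) ≠ 1, C_H(O_p(R)) ≤ O_p(R); and H has parabolic characteristic p. -/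
theorem result {H : Type*} [Group H] [Finite H] {p : ℕ} [Fact p.Prime] (Q : Subgroup H) (hQp : IsPGroup p ↥Q) (hQ1 : Q ≠ ⊥) (hL : Cfsg.IsLarge Q) : (∀ L : Subgroup H, Q ≤ L → Cfsg.pCore p ↥L ≠ ⊥ → IsPGroup p ↥(Subgroup.centralizer (((Cfsg.pCoreOf p L) : Subgroup H) : Set H)) ∧ Subgroup.centralizer (Cfsg.pCore p ↥L : Set ↥L) ≤ Cfsg.pCore p ↥L ∧ (Cfsg.weakClosure Q L = Q ∨ Subgroup.centralizer (((Cfsg.weakClosure Q L) : Subgroup H) : Set H) = ⊥)) ∧ (∀ R : Subgroup H, Cfsg.IsParabolic p R → Cfsg.pCore p ↥R ≠ ⊥ → Subgroup.centralizer (((Cfsg.pCoreOf p R) : Subgroup H) : Set H) ≤ (Cfsg.pCoreOf p R)) ∧ Cfsg.IsOfParabolicCharacteristic p H := by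
  have h := CfsgH7.large_wc hQp hQ1 hL
  refine ⟨fun L hQL hO => ?_, fun R hR hO => CfsgH7.large_par hQp hQ1 hL hR (CfsgH7.pCoreOf_ne_bot_iff.mpr hO), ?_⟩
  · obtain ⟨h1, h2⟩ := CfsgH7.large_char hQp hQ1 hL hQL (CfsgH7.pCoreOf_ne_bot_iff.mpr hO)
    refine ⟨h1, CfsgH7.cp_iff.mp h2, ?_⟩
    rw [h.weakClosure_eq hQp hQL]
    exact CfsgH7.large_alt hQp hQ1 hL
  · intro R hR hR1 hpar
    have hO : Cfsg.pCoreOf p (Subgroup.normalizer (R : Set H)) ≠ ⊥ := by
      intro h1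
      have h2 : R ≤ Cfsg.pCoreOf p (Subgroup.normalizer (R : Set H)) := CfsgH7.le_pCoreOf Subgroup.le_normalizer le_rfl hR
      rw [h1] at h2
      exact hR1 (le_bot_iff.mp h2)
    have h1 := CfsgH7.large_par hQp hQ1 hL hpar hO
    rw [← CfsgH7.cp_iff]
    exact inf_le_right.trans h1

end Cfsg.Agent.S2845
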