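import Cfsg.Statements.S2846
import Cfsg.Agent.H7.FrakM

set_option autoImplicit false
open Cfsg

namespace Cfsg.Agent.S2846

/-- Let Q be a nontrivial large p-subgroup of the finite group H, S a Sylow p-subgroup containing Q, and L a subgroup containing S with O_p(L) ≠ 1 and C_H(O_p(L)) ≤ O_p(L). Then there are a subgroup M containing S having the basic property (M ∈ 𝔐_H, writing Y_X for the largest p-reduced normal subgroup of X and 𝓛_H for the set of subgroups X with O_p(X) ≠ 1 and C_H(O_p(X)) ≤ O_p(X): M ∈ 𝓛_H, M·C_H(Y_M) is the only maximal member of 𝓛_H containing M and its largest p-reduced normal subgroup is again Y_M, C_M(Y_M) is p-closed, and the image of C_M(Y_M) in M/O_p(M) lies in the Frattini subgroup of M/O_p(M)) and a subgroup L* with S ≤ L* ≤ M, O_p(L*) ≠ 1, C_H(O_p(L*)) ≤ O_p(L*), such that L·C_H(Y_L) = L*·C_H(Y_L), the weak closures of Q in L and in L* agree and lie in that of M, and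 Y_L = Y_{L*} ≤ Y_M. If moreover Q is not normal in L, then Q is normal in neither L* nor M. -/
theorem result {H : Type*} [Group H] [Finite H] {p : ℕ} [Fact p.Prime] (Q : Subgroup H) (hQp : IsPGroup p ↥Q) (hQ1 : Q ≠ ⊥) (hLg : Cfsg.IsLarge Q) (S : Sylow p H) (hQS : Q ≤ (S : Subgroup H)) (L : Subgroup H) (hSL : (S : Subgroup H) ≤ L) (hL : L ∈ Cfsg.charPSubgroups p H) : ∃ M Ls : Subgroup H, (S : Subgroup H) ≤ M ∧ Cfsg.IsInFrakM p M ∧ (S : Subgroup H) ≤ Ls ∧ Ls ≤ M ∧ Ls ∈ Cfsg.charPSubgroups p H ∧ L ⊔ Subgroup.centralizer (((Cfsg.largestPReducedOf p L) : Subgroup H) : Set H) = Ls ⊔ Subgroup.centralizer (((Cfsg.largestPReducedOf p L) : Subgroup H) : Set H) ∧ Cfsg.weakClosure Q L = Cfsg.weakClosure Q Ls ∧ Cfsg.weakClosure Q Ls ≤ Cfsg.weakClosure Q M ∧ (Cfsg.largestPReducedOf p L) = (Cfsg.largestPReducedOf p Ls) ∧ (Cfsg.largestPReducedOf p Ls) ≤ (Cfsg.largestPReducedOf p M) ∧ (¬ L ≤ Subgroup.normalizer ((Q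 : Subgroup H) : Set H) → ¬ Ls ≤ Subgroup.normalizer ((Q : Subgroup H) : Set H) ∧ ¬ M ≤ Subgroup.normalizer ((Q : Subgroup H) : Set H)) := by
  have hWC := CfsgH7.large_wc hQp hQ1 hLg
  obtain ⟨M, Ls, h1, h2, h3, h4, h5, h6, h7, h8⟩ := CfsgH7.exists_frakM (CfsgH7.large_parabolic hQp hQ1 hLg) hSL hL
  have hQL : Q ≤ L := hQS.trans hSL
  have hQLs : Q ≤ Ls := hQS.trans h3
  have hQM : Q ≤ M := hQS.trans h1
  have hYp : IsPGroup p ↥(Cfsg.largestPReducedOf p L) := CfsgH7.elem_isPGroup (CfsgH7.pr_largest L).1.2.2.1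
  have hY1 : Cfsg.largestPReducedOf p L ≠ ⊥ := CfsgH7.largest_ne_bot (CfsgH7.cps_cp hL) hSL (CfsgH7.mem_cps.mp hL).1
  have hw1 : Cfsg.weakClosure Q L = Cfsg.weakClosure Q Ls := by
    rw [hWC.weakClosure_eq hQp hQL, hWC.weakClosure_eq hQp hQLs,
      (CfsgH7.large_wclo hQp hQ1 hLg hQL hYp hY1 (CfsgH7.pr_largest L).1.2.1).1,
      (CfsgH7.large_wclo hQp hQ1 hLg hQLs hYp hY1 (by rw [h6]; exact (CfsgH7.pr_largest Ls).1.2.1)).1, h8]
  have hw2 : Cfsg.weakClosure Q Ls ≤ Cfsg.weakClosure Q M := by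
    rw [hWC.weakClosure_eq hQp hQLs, hWC.weakClosure_eq hQp hQM]
    exact CfsgH7.clo_le fun g hg => CfsgH7.cj_le_clo (h4 hg)
  have hn : ¬ L ≤ Subgroup.normalizer (Q : Set H) → ¬ Ls ≤ Subgroup.normalizer (Q : Set H) := by
    intro hn hLs
    apply hn
    have e1 : CfsgH7.clo Ls Q = Q := le_antisymm (CfsgH7.clo_le fun g hg => by rw [CfsgH7.cj_of_mem_normalizer (hLs hg)]) (CfsgH7.le_clo Ls Q)
    rw [hWC.weakClosure_eq hQp hQL, hWC.weakClosure_eq hQp hQLs, e1] at hw1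
    have := CfsgH7.le_normalizer_clo L Q
    rwa [hw1] at this
  refine ⟨M, Ls, h1, h2, h3, h4, h5, h8, hw1, hw2, h6, by rw [← h6]; exact h7, fun hnn => ⟨hn hnn, fun hM => hn hnn (h4.trans hM)⟩⟩

end Cfsg.Agent.S2846
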