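import Cfsg.Statements.S2859
import Cfsg.Agent.H7.WProd

set_option autoImplicit false
open Cfsg

namespace Cfsg.Agent.S2859

/-- Let Q be a nontrivial p-subgroup of the finite group H that is a weakly closed subgroup, H° the weak closure of Q in H (generated by the conjugates of Q) and H_∘ = O^p(H°). Suppose H₁, H₂ are normal subgroups of H° with H° = H₁H₂ and [H₁, H₂] ≤ N_H(Q), and put Kᵢ = O^p of the weak closure of Q in HᵢQ. Then for i = 1, 2: Kᵢ = [Kᵢ, Q] = [Kᵢ, Hᵢ] ≤ Hᵢ′ and Kᵢ is normal in H°; H_∘ = K₁K₂; and [K₁, K₂] ≤ O_p(H°). -/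
theorem result {G : Type*} [Group G] [Finite G] {p : ℕ} [Fact p.Prime] (Q : Subgroup G) (hQp : IsPGroup p ↥Q) (hQ1 : Q ≠ ⊥) (hwc : Cfsg.IsWeaklyClosedSubgroup p Q) (Hc : Subgroup G) (hHc : Hc = Cfsg.weakClosure Q ⊤) (H₁ H₂ : Subgroup G) (hn₁ : H₁ ≤ Hc ∧ Hc ≤ Subgroup.normalizer ((H₁ : Subgroup G) : Set G)) (hn₂ : H₂ ≤ Hc ∧ Hc ≤ Subgroup.normalizer ((H₂ : Subgroup G) : Set G)) (hprod : H₁ ⊔ H₂ = Hc) (hcomm : ⁅H₁, H₂⁆ ≤ Subgroup.normalizer ((Q : Subgroup G) : Set G)) (K₁ K₂ : Subgroup G) (hK₁ : K₁ = ((Cfsg.pResidual p ↥(Cfsg.weakClosure Q (H₁ ⊔ Q))).map ((Cfsg.weakClosure Q (H₁ ⊔ Q))).subtype)) (hK₂ : K₂ = ((Cfsg.pResidual p ↥(Cfsg.weakClosure Q (H₂ ⊔ Q))).map ((Cfsg.weakClosure Q (H₂ ⊔ Q))).subtype)) : (⁅K₁, Q⁆ = K₁ ∧ ⁅K₁, H₁⁆ = K₁ ∧ K₁ ≤ ⁅H₁, H₁⁆ ∧ Hc ≤ Subgroup.normalizer ((K₁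 : Subgroup G) : Set G)) ∧ (⁅K₂, Q⁆ = K₂ ∧ ⁅K₂, H₂⁆ = K₂ ∧ K₂ ≤ ⁅H₂, H₂⁆ ∧ Hc ≤ Subgroup.normalizer ((K₂ : Subgroup G) : Set G)) ∧ K₁ ⊔ K₂ = ((Cfsg.pResidual p ↥Hc).map (Hc).subtype) ∧ ⁅K₁, K₂⁆ ≤ (Cfsg.pCoreOf p Hc) := by
  have hWC := (CfsgH7.wc_iff hQp).mp hwc
  have hw1 := hWC.weakClosure_eq hQp (le_sup_right : Q ≤ H₁ ⊔ Q)
  have hw2 := hWC.weakClosure_eq hQp (le_sup_right : Q ≤ H₂ ⊔ Q)
  have hHc' : Hc = CfsgH7.clo ⊤ Q := by rw [hHc]; exact hWC.weakClosure_eq hQp le_top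
  have hK₁' : K₁ = CfsgH7.rs p (CfsgH7.clo (H₁ ⊔ Q) Q) := by rw [hK₁, CfsgH7.map_pResidual, hw1]
  have hK₂' : K₂ = CfsgH7.rs p (CfsgH7.clo (H₂ ⊔ Q) Q) := by rw [hK₂, CfsgH7.map_pResidual, hw2]
  rw [CfsgH7.map_pResidual]
  rw [hHc'] at hn₁ hn₂ hprod ⊢
  have hQX : Q ≤ CfsgH7.clo ⊤ Q := CfsgH7.le_clo _ _
  obtain ⟨a1, a2, a3, a4, a5⟩ := CfsgH7.wc_prod hWC hQp hn₁ hn₂ hprod hcomm
  obtain ⟨b1, b2, b3, b4, b5⟩ := CfsgH7.wc_prod hWC hQp hn₂ hn₁ (by rw [sup_comm]; exact hprod) (by rw [Subgroup.commutator_comm]; exact hcomm)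
  obtain ⟨c1, c2, c3, c4⟩ := CfsgH7.wc_res hWC hQp (hQX.trans hn₁.2)
  obtain ⟨d1, d2, d3, d4⟩ := CfsgH7.wc_res hWC hQp (hQX.trans hn₂.2)
  rw [← hK₁'] at a1 a2 a3 a4 a5 c1 c2 c3 c4
  rw [← hK₂'] at b1 b2 b3 b4 b5 d1 d2 d3 d4
  refine ⟨⟨a1, a2, a3, a4⟩, ⟨b1, b2, b3, b4⟩, ?_, (Subgroup.commutator_mono le_rfl d1).trans a5⟩
  set X := CfsgH7.clo ⊤ Q with hX
  set W := K₁ ⊔ K₂ ⊔ Q with hW
  have e1 : ∀ g ∈ H₁, CfsgH7.cj g W = W := by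
    intro g hg
    have h1 : W = (K₁ ⊔ Q) ⊔ K₂ := by rw [hW, sup_assoc, sup_comm K₂ Q, ← sup_assoc]
    rw [h1, CfsgH7.cj_sup, CfsgH7.cj_of_mem_normalizer (b4 (hn₁.1 hg)), c2,
      CfsgH7.cj_of_mem_normalizer (CfsgH7.le_normalizer_clo (H₁ ⊔ Q) Q (Subgroup.mem_sup_left hg))]
  have e2 : ∀ g ∈ H₂, CfsgH7.cj g W = W := by
    intro g hg
    have h1 : W = K₁ ⊔ (K₂ ⊔ Q) := by rw [hW, sup_assoc]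
    rw [h1, CfsgH7.cj_sup, CfsgH7.cj_of_mem_normalizer (a4 (hn₂.1 hg)), d2,
      CfsgH7.cj_of_mem_normalizer (CfsgH7.le_normalizer_clo (H₂ ⊔ Q) Q (Subgroup.mem_sup_left hg))]
  have e3 : X ≤ Subgroup.normalizer (W : Set G) := by
    rw [← hprod]
    exact sup_le (fun g hg => (CfsgH7.mem_normalizer_iff_cj).mpr (e1 g hg)) (fun g hg => (CfsgH7.mem_normalizer_iff_cj).mpr (e2 g hg))
  have hKX : K₁ ⊔ K₂ ≤ X := sup_le (c1.trans hn₁.1) (d1.trans hn₂.1)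
  have e4 : K₁ ⊔ K₂ ⊔ Q = X := by
    refine le_antisymm (sup_le hKX hQX) (CfsgH7.clo_le fun g _ => ?_)
    obtain ⟨k, hk, hkQ⟩ := hWC.conj_in hQp hQX (CfsgH7.cj_le_clo (Subgroup.mem_top g) : CfsgH7.cj g Q ≤ X)
    rw [hkQ]
    have h1 := CfsgH7.cj_mono (g := k) (le_sup_right : Q ≤ K₁ ⊔ K₂ ⊔ Q)
    rwa [CfsgH7.cj_of_mem_normalizer (e3 hk)] at h1
  apply le_antisymm
  · refine sup_le ?_ ?_
    · rw [hK₁', ← CfsgH7.rs_rs, ← hK₁']; exact CfsgH7.rs_mono (c1.trans hn₁.1)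
    · rw [hK₂', ← CfsgH7.rs_rs, ← hK₂']; exact CfsgH7.rs_mono (d1.trans hn₂.1)
  · refine CfsgH7.rs_le_of_sup hKX ?_ hQp e4
    intro g hg
    rw [CfsgH7.mem_normalizer_iff_cj, CfsgH7.cj_sup, CfsgH7.cj_of_mem_normalizer (a4 hg), CfsgH7.cj_of_mem_normalizer (b4 hg)]

end Cfsg.Agent.S2859
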