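import Cfsg.Statements.S2860
import Cfsg.Agent.H7.QSL

set_option autoImplicit false
open Cfsg

namespace Cfsg.Agent.S2860

/-- Let Q be a nontrivial large p-subgroup of the finite group H, U a nontrivial elementary abelian p-subgroup of H, and Q ≤ E ≤ N_H(U) with Q not normal in E. Suppose O_p(E/C_E(U)) = 1 and O^p(E)·C_E(U)/C_E(U) is quasisimple. Let E° be the weak closure of Q in E (generated by the conjugates of Q inside E) and E_∘ = O^p(E°). Then O^p(E)·C_E(U) = E_∘·C_E(U); E_∘ is perfect and equals O^p(E_∘); E_∘/C_{E_∘}(U) and E_∘/O_p(E_∘) are quasisimple; and E_∘ = [E_∘, Y] for every p-subgroup Y of E not centralizing U. -/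
theorem result {G : Type*} [Group G] [Finite G] {p : ℕ} [Fact p.Prime] (Q : Subgroup G) (hQp : IsPGroup p ↥Q) (hQ1 : Q ≠ ⊥) (hQ : Cfsg.IsLarge Q) (U : Subgroup G) (hU : Cfsg.IsElementaryAbelian p U) (hU1 : U ≠ ⊥) (E : Subgroup G) (hQE : Q ≤ E) (hEU : E ≤ Subgroup.normalizer ((U : Subgroup G) : Set G)) (hQn : ¬ E ≤ Subgroup.normalizer ((Q : Subgroup G) : Set G)) [hn : ((Subgroup.centralizer ((U : Subgroup G) : Set G)).subgroupOf E).Normal] (hred : Cfsg.pCore p (↥E ⧸ (Subgroup.centralizer ((U : Subgroup G) : Set G)).subgroupOf E) = ⊥) (hqs : Cfsg.IsQuasisimple ↥(((Cfsg.pResidual p ↥E) ⊔ (Subgroup.centralizer ((U : Subgroup G) : Set G)).subgroupOf E).map (QuotientGroup.mk' ((Subgroup.centralizer ((U : Subgroup G) : Set G)).subgroupOf E)))) (Er : Subgroup G) (hEr : Er = ((Cfsg.pResidual p ↥(Cfsg.weakClosure Q E)).map ((Cfsg.weakClosure Q E)).subtype)) [hn2 : ((Subgroup.centralizer ((U : Subgroup G) : Set G)).subgroupOf Er).Normal] : ((Cfsg.pResidual p ↥E).map (E).subtype)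 ⊔ (E ⊓ Subgroup.centralizer ((U : Subgroup G) : Set G)) = Er ⊔ (E ⊓ Subgroup.centralizer ((U : Subgroup G) : Set G)) ∧ ⁅Er, Er⁆ = Er ∧ ((Cfsg.pResidual p ↥Er).map (Er).subtype) = Er ∧ Cfsg.IsQuasisimple (↥Er ⧸ (Subgroup.centralizer ((U : Subgroup G) : Set G)).subgroupOf Er) ∧ Cfsg.IsQuasisimple (↥Er ⧸ Cfsg.pCore p ↥Er) ∧ ∀ Y : Subgroup G, Y ≤ E → IsPGroup p ↥Y → ¬ Y ≤ Subgroup.centralizer ((U : Subgroup G) : Set G) → ⁅Er, Y⁆ = Er := by
  have hWC := CfsgH7.large_wc hQp hQ1 hQ
  have hEr' : Er = CfsgH7.rs p (CfsgH7.clo E Q) := by rw [hEr, CfsgH7.map_pResidual, hWC.weakClosure_eq hQp hQE]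
  obtain ⟨h1, h2, h3, h4, h5, h6, h7⟩ := CfsgH7.qs_large hQp hQ1 hQ hU hU1 hQE hEU hQn hred hqs hEr'
  rw [CfsgH7.map_pResidual, CfsgH7.map_pResidual]
  have hOn : Er ≤ Subgroup.normalizer (Cfsg.pCoreOf p Er : Set G) := CfsgH7.le_normalizer_pCoreOf p Er
  have hBn : Er ≤ Subgroup.normalizer ((Er ⊓ Subgroup.centralizer (U : Set G) : Subgroup G) : Set G) := by
    rw [← Subgroup.normal_subgroupOf_iff_le_normalizer inf_le_left]
    rw [inf_comm, Subgroup.inf_subgroupOf_right]
    exact hn2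
  refine ⟨h1, h2, by rw [hEr', CfsgH7.rs_rs], ?_, ?_, h7⟩
  · refine CfsgH7.qs_quot _ h2 ?_ ?_
    · rw [Subgroup.subgroupOf_map_subtype]
      exact fun h => h6 (h.trans inf_le_left)
    · intro N hN hRN hAN
      rw [Subgroup.subgroupOf_map_subtype] at hAN ⊢
      rcases h3 N hN hRN with h | h
      · left
        rw [← h, eq_comm, sup_eq_left, inf_comm]
        exact hAN
      · right
        refine le_inf h ?_
        refine le_trans ?_ hN
        rw [← Subgroup.le_normalizer_iff_commutator_le_left]; exact hRN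
  · refine CfsgH7.qs_quot _ h2 ?_ ?_
    · exact fun h => h6 (h.trans h5)
    · intro N hN hRN hAN
      have hAN' : Cfsg.pCoreOf p Er ≤ N := hAN
      change N = Er ∨ ⁅N, Er⁆ ≤ Cfsg.pCoreOf p Er
      rcases h3 N hN hRN with h | h
      · left
        refine le_antisymm hN ?_
        have key : ⁅Er, Er⁆ ≤ N := by
          rw [Subgroup.commutator_le]
          intro r hr s hs
          rw [← h, sup_comm] at hr
          obtain ⟨b, hb, n, hn', rfl⟩ := (CfsgH1.mem_sup_of_le_normalizer (inf_le_left.trans hRN)).1 hr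
          rw [CfsgH7.comm_mul_left7]
          refine mul_mem ?_ (hAN' (h4 (Subgroup.commutator_mem_commutator hb hs)))
          refine (Subgroup.mem_normalizer_iff.mp (hRN (Subgroup.mem_inf.mp hb).1) _).mp ?_
          have : ⁅N, Er⁆ ≤ N := by rw [← Subgroup.le_normalizer_iff_commutator_le_left]; exact hRN
          exact this (Subgroup.commutator_mem_commutator hn' hs)
        rw [h2] at key
        exact key
      · right
        have h0 : ⁅⁅N, Er⁆, Er⁆ ≤ Cfsg.pCoreOf p Er := by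
          refine (Subgroup.commutator_mono (le_inf ?_ h) le_rfl).trans h4
          refine le_trans ?_ hN
          rw [← Subgroup.le_normalizer_iff_commutator_le_left]; exact hRN
        have h8 := CfsgH7.three_mod hOn hOn (hN.trans hOn) (by rw [Subgroup.commutator_comm Er N]; exact h0) h0
        rw [h2, Subgroup.commutator_comm] at h8
        exact h8

end Cfsg.Agent.S2860
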