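import Cfsg.Statements.S3554
import Cfsg.Agent.H1.FrobCenter

set_option autoImplicit false
open Cfsg

namespace Cfsg.Agent.S3554

open scoped commutatorElement Pointwise

/-- Let G act faithfully and transitively on a finite set and suppose G has a non-trivial cyclic normal subgroup. Then some element of G of prime order fixes no point. -/
theorem result {G Ω : Type*} [Group G] [Finite G] [MulAction G Ω] [FaithfulSMul G Ω] [Finite Ω]
    (htrans : MulAction.IsPretransitive G Ω) (C : Subgroup G) (hC : C.Normal) (hC1 : C ≠ ⊥) (hcyc : IsCyclic ↥C) :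
    ∃ g : G, (orderOf g).Prime ∧ ∀ ω : Ω, g • ω ≠ ω := by
  classical
  haveI := hC
  have hcard : Nat.card C ≠ 1 := fun h => hC1 (Subgroup.card_eq_one.1 h)
  obtain ⟨q, hq, hqd⟩ := Nat.exists_prime_and_dvd hcard
  haveI : Fact q.Prime := ⟨hq⟩
  obtain ⟨g, hg⟩ := exists_prime_orderOf_dvd_card' q hqd
  have hgo : orderOf (g : G) = q := by rw [← hg]; exact Subgroup.orderOf_coe g
  refine ⟨g, by rw [hgo]; exact hq, ?_⟩
  intro ω hω
  have h1 : ∀ x : G, x * (g : G) * x⁻¹ ∈ Subgroup.zpowers (g : G) := fun x => CfsgH1.conj_mem_zpowers_of_cyclic hcyc g.2 x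
  have h2 : (g : G) = 1 := by
    apply FaithfulSMul.eq_of_smul_eq_smul (α := Ω)
    intro ω'
    obtain ⟨x, rfl⟩ := htrans.exists_smul_eq ω ω'
    have h3 := h1 x⁻¹
    rw [inv_inv] at h3
    have h4 : Subgroup.zpowers (g : G) ≤ MulAction.stabilizer G ω := by
      rw [Subgroup.zpowers_le]; exact hω
    have h5 : (x⁻¹ * (g : G) * x) • ω = ω := h4 h3
    rw [one_smul, ← mul_smul]
    rw [mul_assoc, mul_smul, inv_smul_eq_iff] at h5
    exact h5
  rw [h2, orderOf_one] at hgo
  exact hq.one_lt.ne hgo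

end Cfsg.Agent.S3554
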