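import Cfsg.Statements.S3556
import Mathlib
import Cfsg.Agent.L.PermG.ONS2

set_option autoImplicit false
open Cfsg

namespace Cfsg.Agent.S3556

/-- Let G act faithfully and primitively on a finite set with at least two points, and suppose that for some fixed prime p every element of G fixing no point has order a power of p. Then G is of affine type (it has a regular normal subgroup that is an elementary abelian r-group for some prime r) or almost simple (it has a non-abelian simple normal subgroup with trivial centralizer). -/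
theorem result {G Ω : Type*} [Group G] [Finite G] [MulAction G Ω] [FaithfulSMul G Ω] [Finite Ω]
    (hprim : MulAction.IsPreprimitive G Ω) (hΩ : 2 ≤ Nat.card Ω) (p : ℕ) (hp : p.Prime)
    (hder : ∀ g : G, (∀ ω : Ω, g • ω ≠ ω) → ∃ k : ℕ, orderOf g = p ^ k) :
    (∃ (N : Subgroup G) (r : ℕ), r.Prime ∧ N.Normal ∧ Cfsg.IsElementaryAbelian r N ∧
      MulAction.IsPretransitive N Ω ∧ ∀ a : Ω, MulAction.stabilizer N a = ⊥) ∨
    (∃ T : Subgroup G, T.Normal ∧ IsSimpleGroup ↥T ∧ ¬ IsMulCommutative ↥T ∧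
      Subgroup.centralizer (T : Set G) = ⊥) := by
  classical
  haveI : Nontrivial Ω := Finite.one_lt_card_iff_nontrivial.1 hΩ
  obtain ⟨α⟩ : Nonempty Ω := inferInstance
  obtain ⟨hU, hcore⟩ := CfsgL.ONS.prim_data hprim hΩ α
  haveI : MulAction.IsPretransitive G Ω := hprim.toIsPretransitive
  haveI : Nontrivial G := by
    obtain ⟨β, hβ⟩ := exists_ne α
    obtain ⟨x, hx⟩ := MulAction.exists_smul_eq G α β
    exact ⟨x, 1, fun h => hβ (by rw [← hx, h, one_smul])⟩
  obtain ⟨N, hNn, hN, hmin⟩ := CfsgH1.exists_minNormal (G := G)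
  by_cases hab : ∀ x ∈ N, ∀ y ∈ N, x * y = y * x
  · left
    have hNU := (CfsgH1.cf_abelian hU hcore hN hab).2
    have hsolv : Group.IsSolvable N := by
      letI : CommGroup N := { (inferInstance : Group N) with
        mul_comm := fun a b => Subtype.ext (hab a a.2 b b.2) }
      infer_instance
    obtain ⟨-, r, hr, hr2⟩ := CfsgH1.elemAb_of_min_invariant (B := ⊤) (CfsgH1.le_normalizer_of_normal ⊤ N) hN hsolv
      (fun M hM hle => hmin M (Subgroup.normalizer_eq_top_iff.1 (top_le_iff.1 hM)) hle)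
    refine ⟨N, r, hr, hNn, ⟨⟨⟨fun a b => Subtype.ext (hab a a.2 b b.2)⟩⟩, hr2⟩, ?_, ?_⟩
    · exact CfsgL.ONS.affine_trans α hU hcore hN
    · exact CfsgL.ONS.affine_stab α hNU
  · right
    obtain ⟨T, hT⟩ := CfsgL.ONS.exists_fac N hN hmin
    obtain ⟨rfl, h2⟩ := CfsgL.ONS.main3556 hU hcore hN hab hT hp (fun g hg =>
      hder g ((CfsgL.ONS.derange_iff α g).2 hg))
    exact ⟨T, hNn, hT.simple hab, hT.not_comm hab, h2⟩

end Cfsg.Agent.S3556
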