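import Cfsg.Statements.S3807
import Cfsg.Agent.H1.AbIdx
import Cfsg.Agent.H3.Rank2

set_option autoImplicit false
open Cfsg

namespace Cfsg.Agent.S3807

open scoped commutatorElement Pointwise

theorem main {S : Type*} [Group S] [Finite S] (p : ℕ) [hpf : Fact p.Prime] (hS : IsPGroup p S) (hna : ¬ IsMulCommutative S)
    (A : Subgroup S) (hA : IsMulCommutative ↥A) (hAi : A.index = p) :
    (Subgroup.center S).index = p * Nat.card (commutator S) ∧
      ((Nat.card (commutator S) = p ∧ Cfsg.IsElementaryAbelian p (⊤ : Subgroup (S ⧸ Subgroup.center S)) ∧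
          Nat.card (S ⧸ Subgroup.center S) = p ^ 2 ∧
          Nat.card {B : Subgroup S // IsMulCommutative ↥B ∧ B.index = p} = p + 1) ∨
        (p ^ 2 ≤ Nat.card (commutator S) ∧ ∀ B : Subgroup S, IsMulCommutative ↥B → B.index = p → B = A)) := by
  have hp : p.Prime := hpf.out
  have hab : ∀ B : Subgroup S, IsMulCommutative ↥B → ∀ a ∈ B, ∀ b ∈ B, a * b = b * a := fun B hB a ha b hb => 
    congrArg (fun z : B => (z : S)) (hB.is_comm.comm ⟨a, ha⟩ ⟨b, hb⟩)
  have key := CfsgH1.abidx_key hS hna (hab A hA) hAi
  refine ⟨key, ?_⟩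
  -- |S'| is a nontrivial power of p
  obtain ⟨k, hk⟩ := IsPGroup.iff_card.1 (hS.to_subgroup (commutator S))
  have hk1 : k ≠ 0 := by
    rintro rfl
    rw [pow_zero, Subgroup.card_eq_one, commutator_def, Subgroup.commutator_eq_bot_iff_le_centralizer] at hk
    apply hna
    refine ⟨⟨fun a b => ?_⟩⟩
    exact ((Subgroup.mem_centralizer_iff.1 (hk (Subgroup.mem_top a))) b (Subgroup.mem_top b)).symm
  by_cases hk2 : k = 1
  · left
    subst hk2
    rw [pow_one] at hk
    rw [hk] at key
    have hcard : Nat.card (S ⧸ Subgroup.center S) = p ^ 2 := by rw [sq]; exact key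
    have hncyc : ¬ IsCyclic (S ⧸ Subgroup.center S) := by
      intro h9
      apply hna
      exact ⟨⟨fun a b => commutative_of_cyclic_center_quotient (QuotientGroup.mk' (Subgroup.center S)) (by simp) a b⟩⟩
    have hexp : ∀ x : S ⧸ Subgroup.center S, x ^ p = 1 := by
      intro x
      have h1 : orderOf x ∣ p ^ 2 := hcard ▸ orderOf_dvd_natCard x
      obtain ⟨i, hi, hi2⟩ := (Nat.dvd_prime_pow hp).1 h1
      have hi3 : i ≠ 2 := by
        rintro rfl
        apply hncyc
        exact isCyclic_of_orderOf_eq_card x (by rw [hi2, hcard])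
      rw [← orderOf_dvd_iff_pow_eq_one, hi2]
      calc p ^ i ∣ p ^ 1 := pow_dvd_pow p (by omega)
        _ = p := pow_one p
    refine ⟨hk, ⟨⟨⟨fun a b => Subtype.ext (IsPGroup.commutative_of_card_eq_prime_sq hcard a b)⟩⟩, fun a _ => hexp a⟩, hcard, ?_⟩
    -- counting
    have hcnt := CfsgH1.card_subgroups_order_p hexp
    rw [hcard] at hcnt
    have h2 : p ^ 2 - 1 = (p + 1) * (p - 1) := by
      have := Nat.sq_sub_sq p 1
      simpa using this
    rw [h2] at hcnt
    have h3 := Nat.eq_of_mul_eq_mul_right (by have := hp.two_le; omega) hcnt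
    rw [← h3]
    have hcp : 0 < Nat.card (Subgroup.center S) := Nat.card_pos
    have hSc : Nat.card S = p ^ 2 * Nat.card (Subgroup.center S) := by
      rw [← Subgroup.index_mul_card (Subgroup.center S), key]; ring
    apply Nat.card_congr
    refine ⟨fun B => ⟨B.1.map (QuotientGroup.mk' (Subgroup.center S)), ?_⟩, fun H => ⟨H.1.comap (QuotientGroup.mk' (Subgroup.center S)), ?_, ?_⟩, ?_, ?_⟩
    · have hZB := CfsgH1.center_le_of_abelian_index hna (hab B.1 B.2.1) B.2.2
      have h4 : (B.1.map (QuotientGroup.mk' (Subgroup.center S))).index = p := by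
        rw [Subgroup.index_map_eq _ (QuotientGroup.mk'_surjective _) (by rw [QuotientGroup.ker_mk']; exact hZB)]
        exact B.2.2
      have h5 := Subgroup.index_mul_card (B.1.map (QuotientGroup.mk' (Subgroup.center S)))
      rw [h4, hcard, sq] at h5
      exact Nat.eq_of_mul_eq_mul_left hp.pos h5
    · -- commutative
      set B := H.1.comap (QuotientGroup.mk' (Subgroup.center S)) with hB
      have hcyc : IsCyclic H.1 := isCyclic_of_prime_card H.2
      let f : B →* H.1 := ((QuotientGroup.mk' (Subgroup.center S)).comp B.subtype).codRestrict H.1 (fun b => b.2)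
      have hker : f.ker ≤ Subgroup.center B := by
        intro b hb
        have h6 : (b : S) ∈ Subgroup.center S := by
          have h7 : (f b : S ⧸ Subgroup.center S) = 1 := by rw [MonoidHom.mem_ker.1 hb]; rfl
          exact (QuotientGroup.eq_one_iff (b : S)).1 h7
        rw [Subgroup.mem_center_iff]
        intro g
        exact Subtype.ext (Subgroup.mem_center_iff.1 h6 g)
      exact ⟨⟨fun a b => commutative_of_cyclic_center_quotient f hker a b⟩⟩
    · rw [Subgroup.index_comap_of_surjective _ (QuotientGroup.mk'_surjective _)]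
      have h5 := Subgroup.index_mul_card H.1
      rw [H.2, hcard, sq] at h5
      exact Nat.eq_of_mul_eq_mul_right hp.pos h5
    · rintro ⟨B, hB, hBi⟩
      have hZB := CfsgH1.center_le_of_abelian_index hna (hab B hB) hBi
      apply Subtype.ext
      change (B.map (QuotientGroup.mk' (Subgroup.center S))).comap (QuotientGroup.mk' (Subgroup.center S)) = B
      rw [Subgroup.comap_map_eq, QuotientGroup.ker_mk']
      exact sup_eq_left.2 hZB
    · rintro ⟨H, hH⟩
      apply Subtype.ext
      exact Subgroup.map_comap_eq_self_of_surjective (QuotientGroup.mk'_surjective _) H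
  · right
    have hp2 : p ^ 2 ≤ Nat.card (commutator S) := by
      rw [hk]; exact Nat.pow_le_pow_right hp.pos (by omega)
    refine ⟨hp2, fun B hB hBi => ?_⟩
    by_contra hne
    haveI hAn : A.Normal := CfsgH1.normal_of_index_prime_pgroup hS hAi
    have hBA : ¬ B ≤ A := by
      intro h
      apply hne
      apply Subgroup.eq_of_le_of_card_ge h
      have h1 := Subgroup.index_mul_card A
      have h2 := Subgroup.index_mul_card B
      rw [hAi, ← h2, hBi] at h1
      exact (Nat.eq_of_mul_eq_mul_left hp.pos h1).le
    have h1 : A ⊔ B = ⊤ := CfsgH1.coatom_of_index_prime hAi (lt_of_le_of_ne le_sup_left (fun h => hBA (by rw [h]; exact le_sup_right)))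
    have h2 : B ⊓ A ≤ Subgroup.center S := by
      rintro z ⟨hzB, hzA⟩
      rw [Subgroup.mem_center_iff]
      intro g
      have h3 : (⊤ : Subgroup S) ≤ Subgroup.centralizer {z} := by
        rw [← h1]
        apply sup_le
        · intro a ha
          rw [Subgroup.mem_centralizer_iff]
          intro y hy
          rw [Set.mem_singleton_iff.1 hy]
          exact hab A hA z hzA a ha
        · intro a ha
          rw [Subgroup.mem_centralizer_iff]
          intro y hy
          rw [Set.mem_singleton_iff.1 hy]
          exact hab B hB z hzB a ha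
      exact ((Subgroup.mem_centralizer_iff.1 (h3 (Subgroup.mem_top g))) z rfl).symm
    have h4 := CfsgH1.card_sup_mul_card_inf (H := B) (K := A) (CfsgH1.le_normalizer_of_normal _ _)
    rw [sup_comm, h1, Subgroup.card_top] at h4
    have h5 := Subgroup.index_mul_card A
    have h6 := Subgroup.index_mul_card B
    have h7 := Subgroup.index_mul_card (Subgroup.center S)
    rw [hAi] at h5
    rw [hBi] at h6
    have h8 : Nat.card ↥(B ⊓ A) ≤ Nat.card (Subgroup.center S) := Subgroup.card_le_of_le h2
    -- |S| * |B ⊓ A| = |B| * |A|, |S|^2 = p^2 |A||B| 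
    have h9 : Nat.card S = p ^ 2 * Nat.card ↥(B ⊓ A) := by
      have h10 : Nat.card S * (p ^ 2 * Nat.card ↥(B ⊓ A)) = Nat.card S * Nat.card S := by
        calc Nat.card S * (p ^ 2 * Nat.card ↥(B ⊓ A)) = p ^ 2 * (Nat.card S * Nat.card ↥(B ⊓ A)) := by ring
          _ = (p * Nat.card A) * (p * Nat.card B) := by rw [h4]; ring
          _ = _ := by rw [h5, h6]
      exact (Nat.eq_of_mul_eq_mul_left Nat.card_pos h10).symm
    have h10 : (Subgroup.center S).index ≤ p ^ 2 := by
      have h11 : (Subgroup.center S).index * Nat.card (Subgroup.center S) ≤ p ^ 2 * Nat.card (Subgroup.center S) := by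
        rw [h7, h9]; exact Nat.mul_le_mul_left _ h8
      exact Nat.le_of_mul_le_mul_right h11 Nat.card_pos
    rw [key] at h10
    have h12 : p * p ^ 2 ≤ p ^ 2 := le_trans (Nat.mul_le_mul_left p hp2) h10
    have := hp.two_le
    have h13 : 0 < p ^ 2 := pow_pos hp.pos 2
    nlinarith

/-- Let S be a non-abelian finite p-group with an abelian subgroup A of index p. Then [S : Z(S)] = p·#[S,S], and either [S,S] has order p, S/Z(S) is elementary abelian of order p², and S has exactly p + 1 abelian subgroups of index p; or [S,S] has order at least p² and A is the only abelian subgroup of index p in S. -/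
theorem result {S : Type*} [Group S] [Finite S] (p : ℕ) [Fact p.Prime] (hS : IsPGroup p S) (hna : ¬ IsMulCommutative S)
    (A : Subgroup S) (hA : IsMulCommutative ↥A) (hAi : A.index = p) :
    (Subgroup.center S).index = p * Nat.card (commutator S) ∧
      ((Nat.card (commutator S) = p ∧ Cfsg.IsElementaryAbelian p (⊤ : Subgroup (S ⧸ Subgroup.center S)) ∧
          Nat.card (S ⧸ Subgroup.center S) = p ^ 2 ∧
          Nat.card {B : Subgroup S // IsMulCommutative ↥B ∧ B.index = p} = p + 1) ∨
        (p ^ 2 ≤ Nat.card (commutator S) ∧ ∀ B : Subgroup S, IsMulCommutative ↥B → B.index = p → B = A)) := by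

  exact main p hS hna A hA hAi

end Cfsg.Agent.S3807
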