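import Cfsg.Statements.S3808
import Cfsg.Agent.H1.AbIdx
import Cfsg.Agent.H3.Rank2

set_option autoImplicit false
open Cfsg

namespace Cfsg.Agent.S3808

open scoped commutatorElement Pointwise

/-- Let S be a finite p-group with an extraspecial subgroup Q of index p. Then either Z(S) = Z(Q), or S = Q·Z(S) and Z(S) has order p². -/
theorem result {S : Type*} [Group S] [Finite S] (p : ℕ) [Fact p.Prime] (hS : IsPGroup p S) (Q : Subgroup S) (hQ : Cfsg.IsExtraspecial p ↥Q) (hQi : Q.index = p) :
    Subgroup.center S = (Subgroup.center ↥Q).map Q.subtype ∨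
      (Q ⊔ Subgroup.center S = ⊤ ∧ Nat.card (Subgroup.center S) = p ^ 2) := by
  have hp : p.Prime := Fact.out
  haveI hQn : Q.Normal := CfsgH1.normal_of_index_prime_pgroup hS hQi
  set Z := (Subgroup.center ↥Q).map Q.subtype with hZ
  haveI hZn : Z.Normal := inferInstance
  have hZc : Nat.card Z = p := by
    rw [hZ, Subgroup.card_map_of_injective Q.subtype_injective, hQ.2]
  have hZle : Z ≤ Subgroup.center S := CfsgH3.le_center_of_card_le hS hZc.le
  have hZQ : Subgroup.center S ⊓ Q = Z := by
    apply le_antisymm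
    · rintro z ⟨hz, hzQ⟩
      refine ⟨⟨z, hzQ⟩, ?_, rfl⟩
      refine Subgroup.mem_center_iff.2 fun g => ?_
      exact Subtype.ext (Subgroup.mem_center_iff.1 hz g)
    · exact le_inf hZle (Subgroup.map_subtype_le _)
  by_cases h : Subgroup.center S ≤ Q
  · left
    rw [← hZQ, inf_eq_left.2 h]
  · right
    have h1 : Q ⊔ Subgroup.center S = ⊤ := CfsgH1.coatom_of_index_prime hQi (lt_of_le_of_ne le_sup_left 
      (fun h2 => h (by rw [h2]; exact le_sup_right)))
    refine ⟨h1, ?_⟩
    have h2 := CfsgH1.card_sup_mul_card_inf (H := Subgroup.center S) (K := Q) (CfsgH1.le_normalizer_of_normal _ _)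
    rw [sup_comm, h1, Subgroup.card_top, hZQ, hZc, ← Subgroup.index_mul_card Q, hQi] at h2
    apply Nat.eq_of_mul_eq_mul_right (Nat.card_pos (α := Q))
    rw [← h2]; ring

end Cfsg.Agent.S3808
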