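import Cfsg.Statements.S3809
import Cfsg.Agent.H1.AbIdx
import Cfsg.Agent.H1.Frat
import Cfsg.Agent.S0095

set_option autoImplicit false
open Cfsg

namespace Cfsg.Agent.S3809

open scoped commutatorElement Pointwise

/-- Let S be a finite p-group with an extraspecial subgroup of index p. Then S has order p^(2+2n) for some n ≥ 1, derived length at most 3, and exponent dividing p³. -/
theorem result {S : Type*} [Group S] [Finite S] (p : ℕ) [Fact p.Prime] (hS : IsPGroup p S) (Q : Subgroup S) (hQ : Cfsg.IsExtraspecial p ↥Q) (hQi : Q.index = p) :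
    (∃ n : ℕ, 1 ≤ n ∧ Nat.card S = p ^ (2 + 2 * n)) ∧ derivedSeries S 3 = ⊥ ∧ ∀ x : S, x ^ (p ^ 3) = 1 := by
  have hp : p.Prime := Fact.out
  haveI hQn : Q.Normal := CfsgH1.normal_of_index_prime_pgroup hS hQi
  refine ⟨?_, ?_, ?_⟩
  · obtain ⟨n, hn, hc⟩ := Cfsg.Agent.S0095.result hQ
    refine ⟨n, hn, ?_⟩
    rw [← Subgroup.index_mul_card Q, hQi, hc, ← pow_succ']
    congr 1; ring
  · have h1 : derivedSeries S 1 ≤ Q := by
      change ⁅(⊤ : Subgroup S), (⊤ : Subgroup S)⁆ ≤ Q
      have hc : Nat.card (S ⧸ Q) = p := hQi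
      haveI := isCyclic_of_prime_card hc
      letI := IsCyclic.commGroup (α := S ⧸ Q)
      rw [Subgroup.commutator_le]
      intro a _ b _
      rw [← QuotientGroup.ker_mk' Q, MonoidHom.mem_ker, map_commutatorElement, commutatorElement_eq_one_iff_mul_comm]
      exact mul_comm _ _
    have h2 : derivedSeries S 2 ≤ (Subgroup.center ↥Q).map Q.subtype := by
      change ⁅derivedSeries S 1, derivedSeries S 1⁆ ≤ _
      refine (Subgroup.commutator_mono h1 h1).trans ?_
      have h3 := hQ.1.2.2
      rw [← h3, commutator_def, Subgroup.map_commutator]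
      rw [← MonoidHom.range_eq_map, Subgroup.range_subtype]
    rw [eq_bot_iff]
    change ⁅derivedSeries S 2, derivedSeries S 2⁆ ≤ _
    refine (Subgroup.commutator_mono h2 h2).trans ?_
    rw [← Subgroup.map_commutator]
    have h4 : ⁅Subgroup.center Q, Subgroup.center Q⁆ = ⊥ := by
      rw [Subgroup.commutator_eq_bot_iff_le_centralizer]
      exact Subgroup.center_le_centralizer _
    rw [h4, Subgroup.map_bot]
  · intro x
    have h1 : x ^ p ∈ Q := by
      have := Subgroup.pow_index_mem Q x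
      rwa [hQi] at this
    have h2 : (⟨x ^ p, h1⟩ : Q) ^ p ∈ Subgroup.center Q := by
      rw [← hQ.1.2.1]
      exact CfsgH1.pow_mem_frattini hQ.1.1 _
    have h3 : (⟨_, h2⟩ : Subgroup.center Q) ^ p = 1 := by
      have := pow_card_eq_one' (x := (⟨_, h2⟩ : Subgroup.center Q))
      rwa [hQ.2] at this
    have h4 : ((x ^ p) ^ p) ^ p = 1 := congrArg (fun z : Subgroup.center Q => ((z : Q) : S)) h3
    rw [← pow_mul, ← pow_mul] at h4
    rw [show p ^ 3 = p * (p * p) by ring]
    exact h4

end Cfsg.Agent.S3809
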