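import Cfsg.Statements.S3810
import Cfsg.Agent.H1.AbIdx
import Cfsg.Agent.H3.Rank2

set_option autoImplicit false
open Cfsg

namespace Cfsg.Agent.S3810

open scoped commutatorElement Pointwise

/-- Let S be a finite p-group with an extraspecial subgroup of index p. Then S has an abelian subgroup of index p if and only if S has order p⁴. -/
theorem result {S : Type*} [Group S] [Finite S] (p : ℕ) [Fact p.Prime] (hS : IsPGroup p S) (Q : Subgroup S) (hQ : Cfsg.IsExtraspecial p ↥Q) (hQi : Q.index = p) :
    (∃ A : Subgroup S, IsMulCommutative ↥A ∧ A.index = p) ↔ Nat.card S = p ^ 4 := by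
  have hp : p.Prime := Fact.out
  haveI hQn : Q.Normal := CfsgH1.normal_of_index_prime_pgroup hS hQi
  constructor
  · rintro ⟨A, hA, hAi⟩
    haveI hAn : A.Normal := CfsgH1.normal_of_index_prime_pgroup hS hAi
    have hab : ∀ a ∈ A, ∀ b ∈ A, a * b = b * a := fun a ha b hb => 
      congrArg (fun z : A => (z : S)) (hA.is_comm.comm ⟨a, ha⟩ ⟨b, hb⟩)
    have hQA : ¬ Q ≤ A := by
      intro h
      have h1 : commutator Q = ⊥ := by
        rw [commutator_def, Subgroup.commutator_eq_bot_iff_le_centralizer]
        intro x _
        rw [Subgroup.mem_centralizer_iff]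
        intro y _
        exact Subtype.ext (hab _ (h y.2) _ (h x.2))
      have h2 := hQ.2
      rw [← hQ.1.2.2, h1, Subgroup.card_bot] at h2
      exact hp.one_lt.ne h2
    have h1 : A ⊔ Q = ⊤ := CfsgH1.coatom_of_index_prime hAi (lt_of_le_of_ne le_sup_left (fun h => hQA (by rw [h]; exact le_sup_right)))
    have h2 := CfsgH1.card_sup_mul_card_inf (H := Q) (K := A) (CfsgH1.le_normalizer_of_normal _ _)
    rw [sup_comm, h1, Subgroup.card_top, ← Subgroup.index_mul_card A, hAi] at h2
    have h3 : p * Nat.card ↥(Q ⊓ A) = Nat.card Q := by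
      apply Nat.eq_of_mul_eq_mul_right (Nat.card_pos (α := A))
      rw [← h2]; ring
    have h4 : (A.subgroupOf Q).index = p := by
      have h5 := Subgroup.index_mul_card (A.subgroupOf Q)
      have h6 : Nat.card (A.subgroupOf Q) = Nat.card ↥(Q ⊓ A) := by
        rw [← Subgroup.card_map_of_injective (K := A.subgroupOf Q) Q.subtype_injective, Subgroup.subgroupOf_map_subtype, inf_comm]
      rw [h6, ← h3] at h5
      exact Nat.eq_of_mul_eq_mul_right Nat.card_pos h5
    have h7 := CfsgH1.center_index_of_extraspecial hQ (A := A.subgroupOf Q) 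
      (fun a ha b hb => Subtype.ext (hab a (Subgroup.mem_subgroupOf.1 ha) b (Subgroup.mem_subgroupOf.1 hb))) h4
    rw [← Subgroup.index_mul_card Q, hQi, h7]; ring
  · intro hc
    obtain ⟨B, -, hBn, hBc⟩ := CfsgH3.exists_normal_card hS (⊤ : Subgroup S) 2 (by
      rw [Subgroup.card_top, hc]; exact Nat.pow_le_pow_right hp.pos (by norm_num))
    haveI := hBn
    have hBab : ∀ a ∈ B, ∀ b ∈ B, a * b = b * a := by
      intro a ha b hb
      exact congrArg (fun z : B => (z : S)) (IsPGroup.commutative_of_card_eq_prime_sq hBc ⟨a, ha⟩ ⟨b, hb⟩)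
    have h1 := CfsgH3.centralizer_index_le hS hBab hBc.le
    -- choose a subgroup of order p^3 between B and C(B)
    have hBC : B ≤ Subgroup.centralizer (B : Set S) := by
      intro x hx
      rw [Subgroup.mem_centralizer_iff]
      intro y hy
      exact hBab y hy x hx
    obtain ⟨C, hBC', hCC, hCcard⟩ : ∃ C : Subgroup S, B ≤ C ∧ C ≤ Subgroup.centralizer (B : Set S) ∧ Nat.card C = p ^ 3 := by
      obtain ⟨l, hl⟩ := IsPGroup.iff_card.1 (hS.to_subgroup (Subgroup.centralizer (B : Set S)))
      have h2 := Subgroup.index_mul_card (Subgroup.centralizer (B : Set S))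
      rw [hl, hc] at h2
      have hl3 : 3 ≤ l := by
        by_contra hlt
        have h3 : p ^ l ≤ p ^ 2 := Nat.pow_le_pow_right hp.pos (by omega)
        have h4 : p ^ 4 ≤ p * p ^ 2 := by rw [← h2]; exact Nat.mul_le_mul h1 h3
        have h5 : p * p ^ 2 = p ^ 3 := by ring
        rw [h5] at h4
        have := (Nat.pow_le_pow_iff_right hp.one_lt).1 h4
        omega
      obtain ⟨K, hK, hBK⟩ := Sylow.exists_subgroup_card_pow_succ (G := Subgroup.centralizer (B : Set S)) (p := p) (n := 2) 
        (H := B.subgroupOf (Subgroup.centralizer (B : Set S))) (by rw [hl]; exact pow_dvd_pow p hl3) (by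
          rw [← Subgroup.card_map_of_injective (K := B.subgroupOf (Subgroup.centralizer (B : Set S))) (Subgroup.subtype_injective _), 
            Subgroup.map_subgroupOf_eq_of_le hBC]
          exact hBc)
      refine ⟨K.map (Subgroup.centralizer (B : Set S)).subtype, ?_, Subgroup.map_subtype_le _, ?_⟩
      · exact (Subgroup.map_subgroupOf_eq_of_le hBC).ge.trans (Subgroup.map_mono hBK)
      · rw [Subgroup.card_map_of_injective (Subgroup.subtype_injective _)]; exact hK
    refine ⟨C, ?_, ?_⟩
    · -- C is abelian: B central of index p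
      set B' := B.subgroupOf C with hB'
      have hB'c : B' ≤ Subgroup.center C := by
        intro b hb
        rw [Subgroup.mem_center_iff]
        intro g
        have h2 := (Subgroup.mem_centralizer_iff.1 (hCC g.2)) b (Subgroup.mem_subgroupOf.1 hb)
        exact Subtype.ext h2.symm
      have hB'i : B'.index = p := by
        have h2 := Subgroup.index_mul_card B'
        have h3 : Nat.card B' = p ^ 2 := by
          rw [← Subgroup.card_map_of_injective (K := B') C.subtype_injective, Subgroup.map_subgroupOf_eq_of_le hBC', hBc]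
        rw [h3, hCcard] at h2
        apply Nat.eq_of_mul_eq_mul_right (pow_pos hp.pos 2)
        rw [h2]; ring
      have h6 : (Subgroup.center C).index ∣ p := by
        rw [← hB'i]
        exact Subgroup.index_dvd_of_le hB'c
      have h9 : IsCyclic (C ⧸ Subgroup.center C) := by
        rcases (Nat.dvd_prime hp).1 h6 with h | h
        · haveI : Subsingleton (C ⧸ Subgroup.center C) := (Nat.card_eq_one_iff_unique.1 h).1
          infer_instance
        · exact isCyclic_of_prime_card (p := p) h
      exact ⟨⟨fun a b => commutative_of_cyclic_center_quotient (QuotientGroup.mk' (Subgroup.center C)) (by simp) a b⟩⟩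
    · have h2 := Subgroup.index_mul_card C
      rw [hCcard, hc] at h2
      apply Nat.eq_of_mul_eq_mul_right (pow_pos hp.pos 3)
      rw [h2]; ring

end Cfsg.Agent.S3810
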