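import Cfsg.Statements.S3824
import Cfsg.Agent.H1.Basic
import Cfsg.Agent.H1.MinNormal
import Cfsg.Agent.H4.Burnside

set_option autoImplicit false
open Cfsg

namespace Cfsg.Agent.S3824

open scoped commutatorElement Pointwise

theorem card_class_dvd {G : Type*} [Group G] [Finite G] (x : G) (A : Subgroup G) (hA : A ≤ Subgroup.centralizer {x}) : 
    Nat.card {y : G // IsConj x y} ∣ A.index := by
  rw [CfsgH4.card_isConj_eq_index x]
  exact Subgroup.index_dvd_of_le hA

theorem main (n : ℕ) : ∀ (G : Type _) [Group G] [Finite G], Nat.card G = n → ∀ (A : Subgroup G), (∀ a ∈ A, ∀ b ∈ A, a * b = b * a) → (∃ k : ℕ, A.index = 2 ^ k) → Group.IsSolvable G := by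
  induction n using Nat.strong_induction_on with
  | _ n IH =>
  intro G _ _ hn A hA hidx
  obtain ⟨k, hk⟩ := hidx
  rcases subsingleton_or_nontrivial G with hs | hnt
  · infer_instance
  by_cases hsimp : ∀ N : Subgroup G, N.Normal → N = ⊥ ∨ N = ⊤
  · haveI : IsSimpleGroup G := ⟨fun N hN => hsimp N hN⟩
    by_cases hAb : A = ⊥
    · rw [hAb, Subgroup.index_bot] at hk
      haveI : Fact (Nat.Prime 2) := ⟨Nat.prime_two⟩
      have : IsPGroup 2 G := IsPGroup.of_card hk
      haveI := this.isNilpotent
      infer_instance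
    · obtain ⟨x, hx0⟩ := Subgroup.ne_bot_iff_exists_ne_one.1 hAb
      have hx : (x : G) ∈ A := x.2
      have hx1 : (x : G) ≠ 1 := fun h => hx0 (Subtype.ext h)
      have h1 : A ≤ Subgroup.centralizer {(x : G)} := by
        intro a ha
        rw [Subgroup.mem_centralizer_iff]
        intro y hy
        rw [Set.mem_singleton_iff.1 hy]
        exact hA _ hx a ha
      have h2 := card_class_dvd (x : G) A h1
      rw [hk] at h2
      obtain ⟨j, -, hj⟩ := (Nat.dvd_prime_pow Nat.prime_two).1 h2
      have h3 := CfsgH4.burnside_simple Nat.prime_two (x : G) hx1 hj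
      haveI : Fact (Nat.card G).Prime := ⟨h3⟩
      haveI : IsCyclic G := isCyclic_of_prime_card (p := Nat.card G) rfl
      letI := IsCyclic.commGroup (α := G)
      infer_instance
  · push Not at hsimp
    obtain ⟨N, hN, hNb, hNt⟩ := hsimp
    -- N solvable
    have hNs : Group.IsSolvable N := by
      apply IH (Nat.card N) (hn ▸ CfsgH1.card_lt_card_of_ne_top hNt) N rfl (A.subgroupOf N)
      · intro a ha b hb
        exact Subtype.ext (hA a (Subgroup.mem_subgroupOf.1 ha) b (Subgroup.mem_subgroupOf.1 hb))
      · have h1 := CfsgH1.card_sup_mul_card_inf (H := A) (K := N) (CfsgH1.le_normalizer_of_normal _ _)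
        have h2 : (A.subgroupOf N).index * Nat.card ↥(A ⊓ N) = Nat.card N := by
          rw [← Subgroup.index_mul_card (A.subgroupOf N)]
          congr 1
          rw [← Subgroup.card_map_of_injective (K := A.subgroupOf N) N.subtype_injective, Subgroup.subgroupOf_map_subtype]
        have h3 : (A.subgroupOf N).index * Nat.card A = Nat.card ↥(A ⊔ N) := by
          apply Nat.eq_of_mul_eq_mul_right (Nat.card_pos (α := ↥(A ⊓ N)))
          rw [h1, ← h2]; ring
        have h4 : (A.subgroupOf N).index ∣ A.index := by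
          have h5 := Subgroup.card_subgroup_dvd_card (A ⊔ N)
          rw [← h3, ← Subgroup.index_mul_card A] at h5
          exact Nat.dvd_of_mul_dvd_mul_right Nat.card_pos h5
        rw [hk] at h4
        obtain ⟨j, -, hj⟩ := (Nat.dvd_prime_pow Nat.prime_two).1 h4
        exact ⟨j, hj⟩
    have hQs : Group.IsSolvable (G ⧸ N) := by
      apply IH (Nat.card (G ⧸ N)) (hn ▸ CfsgH1.card_quotient_lt hNb) (G ⧸ N) rfl (A.map (QuotientGroup.mk' N))
      · rintro _ ⟨a, ha, rfl⟩ _ ⟨b, hb, rfl⟩
        rw [← map_mul, hA a ha b hb, map_mul]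
      · have h4 : (A.map (QuotientGroup.mk' N)).index ∣ A.index := Subgroup.index_map_dvd _ (QuotientGroup.mk'_surjective N)
        rw [hk] at h4
        obtain ⟨j, -, hj⟩ := (Nat.dvd_prime_pow Nat.prime_two).1 h4
        exact ⟨j, hj⟩
    exact CfsgH1.isSolvable_of_normal_quotient N hNs hQs

/-- Every finite group having an abelian subgroup whose index is a power of 2 is solvable. -/
theorem result {G : Type*} [Group G] [Finite G]
    (A : Subgroup G) (hA : IsMulCommutative A) (hidx : ∃ k : ℕ, A.index = 2 ^ k) : Group.IsSolvable G := by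

  exact main _ G rfl A (fun a ha b hb => congrArg (fun z : A => (z : G)) (hA.is_comm.comm ⟨a, ha⟩ ⟨b, hb⟩)) hidx

end Cfsg.Agent.S3824
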