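import Cfsg.Statements.S3868
import Cfsg.Agent.H1.PClosed

set_option autoImplicit false
open Cfsg

namespace Cfsg.Agent.S3868

open scoped commutatorElement Pointwise

open Subgroup CfsgH1 in
theorem main {G : Type*} [Group G] [Finite G] {p : ℕ} [hp : Fact p.Prime]
    (hnc : ¬ Cfsg.IsPClosed p G) (hsub : ∀ H : Subgroup G, H ≠ ⊤ → Cfsg.IsPClosed p ↥H)
    (hquo : ∀ (N : Subgroup G) [N.Normal], N ≠ ⊥ → Cfsg.IsPClosed p (G ⧸ N)) (hns : ¬ IsSimpleGroup G) :
    ∃ q : ℕ, q.Prime ∧ q ≠ p ∧ Nat.card G = p * q ^ orderOf (q : ZMod p) ∧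
      ∃ A : Subgroup G, A.Normal ∧ Nat.card ↥A = q ^ orderOf (q : ZMod p) ∧ Cfsg.IsElementaryAbelian q A ∧
        ∀ B : Subgroup G, B.Normal → B ≤ A → B = ⊥ ∨ B = A := by
  -- O_p(G) = 1
  have hO : pCore p G = ⊥ := by
    by_contra hne
    apply hnc
    apply pclosed_of_le
    intro Q hQ
    have h1 := hquo (pCore p G) hne
    have h2 : Q.map (QuotientGroup.mk' (pCore p G)) ≤ pCore p (G ⧸ pCore p G) := pclosed_le h1 (hQ.map _)
    have h3 : (pCore p (G ⧸ pCore p G)).comap (QuotientGroup.mk' (pCore p G)) ≤ pCore p G := by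
      apply CfsgH2.le_pCore inferInstance
      apply (CfsgH2.isPGroup_pCore p).comap_of_ker_isPGroup
      rw [QuotientGroup.ker_mk']
      exact CfsgH2.isPGroup_pCore p
    exact (map_le_iff_le_comap.1 h2).trans h3
  haveI hnt : Nontrivial G := by
    rw [← not_subsingleton_iff_nontrivial]
    intro hs
    apply hnc
    apply pclosed_of_le
    intro Q hQ
    exact (Subsingleton.elim Q _).le
  obtain ⟨A, hAn, hAne, hmin⟩ := exists_minNormal (G := G)
  have hAtop : A ≠ ⊤ := by
    rintro rfl
    apply hns
    refine ⟨fun N hN => hmin N hN le_top⟩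
  have hA' := hsub A hAtop
  have hAp : ¬ p ∣ Nat.card A := by
    intro hd
    obtain ⟨a, ha⟩ := exists_prime_orderOf_dvd_card' (G := A) p hd
    have h1 : zpowers (a : G) ≤ pCore p G := by
      apply le_pCore_of_pclosed_normal hA'
      · apply IsPGroup.of_card (n := 1)
        rw [Nat.card_zpowers, Subgroup.orderOf_coe, ha, pow_one]
      · rw [zpowers_le]; exact a.2
    rw [hO, le_bot_iff, zpowers_eq_bot] at h1
    have h2 : a = 1 := Subtype.ext h1
    rw [h2, orderOf_one] at ha
    exact hp.out.one_lt.ne ha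
  obtain ⟨P⟩ := (inferInstance : Nonempty (Sylow p G))
  have hPne : (P : Subgroup G) ≠ ⊥ := by
    intro h
    apply hnc
    apply pclosed_of_coprime
    intro hd
    exact sylow_ne_bot hd P h
  have hPA : A ⊔ (P : Subgroup G) = ⊤ := by
    by_contra hne
    haveI hn : (A ⊔ (P : Subgroup G)).Normal := by
      have h1 := hquo A hAne
      have h2 : (P : Subgroup G).map (QuotientGroup.mk' A) ≤ pCore p (G ⧸ A) := pclosed_le h1 (P.2.map _)
      have h3 : (P : Subgroup G).map (QuotientGroup.mk' A) = pCore p (G ⧸ A) := by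
        apply le_antisymm h2
        let P' : Sylow p (G ⧸ A) := P.mapSurjective (QuotientGroup.mk'_surjective A)
        have h4 : (P' : Subgroup (G ⧸ A)) = (P : Subgroup G).map (QuotientGroup.mk' A) := rfl
        rw [← h4]
        exact (P'.3 (CfsgH2.isPGroup_pCore p) (by rw [h4]; exact h2)).le
      have h5 : A ⊔ (P : Subgroup G) = (pCore p (G ⧸ A)).comap (QuotientGroup.mk' A) := by
        rw [← h3, Subgroup.comap_map_eq, QuotientGroup.ker_mk', sup_comm]
      rw [h5]
      infer_instance
    have h1 := le_pCore_of_pclosed_normal (hsub _ hne) P.2 le_sup_right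
    rw [hO, le_bot_iff] at h1
    exact hPne h1
  -- the maximal subgroup of P
  have hPcard : Nat.card (P : Subgroup G) = p := by
    obtain ⟨n, hn⟩ := IsPGroup.iff_card.1 P.2
    have hn0 : n ≠ 0 := by
      rintro rfl
      exact hPne (Subgroup.card_eq_one.1 (by rw [hn, pow_zero]))
    obtain ⟨P₁, hP₁c, hP₁⟩ : ∃ P₁ : Subgroup G, Nat.card P₁ = p ^ (n - 1) ∧ P₁ ≤ (P : Subgroup G) := by
      obtain ⟨K, hK⟩ := Sylow.exists_subgroup_card_pow_prime (G := (P : Subgroup G)) p (n := n - 1) 
        (by rw [hn]; exact pow_dvd_pow _ (by omega))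
      exact ⟨K.map (P : Subgroup G).subtype, by rw [card_map_of_injective (P : Subgroup G).subtype_injective]; exact hK, map_subtype_le _⟩
    have hP₁ne : A ⊔ P₁ ≠ ⊤ := by
      intro h
      have h1 := card_sup_mul_card_inf (H := P₁) (K := A) (le_normalizer_of_normal _ _)
      rw [sup_comm, h, Subgroup.card_top] at h1
      have h2 := card_sup_mul_card_inf (H := (P : Subgroup G)) (K := A) (le_normalizer_of_normal _ _)
      rw [sup_comm, hPA, Subgroup.card_top] at h2
      have h3 : (P : Subgroup G) ⊓ A = ⊥ := by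
        apply CfsgH1.inf_eq_bot_of_coprime
        rw [hn]
        exact Nat.Coprime.pow_left _ ((Nat.Prime.coprime_iff_not_dvd hp.out).2 hAp)
      have h4 : P₁ ⊓ A = ⊥ := by
        rw [eq_bot_iff, ← h3]
        exact inf_le_inf_right _ hP₁
      rw [h3, Subgroup.card_bot, mul_one, hn] at h2
      rw [h4, Subgroup.card_bot, mul_one, hP₁c, h2] at h1
      have h5 := Nat.eq_of_mul_eq_mul_right Nat.card_pos h1
      have h6 := Nat.pow_right_injective hp.out.two_le h5
      omega
    have h1 : P₁ ≤ centralizer (A : Set G) := by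
      apply centralize_of_pclosed (hsub _ hP₁ne) le_sup_left le_sup_right (P.2.to_le hP₁) (le_normalizer_of_normal _ _) hAp
    have h2 : ((P : Subgroup G) ⊓ centralizer (A : Set G)).Normal := by
      rw [← normalizer_eq_top_iff, ← top_le_iff, ← hPA]
      apply sup_le
      · rw [le_normalizer_iff_conj]
        rintro a ha y ⟨hy, hyA⟩
        have h3 := (mem_centralizer_iff.1 hyA) a ha
        rw [h3, mul_inv_cancel_right]
        exact ⟨hy, hyA⟩
      · rw [le_normalizer_iff_conj]
        rintro a ha y ⟨hy, hyA⟩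
        exact ⟨(P : Subgroup G).mul_mem ((P : Subgroup G).mul_mem ha hy) ((P : Subgroup G).inv_mem ha), 
          (inferInstance : (centralizer (A : Set G)).Normal).conj_mem y hyA a⟩
    have h3 : (P : Subgroup G) ⊓ centralizer (A : Set G) ≤ pCore p G := CfsgH2.le_pCore h2 (P.2.to_le inf_le_left)
    have h4 : P₁ = ⊥ := by
      rw [eq_bot_iff, ← hO]
      exact (le_inf hP₁ h1).trans h3
    rw [h4, Subgroup.card_bot] at hP₁c
    have h5 : n - 1 = 0 := by
      by_contra h6
      have := Nat.one_lt_pow h6 hp.out.one_lt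
      omega
    have h6 : n = 1 := by omega
    rw [hn, h6, pow_one]
  obtain ⟨x, hx⟩ := exists_prime_orderOf_dvd_card' (G := (P : Subgroup G)) p (by rw [hPcard])
  have hxP : zpowers (x : G) = (P : Subgroup G) := by
    apply Subgroup.eq_of_le_of_card_ge
    · rw [zpowers_le]; exact x.2
    · rw [hPcard, Nat.card_zpowers, Subgroup.orderOf_coe, hx]
  apply irr_structure hAne hAp hmin (x := (x : G)) (by rw [Subgroup.orderOf_coe, hx]) (by rw [hxP, hPA])
  · intro hc
    rw [hxP] at hc
    apply hnc
    have h2 : (P : Subgroup G).Normal := by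
      rw [← normalizer_eq_top_iff, ← top_le_iff, ← hPA]
      apply sup_le
      · rw [le_normalizer_iff_conj]
        rintro a ha y hy
        have h3 := (mem_centralizer_iff.1 (hc hy)) a ha
        rw [h3, mul_inv_cancel_right]
        exact hy
      · exact Subgroup.le_normalizer
    apply pclosed_of_le
    intro Q hQ
    obtain ⟨S, hS⟩ := hQ.exists_le_sylow
    have h3 : (S : Subgroup G) = P := by
      haveI := Sylow.unique_of_normal P h2
      rw [Subsingleton.elim S P]
    exact hS.trans (h3.le.trans (CfsgH2.le_pCore h2 P.2))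
  · intro B hBA hxB
    have hne : B ⊔ zpowers (x : G) ≠ ⊤ := by
      intro h
      rw [hxP] at h hxB
      have h1 := card_sup_mul_card_inf (H := (P : Subgroup G)) (K := B) hxB
      rw [sup_comm, h, Subgroup.card_top] at h1
      have h2 := card_sup_mul_card_inf (H := (P : Subgroup G)) (K := A) (le_normalizer_of_normal _ _)
      rw [sup_comm, hPA, Subgroup.card_top] at h2
      have h3 : (P : Subgroup G) ⊓ A = ⊥ := by
        apply CfsgH1.inf_eq_bot_of_coprime
        rw [hPcard]
        exact ((Nat.Prime.coprime_iff_not_dvd hp.out).2 hAp)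
      have h4 : (P : Subgroup G) ⊓ B = ⊥ := by
        rw [eq_bot_iff, ← h3]
        exact inf_le_inf_left _ hBA.le
      rw [h3, Subgroup.card_bot, mul_one] at h2
      rw [h4, Subgroup.card_bot, mul_one, h2] at h1
      have h5 := Nat.eq_of_mul_eq_mul_left Nat.card_pos h1
      exact hBA.ne (Subgroup.eq_of_le_of_card_ge hBA.le h5.le)
    apply centralize_of_pclosed (hsub _ hne) le_sup_left le_sup_right (by rw [hxP]; exact P.2) hxB 
    exact fun h => hAp (h.trans (card_dvd_of_le hBA.le))

/-- Structure of the non-simple minimal non-p-closed groups. Call a finite group p-closed when its Sylow p-subgroups are normal, and minimal non-p-closed when it is not p-closed but every proper subgroup and every proper quotient is. If such a group G is not simple, then there is a prime q ≠ p such that G has order p · q^e, where e is the multiplicative order of q modulo p, and G has a normal subgroup A of order q^e that is elementary abelian and is a minimal normal subgroup of G (so G is the semidirect product of A by a group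 of order p acting irreducibly). -/
theorem result {G : Type*} [Group G] [Finite G] {p : ℕ} [Fact p.Prime]
    (hnc : ¬ Cfsg.IsPClosed p G) (hsub : ∀ H : Subgroup G, H ≠ ⊤ → Cfsg.IsPClosed p ↥H)
    (hquo : ∀ (N : Subgroup G) [N.Normal], N ≠ ⊥ → Cfsg.IsPClosed p (G ⧸ N)) (hns : ¬ IsSimpleGroup G) :
    ∃ q : ℕ, q.Prime ∧ q ≠ p ∧ Nat.card G = p * q ^ orderOf (q : ZMod p) ∧
      ∃ A : Subgroup G, A.Normal ∧ Nat.card ↥A = q ^ orderOf (q : ZMod p) ∧ Cfsg.IsElementaryAbelian q A ∧
        ∀ B : Subgroup G, B.Normal → B ≤ A → B = ⊥ ∨ B = A := by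

  exact main hnc hsub hquo hns

end Cfsg.Agent.S3868
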