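import Cfsg.Statements.S3869
import Cfsg.Agent.H1.PClosed

set_option autoImplicit false
open Cfsg

namespace Cfsg.Agent.S3869

open scoped commutatorElement Pointwise

open Subgroup CfsgH1 in
theorem main {G : Type*} [Group G] [Finite G] {p q : ℕ} [hp : Fact p.Prime] (hq : q.Prime) (hpq : q ≠ p)
    (hna : ¬ IsMulCommutative G) (A : Subgroup G) [hAn : A.Normal] (hA : Cfsg.IsElementaryAbelian q A) (hidx : A.index = p)
    (hmin : ∀ B : Subgroup G, B.Normal → B ≤ A → B = ⊥ ∨ B = A) :
    Nat.card ↥A = q ^ orderOf (q : ZMod p) ∧ ¬ Cfsg.IsPClosed p G ∧ (∀ H : Subgroup G, H ≠ ⊤ → Cfsg.IsPClosed p ↥H) ∧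
      ∀ (N : Subgroup G) [N.Normal], N ≠ ⊥ → Cfsg.IsPClosed p (G ⧸ N) := by
  haveI hqf : Fact q.Prime := ⟨hq⟩
  have hAq : IsPGroup q A := fun a => ⟨1, Subtype.ext (by rw [pow_one]; exact hA.2 _ a.2)⟩
  have hcardG : Nat.card G = p * Nat.card A := by rw [← hidx, Subgroup.index_mul_card]
  have hAp : ¬ p ∣ Nat.card A := by
    intro hd
    obtain ⟨n, hn⟩ := IsPGroup.iff_card.1 hAq
    rw [hn] at hd
    exact hpq ((Nat.prime_dvd_prime_iff_eq hp.out hq).1 (hp.out.dvd_of_dvd_pow hd)).symm
  have hab : ∀ a ∈ A, ∀ b ∈ A, a * b = b * a := fun a ha b hb => 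
    congrArg (fun z : A => (z : G)) (hA.1.is_comm.comm ⟨a, ha⟩ ⟨b, hb⟩)
  -- elements of order p
  have key : ∀ x : G, orderOf x = p → A ⊔ zpowers x = ⊤ ∧ A ⊓ zpowers x = ⊥ ∧ (∀ z : G, (∀ a ∈ A, a * z = z * a) → z * x = x * z → ∀ g, g * z = z * g) := by
    intro x hx
    have h1 : A ⊓ zpowers x = ⊥ := by
      apply CfsgH1.inf_eq_bot_of_coprime
      rw [Nat.card_zpowers, hx]
      exact ((Nat.Prime.coprime_iff_not_dvd hp.out).2 hAp).symm
    have h2 : A ⊔ zpowers x = ⊤ := by
      apply Subgroup.eq_top_of_card_eq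
      have h3 := card_sup_mul_card_inf (H := zpowers x) (K := A) (le_normalizer_of_normal _ _)
      rw [sup_comm, inf_comm, h1, Subgroup.card_bot, mul_one, Nat.card_zpowers, hx] at h3
      rw [h3, hcardG]
    refine ⟨h2, h1, fun z hz hzx => ?_⟩
    have h3 : (⊤ : Subgroup G) ≤ centralizer {z} := by
      rw [← h2]
      apply sup_le
      · intro a ha
        rw [mem_centralizer_iff]
        rintro _ rfl
        exact (hz a ha).symm
      · rw [zpowers_le, mem_centralizer_iff]
        rintro _ rfl
        exact hzx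
    intro g
    exact ((mem_centralizer_iff.1 (h3 (mem_top g))) z rfl).symm
  -- an element of order p does not centralize A
  have hnc : ∀ x : G, orderOf x = p → ∃ a ∈ A, x * a * x⁻¹ ≠ a := by
    intro x hx
    by_contra hcon
    push Not at hcon
    have h1 : ∀ a ∈ A, a * x = x * a := fun a ha => (mul_inv_eq_iff_eq_mul.1 (hcon a ha)).symm
    apply hna
    have h2 : (⊤ : Subgroup G) ≤ Subgroup.center G := by
      rw [← (key x hx).1]
      apply sup_le
      · intro a ha
        rw [Subgroup.mem_center_iff]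
        exact (key x hx).2.2 a (fun b hb => hab b hb a ha) (h1 a ha)
      · rw [zpowers_le, Subgroup.mem_center_iff]
        exact (key x hx).2.2 x h1 rfl
    exact ⟨⟨fun a b => (Subgroup.mem_center_iff.1 (h2 (mem_top b)) a)⟩⟩
  -- x-invariant subgroups of A
  have hirr : ∀ x : G, orderOf x = p → ∀ B : Subgroup G, B ≤ A → (∀ b ∈ B, x * b * x⁻¹ ∈ B) → B = ⊥ ∨ B = A := by
    intro x hx B hBA hBx
    apply hmin B _ hBA
    rw [← normalizer_eq_top_iff, ← top_le_iff, ← (key x hx).1]
    apply sup_le
    · rw [le_normalizer_iff_conj]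
      intro a ha b hb
      rw [hab a ha b (hBA hb), mul_inv_cancel_right]
      exact hb
    · rw [zpowers_le]
      exact Subgroup.mem_normalizer_fintype (S := (B : Set G)) hBx
  have hAne : A ≠ ⊥ := by
    obtain ⟨x, hx⟩ := exists_prime_orderOf_dvd_card' (G := G) p (by rw [hcardG]; exact dvd_mul_right _ _)
    obtain ⟨a, ha, hax⟩ := hnc x hx
    rintro rfl
    rw [mem_bot] at ha
    rw [ha] at hax
    simp at hax
  refine ⟨?_, ?_, ?_, ?_⟩
  · obtain ⟨x, hx⟩ := exists_prime_orderOf_dvd_card' (G := G) p (by rw [hcardG]; exact dvd_mul_right _ _)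
    apply card_irr_group (Ne.symm hpq) hA hAne (x := x) 
    · exact fun a ha => hAn.conj_mem a ha x
    · intro a ha
      rw [← hx, pow_orderOf_eq_one]; simp
    · exact hnc x hx
    · exact hirr x hx
  · intro hcl
    obtain ⟨x, hx⟩ := exists_prime_orderOf_dvd_card' (G := G) p (by rw [hcardG]; exact dvd_mul_right _ _)
    obtain ⟨a, ha, hax⟩ := hnc x hx
    have h1 : zpowers x ≤ centralizer (A : Set G) := by
      have hcl' : IsPClosed p (⊤ : Subgroup G) := pclosed_equiv Subgroup.topEquiv.symm hcl
      apply centralize_of_pclosed hcl' le_top le_top _ (le_normalizer_of_normal _ _) hAp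
      apply IsPGroup.of_card (n := 1)
      rw [Nat.card_zpowers, hx, pow_one]
    have h2 := (mem_centralizer_iff.1 (h1 (mem_zpowers x))) a ha
    exact hax (by rw [← h2, mul_inv_cancel_right])
  · intro H hH
    by_cases hd : p ∣ Nat.card H
    · obtain ⟨y, hy⟩ := exists_prime_orderOf_dvd_card' (G := H) p hd
      have hy' : orderOf (y : G) = p := by rw [Subgroup.orderOf_coe, hy]
      rcases hirr (y : G) hy' (H ⊓ A) inf_le_right (by
        rintro b ⟨hb, hbA⟩
        exact ⟨H.mul_mem (H.mul_mem y.2 hb) (H.inv_mem y.2), hAn.conj_mem b hbA _⟩) with h | h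
      · have h1 := card_sup_mul_card_inf (H := H) (K := A) (le_normalizer_of_normal _ _)
        rw [h, Subgroup.card_bot, mul_one] at h1
        have h2 : Nat.card H ∣ p := by
          have h3 : Nat.card ↥(H ⊔ A) ∣ Nat.card G := card_subgroup_dvd_card _
          rw [h1, hcardG] at h3
          exact Nat.dvd_of_mul_dvd_mul_right Nat.card_pos h3
        apply pclosed_of_isPGroup
        rcases (Nat.dvd_prime hp.out).1 h2 with h3 | h3
        · exact IsPGroup.of_card (n := 0) (by rw [h3, pow_zero])
        · exact IsPGroup.of_card (n := 1) (by rw [h3, pow_one])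
      · exfalso
        apply hH
        rw [eq_top_iff, ← (key _ hy').1]
        apply sup_le
        · exact inf_eq_right.1 h
        · rw [zpowers_le]; exact y.2
    · exact pclosed_of_coprime hd
  · intro N hN hNne
    have hAN : A ≤ N := by
      rcases hmin (N ⊓ A) inferInstance inf_le_right with h | h
      · exfalso
        have h1 : N ≤ centralizer (A : Set G) := by
          intro n hn
          rw [mem_centralizer_iff]
          intro a ha
          have h2 : ⁅a, n⁆ ∈ N ⊓ A := by
            rw [commutatorElement_def]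
            refine ⟨N.mul_mem (hN.conj_mem n hn a) (N.inv_mem hn), ?_⟩
            rw [mul_assoc, mul_assoc]
            apply A.mul_mem ha
            rw [← mul_assoc]
            exact hAn.conj_mem _ (A.inv_mem ha) n
          rw [h, mem_bot, commutatorElement_eq_one_iff_mul_comm] at h2
          exact h2
        have h1' := card_sup_mul_card_inf (H := N) (K := A) (le_normalizer_of_normal _ _)
        rw [h, Subgroup.card_bot, mul_one] at h1'
        have h2 : Nat.card N ∣ p := by
          have h3 : Nat.card ↥(N ⊔ A) ∣ Nat.card G := card_subgroup_dvd_card _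
          rw [h1', hcardG] at h3
          exact Nat.dvd_of_mul_dvd_mul_right Nat.card_pos h3
        rcases (Nat.dvd_prime hp.out).1 h2 with h3 | h3
        · exact hNne (Subgroup.card_eq_one.1 h3)
        · obtain ⟨y, hy⟩ := exists_prime_orderOf_dvd_card' (G := N) p (by rw [h3])
          have hy' : orderOf (y : G) = p := by rw [Subgroup.orderOf_coe, hy]
          obtain ⟨a, ha, hax⟩ := hnc _ hy'
          have h4 := (mem_centralizer_iff.1 (h1 y.2)) a ha
          exact hax (by rw [← h4, mul_inv_cancel_right])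
      · exact inf_eq_right.1 h
    apply pclosed_of_isPGroup
    have h1 : N.index ∣ p := by rw [← hidx]; exact Subgroup.index_dvd_of_le hAN
    rcases (Nat.dvd_prime hp.out).1 h1 with h3 | h3
    · exact IsPGroup.of_card (n := 0) (by rw [pow_zero]; exact h3)
    · exact IsPGroup.of_card (n := 1) (by rw [pow_one]; exact h3)

/-- Let p and q be distinct primes and G a finite non-abelian group with a normal elementary abelian q-subgroup A that is a minimal normal subgroup of G and has index p. Then A has order q^e with e the multiplicative order of q modulo p, and G is minimal non-p-closed: its Sylow p-subgroups are not normal, while in every proper subgroup and in every proper quotient of G the Sylow p-subgroups are normal. -/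
theorem result {G : Type*} [Group G] [Finite G] {p q : ℕ} [Fact p.Prime] (hq : q.Prime) (hpq : q ≠ p)
    (hna : ¬ IsMulCommutative G) (A : Subgroup G) [A.Normal] (hA : Cfsg.IsElementaryAbelian q A) (hidx : A.index = p)
    (hmin : ∀ B : Subgroup G, B.Normal → B ≤ A → B = ⊥ ∨ B = A) :
    Nat.card ↥A = q ^ orderOf (q : ZMod p) ∧ ¬ Cfsg.IsPClosed p G ∧ (∀ H : Subgroup G, H ≠ ⊤ → Cfsg.IsPClosed p ↥H) ∧
      ∀ (N : Subgroup G) [N.Normal], N ≠ ⊥ → Cfsg.IsPClosed p (G ⧸ N) := by

  exact main hq hpq hna A hA hidx hmin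

end Cfsg.Agent.S3869
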