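import Cfsg.Statements.S3870
import Cfsg.Agent.H1.PClosed
import Cfsg.Agent.H1.PGrp2

set_option autoImplicit false
open Cfsg

namespace Cfsg.Agent.S3870

open scoped commutatorElement Pointwise

open Subgroup CfsgH1 in
/-- in a `p`-closed subgroup `K`, `p`-subgroups generate a p-group: if a Sylow `P` of `G` lies in `K` then it contains all `p`-subgroups -/
theorem le_sylow_of_pclosed {G : Type*} [Group G] [Finite G] {p : ℕ} [hp : Fact p.Prime] {K : Subgroup G} (hK : IsPClosed p K) (P : Sylow p G) 
    (hPK : (P : Subgroup G) ≤ K) {Q : Subgroup G} (hQ : IsPGroup p Q) (hQK : Q ≤ K) : Q ≤ P := by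
  have h1 : Q.subgroupOf K ≤ pCore p K := pclosed_le hK (hQ.comap_of_injective _ K.subtype_injective)
  have h2 : (P : Subgroup G).subgroupOf K ≤ pCore p K := pclosed_le hK (P.2.comap_of_injective _ K.subtype_injective)
  have h3 : (P : Subgroup G) ≤ (pCore p K).map K.subtype := by
    intro x hx
    exact ⟨⟨x, hPK hx⟩, h2 (by rw [mem_subgroupOf]; exact hx), rfl⟩
  have h4 : (pCore p K).map K.subtype = P := P.3 ((CfsgH2.isPGroup_pCore p).map _) h3
  rw [← h4]
  intro x hx
  exact ⟨⟨x, hQK hx⟩, h1 (by rw [mem_subgroupOf]; exact hx), rfl⟩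

open Subgroup CfsgH1 in
theorem main {G : Type*} [Group G] [Finite G] [IsSimpleGroup G] {p : ℕ} [hp : Fact p.Prime]
    (hnc : ¬ Cfsg.IsPClosed p G) (hsub : ∀ H : Subgroup G, H ≠ ⊤ → Cfsg.IsPClosed p ↥H) :
    (∀ P Q : Sylow p G, P ≠ Q → (P : Subgroup G) ⊓ (Q : Subgroup G) = ⊥) ∧
      ∀ (P : Sylow p G) (R : Subgroup G), R ≤ P → R ≠ ⊥ →
        Subgroup.normalizer (R : Set G) ≤ Subgroup.normalizer ((P : Subgroup G) : Set G) := by
  -- normalizers of nontrivial p-subgroups are proper
  have hprop : ∀ R : Subgroup G, IsPGroup p R → R ≠ ⊥ → normalizer (R : Set G) ≠ ⊤ := by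
    intro R hR hne htop
    have hn : R.Normal := normalizer_eq_top_iff.1 htop
    rcases hn.eq_bot_or_eq_top with h | h
    · exact hne h
    · apply hnc
      apply pclosed_of_isPGroup
      rw [h] at hR
      exact hR.of_equiv Subgroup.topEquiv
  -- if D = P ∩ P' ≠ 1 and N(D) ≤ N(P') then P = P'
  have step : ∀ P P' : Sylow p G, (P : Subgroup G) ⊓ P' ≠ ⊥ → normalizer (((P : Subgroup G) ⊓ P' : Subgroup G) : Set G) ≤ normalizer ((P' : Subgroup G) : Set G) → P = P' := by
    intro P P' hD hN
    by_contra hne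
    have hP'ne : (P' : Subgroup G) ≠ ⊥ := by
      intro h; rw [h, inf_bot_eq] at hD; exact hD rfl
    have h1 : (P : Subgroup G) ⊓ P' < P := by
      refine lt_of_le_of_ne inf_le_left ?_
      intro h
      apply hne
      have h2 : (P : Subgroup G) ≤ P' := by rw [← h]; exact inf_le_right
      exact Sylow.ext (P.3 P'.2 h2).symm
    have h2 : (P : Subgroup G) ⊓ P' < (P : Subgroup G) ⊓ normalizer (((P : Subgroup G) ⊓ P' : Subgroup G) : Set G) := by
      exact CfsgH1.lt_inf_normalizer_of_nilpotent (IsPGroup.isNilpotent P.2) h1.le h1.ne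
    have h3 : (P : Subgroup G) ⊓ normalizer (((P : Subgroup G) ⊓ P' : Subgroup G) : Set G) ≤ P' := by
      apply le_sylow_of_pclosed (hsub _ (hprop _ P'.2 hP'ne)) P' Subgroup.le_normalizer (P.2.to_le inf_le_left)
      exact inf_le_right.trans hN
    exact absurd (le_inf inf_le_left h3) (not_le_of_gt h2)
  have main : ∀ n : ℕ, ∀ R : Subgroup G, Nat.card G - Nat.card R = n → R ≠ ⊥ → ∀ P : Sylow p G, R ≤ P → normalizer (R : Set G) ≤ normalizer ((P : Subgroup G) : Set G) := by
    intro n
    induction n using Nat.strong_induction_on with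
    | _ n ih =>
    intro R hn hRne P hRP
    by_cases hRe : R = (P : Subgroup G)
    · rw [hRe]
    have hlt : R < (P : Subgroup G) := lt_of_le_of_ne hRP hRe
    have hRp : IsPGroup p R := P.2.to_le hRP
    have hK := hsub _ (hprop R hRp hRne)
    have h2 : R < (P : Subgroup G) ⊓ normalizer (R : Set G) := CfsgH1.lt_inf_normalizer_of_nilpotent (IsPGroup.isNilpotent P.2) hlt.le hlt.ne
    set K := normalizer (R : Set G) with hKdef
    set T := (pCore p K).map K.subtype with hT
    have hTp : IsPGroup p T := (CfsgH2.isPGroup_pCore p).map _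
    have h3 : (P : Subgroup G) ⊓ K ≤ T := by
      intro x hx
      have h4 : ((P : Subgroup G) ⊓ K).subgroupOf K ≤ pCore p K := pclosed_le hK ((P.2.to_le inf_le_left).comap_of_injective _ K.subtype_injective)
      exact ⟨⟨x, hx.2⟩, h4 (by rw [mem_subgroupOf]; exact hx), rfl⟩
    obtain ⟨P', hP'⟩ := hTp.exists_le_sylow
    have hbig : ∀ S : Subgroup G, R < S → Nat.card G - Nat.card S < n := by
      intro S hS
      have h5 := card_lt_card_of_lt hS
      have h6 := Subgroup.card_le_card_group S
      omega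
    have h5 : P = P' := by
      have h6 : R < (P : Subgroup G) ⊓ P' := lt_of_lt_of_le h2 (le_inf inf_le_left (h3.trans hP'))
      apply step P P' (fun h => by rw [h] at h6; exact not_lt_bot h6)
      exact ih _ (hbig _ h6) _ rfl (fun h => by rw [h] at h6; exact not_lt_bot h6) P' inf_le_right
    have h6 : R < T := lt_of_lt_of_le h2 h3
    have h7 := ih _ (hbig T h6) T rfl (fun h => by rw [h] at h6; exact not_lt_bot h6) P (by rw [h5]; exact hP')
    refine le_trans ?_ h7
    rw [le_normalizer_iff_conj]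
    rintro k hk _ ⟨y, hy, rfl⟩
    refine ⟨⟨k, hk⟩ * y * ⟨k, hk⟩⁻¹, (inferInstance : (pCore p K).Normal).conj_mem y hy _, by simp⟩
  refine ⟨?_, fun P R hR hRne => main _ R rfl hRne P hR⟩
  intro P Q hPQ
  by_contra hne
  exact hPQ (step P Q hne (main _ _ rfl hne Q inf_le_right))

/-- Let G be a finite simple group whose Sylow p-subgroups are not normal but such that every proper subgroup of G has a normal Sylow p-subgroup. Then any two distinct Sylow p-subgroups of G intersect trivially, and for every Sylow p-subgroup P the normalizer of every non-identity subgroup of P lies in the normalizer of P. -/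
theorem result {G : Type*} [Group G] [Finite G] [IsSimpleGroup G] {p : ℕ} [Fact p.Prime]
    (hnc : ¬ Cfsg.IsPClosed p G) (hsub : ∀ H : Subgroup G, H ≠ ⊤ → Cfsg.IsPClosed p ↥H) :
    (∀ P Q : Sylow p G, P ≠ Q → (P : Subgroup G) ⊓ (Q : Subgroup G) = ⊥) ∧
      ∀ (P : Sylow p G) (R : Subgroup G), R ≤ P → R ≠ ⊥ →
        Subgroup.normalizer (R : Set G) ≤ Subgroup.normalizer ((P : Subgroup G) : Set G) := by

  exact main hnc hsub

end Cfsg.Agent.S3870
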