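import Cfsg.Statements.S3873
import Cfsg.Agent.H1.PClosed

set_option autoImplicit false
open Cfsg

namespace Cfsg.Agent.S3873

open scoped commutatorElement Pointwise

/-- the elements of exponent `p` of a p-exponent closed subgroup generate a `p`-group; if `K` contains `B` (p') normalized by a `p`-element `x` of `K` with `K = B⟨x⟩`-/
theorem central {G : Type*} [Group G] [Finite G] {p : ℕ} [hp : Fact p.Prime] {B : Subgroup G} {x : G} (hx : orderOf x = p) 
    (hB : ¬ p ∣ Nat.card B) (hxB : Subgroup.zpowers x ≤ Subgroup.normalizer (B : Set G))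
    (hK : ∃ H : Subgroup ↥(B ⊔ Subgroup.zpowers x), (H : Set ↥(B ⊔ Subgroup.zpowers x)) = {g | g ^ p = 1}) : 
    Subgroup.zpowers x ≤ Subgroup.centralizer (B : Set G) := by
  obtain ⟨H, hH⟩ := hK
  have hxK : x ∈ B ⊔ Subgroup.zpowers x := (le_sup_right : Subgroup.zpowers x ≤ _) (Subgroup.mem_zpowers x)
  have hHn : H.Normal := by
    constructor
    intro n hn g
    have h1 : n ∈ (H : Set _) := hn
    rw [hH] at h1
    have h2 : g * n * g⁻¹ ∈ (H : Set _) := by
      rw [hH]
      change (g * n * g⁻¹) ^ p = 1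
      rw [conj_pow, show n ^ p = 1 from h1]; simp
    exact h2
  have hHp : IsPGroup p H := by
    intro h
    refine ⟨1, Subtype.ext ?_⟩
    have h1 : (h : ↥(B ⊔ Subgroup.zpowers x)) ∈ (H : Set _) := h.2
    rw [hH] at h1
    rw [pow_one]
    exact h1
  have h3 : H ≤ pCore p ↥(B ⊔ Subgroup.zpowers x) := CfsgH2.le_pCore hHn hHp
  -- same argument as before
  have h4 : ∀ b ∈ B, ⁅b, x⁆ = 1 := by
    intro b hb
    have hbK : b ∈ B ⊔ Subgroup.zpowers x := (le_sup_left : B ≤ _) hb
    have h5 : ⁅b, x⁆ ∈ B := by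
      rw [commutatorElement_def, mul_assoc, mul_assoc]
      apply B.mul_mem hb
      rw [← mul_assoc]
      exact (CfsgH1.le_normalizer_iff_conj.1 hxB) x (Subgroup.mem_zpowers x) _ (B.inv_mem hb)
    have h6 : (⟨x, hxK⟩ : ↥(B ⊔ Subgroup.zpowers x)) ∈ H := by
      have : (⟨x, hxK⟩ : ↥(B ⊔ Subgroup.zpowers x)) ∈ (H : Set _) := by
        rw [hH]
        exact Subtype.ext (by rw [← hx]; exact pow_orderOf_eq_one x)
      exact this
    have h7 : ⁅(⟨b, hbK⟩ : ↥(B ⊔ Subgroup.zpowers x)), (⟨x, hxK⟩ : ↥(B ⊔ Subgroup.zpowers x))⁆ ∈ H := by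
      rw [commutatorElement_def]
      exact H.mul_mem (hHn.conj_mem _ h6 _) (H.inv_mem h6)
    have h8 : ⁅b, x⁆ ^ p = 1 := by
      have : ⁅(⟨b, hbK⟩ : ↥(B ⊔ Subgroup.zpowers x)), (⟨x, hxK⟩ : ↥(B ⊔ Subgroup.zpowers x))⁆ ∈ (H : Set ↥(B ⊔ Subgroup.zpowers x)) := h7
      rw [hH] at this
      exact congrArg (fun z : ↥(B ⊔ Subgroup.zpowers x) => (z : G)) this
    have h9 : orderOf ⁅b, x⁆ ∣ p := orderOf_dvd_of_pow_eq_one h8
    rcases (Nat.dvd_prime hp.out).1 h9 with h | h
    · exact orderOf_eq_one_iff.1 h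
    · exfalso
      apply hB
      rw [← h, ← Subgroup.orderOf_mk ⁅b, x⁆ h5]
      exact orderOf_dvd_natCard _
  rw [Subgroup.zpowers_le, Subgroup.mem_centralizer_iff]
  intro b hb
  exact commutatorElement_eq_one_iff_mul_comm.1 (h4 b hb)

open Subgroup CfsgH1 in
theorem main {G : Type*} [Group G] [Finite G] {p : ℕ} [hp : Fact p.Prime]
    (hnc : ¬ (∃ H : Subgroup G, (H : Set G) = {g : G | g ^ p = 1})) (hsub : ∀ K : Subgroup G, K ≠ ⊤ → (∃ H : Subgroup ↥K, (H : Set ↥K) = {g : ↥K | g ^ p = 1}))
    (hquo : ∀ (N : Subgroup G) [N.Normal], N ≠ ⊥ → (∃ H : Subgroup (G ⧸ N), (H : Set (G ⧸ N)) = {g : (G ⧸ N) | g ^ p = 1}))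
    (hns : ¬ IsSimpleGroup G) (hnp : ¬ IsPGroup p G) :
    ∃ q : ℕ, q.Prime ∧ q ≠ p ∧ Nat.card G = p * q ^ orderOf (q : ZMod p) ∧
      ∃ A : Subgroup G, A.Normal ∧ Nat.card ↥A = q ^ orderOf (q : ZMod p) ∧ Cfsg.IsElementaryAbelian q A ∧
        ∀ B : Subgroup G, B.Normal → B ≤ A → B = ⊥ ∨ B = A := by
  -- generation
  have hgen : Subgroup.closure {g : G | g ^ p = 1} = ⊤ := by
    by_contra hne
    obtain ⟨H, hH⟩ := hsub _ hne
    apply hnc
    refine ⟨H.map (Subgroup.closure {g : G | g ^ p = 1}).subtype, ?_⟩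
    ext g
    constructor
    · rintro ⟨h, hh, rfl⟩
      have : h ∈ (H : Set _) := hh
      rw [hH] at this
      exact congrArg (fun z : Subgroup.closure {g : G | g ^ p = 1} => (z : G)) this
    · intro hg
      have h1 : (⟨g, subset_closure hg⟩ : Subgroup.closure {g : G | g ^ p = 1}) ∈ (H : Set _) := by
        rw [hH]
        exact Subtype.ext hg
      exact ⟨_, h1, rfl⟩
  have hq1 : ∀ (N : Subgroup G) [N.Normal], N ≠ ⊥ → IsPGroup p (G ⧸ N) := by
    intro N hN hne
    obtain ⟨H, hH⟩ := hquo N hne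
    have h1 : (⊤ : Subgroup G) ≤ H.comap (QuotientGroup.mk' N) := by
      rw [← hgen, Subgroup.closure_le]
      intro g hg
      have : QuotientGroup.mk' N g ∈ (H : Set (G ⧸ N)) := by
        rw [hH]
        change (QuotientGroup.mk' N g) ^ p = 1
        rw [← map_pow, show g ^ p = 1 from hg, map_one]
      exact this
    intro y
    obtain ⟨g, rfl⟩ := QuotientGroup.mk'_surjective N y
    have h2 : QuotientGroup.mk' N g ∈ (H : Set (G ⧸ N)) := h1 (mem_top g)
    rw [hH] at h2
    exact ⟨1, by rw [pow_one]; exact h2⟩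
  have hO : pCore p G = ⊥ := by
    by_contra hne
    apply hnp
    have h1 := hq1 (pCore p G) hne
    intro g
    obtain ⟨k, hk⟩ := h1 (QuotientGroup.mk' _ g)
    rw [← map_pow] at hk
    have h2 : g ^ p ^ k ∈ pCore p G := by
      rw [← QuotientGroup.ker_mk' (pCore p G)]
      exact hk
    obtain ⟨l, hl⟩ := (CfsgH2.isPGroup_pCore p) ⟨_, h2⟩
    refine ⟨k + l, ?_⟩
    rw [pow_add, pow_mul]
    exact congrArg (fun z : pCore p G => (z : G)) hl
  haveI hnt : Nontrivial G := by
    rw [← not_subsingleton_iff_nontrivial]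
    intro hs
    exact hnp (fun g => ⟨0, Subsingleton.elim _ _⟩)
  obtain ⟨A, hAn, hAne, hmin⟩ := exists_minNormal (G := G)
  have hAtop : A ≠ ⊤ := by
    rintro rfl
    apply hns
    refine ⟨fun N hN => hmin N hN le_top⟩
  have hAp : ¬ p ∣ Nat.card A := by
    intro hd
    obtain ⟨H, hH⟩ := hsub A hAtop
    obtain ⟨a, ha⟩ := exists_prime_orderOf_dvd_card' (G := A) p hd
    have h1 : (H.map A.subtype) ≤ pCore p G := by
      apply CfsgH2.le_pCore
      · constructor
        rintro _ ⟨n, hn, rfl⟩ g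
        have h2 : n ∈ (H : Set _) := hn
        rw [hH] at h2
        have h3 : (⟨g * n * g⁻¹, hAn.conj_mem _ n.2 g⟩ : A) ∈ (H : Set _) := by
          rw [hH]
          apply Subtype.ext
          change (g * (n : G) * g⁻¹) ^ p = 1
          rw [conj_pow, show (n : G) ^ p = 1 from congrArg (fun z : A => (z : G)) h2]; simp
        exact ⟨_, h3, rfl⟩
      · intro ⟨h, hh⟩
        obtain ⟨n, hn, hn'⟩ := hh
        refine ⟨1, Subtype.ext ?_⟩
        have h2 : n ∈ (H : Set _) := hn
        rw [hH] at h2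
        rw [pow_one]
        change h ^ p = 1
        rw [← hn']
        exact congrArg (fun z : A => (z : G)) h2
    have h4 : a ∈ (H : Set _) := by
      rw [hH]
      change a ^ p = 1
      rw [← ha]; exact pow_orderOf_eq_one a
    have h5 := h1 ⟨a, h4, rfl⟩
    rw [hO, mem_bot] at h5
    have h2 : a = 1 := Subtype.ext h5
    rw [h2, orderOf_one] at ha
    exact hp.out.one_lt.ne ha
  -- some element x of order p not centralizing A
  have hidx : ∃ n, A.index = p ^ n := by
    obtain ⟨n, hn⟩ := IsPGroup.iff_card.1 (hq1 A hAne)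
    exact ⟨n, hn⟩
  obtain ⟨n, hn⟩ := hidx
  have hcap : ∀ x : G, orderOf x = p → zpowers x ⊓ A = ⊥ := by
    intro x hx
    apply CfsgH1.inf_eq_bot_of_coprime
    rw [Nat.card_zpowers, hx]
    exact ((Nat.Prime.coprime_iff_not_dvd hp.out).2 hAp)
  obtain ⟨x, hx, hxtop⟩ : ∃ x : G, orderOf x = p ∧ A ⊔ zpowers x = ⊤ := by
    by_contra hcon
    push Not at hcon
    -- all elements of order p centralize A
    have h1 : (⊤ : Subgroup G) ≤ centralizer (A : Set G) := by
      rw [← hgen, Subgroup.closure_le]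
      intro g hg
      have h2 : orderOf g ∣ p := orderOf_dvd_of_pow_eq_one hg
      rcases (Nat.dvd_prime hp.out).1 h2 with h | h
      · rw [orderOf_eq_one_iff.1 h]; exact (centralizer (A : Set G)).one_mem
      · exact central h hAp (le_normalizer_of_normal _ _) (hsub _ (hcon g h)) (mem_zpowers g)
    obtain ⟨P⟩ := (inferInstance : Nonempty (Sylow p G))
    have h2 : (P : Subgroup G) ≤ pCore p G := by
      apply CfsgH2.le_pCore _ P.2
      rw [← normalizer_eq_top_iff, ← top_le_iff]
      have h3 : A ⊔ (P : Subgroup G) = ⊤ := by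
        apply Subgroup.eq_top_of_card_eq
        have h4 := card_sup_mul_card_inf (H := (P : Subgroup G)) (K := A) (le_normalizer_of_normal _ _)
        have h5 : (P : Subgroup G) ⊓ A = ⊥ := by
          apply CfsgH1.inf_eq_bot_of_coprime
          obtain ⟨m, hm⟩ := IsPGroup.iff_card.1 P.2
          rw [hm]
          exact Nat.Coprime.pow_left _ ((Nat.Prime.coprime_iff_not_dvd hp.out).2 hAp)
        rw [h5, Subgroup.card_bot, mul_one] at h4
        rw [sup_comm, h4, ← Subgroup.index_mul_card A, hn]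
        congr 1
        -- card of Sylow
        have h6 : Nat.card G = p ^ n * Nat.card A := by rw [← hn, Subgroup.index_mul_card]
        rw [Sylow.card_eq_multiplicity, h6, Nat.factorization_mul (pow_ne_zero _ hp.out.ne_zero) Nat.card_pos.ne', Nat.Prime.factorization_pow hp.out]
        simp [Nat.factorization_eq_zero_of_not_dvd hAp]
      rw [← h3]
      apply sup_le
      · rw [le_normalizer_iff_conj]
        rintro a ha y hy
        have h3 := (mem_centralizer_iff.1 (h1 (mem_top y))) a ha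
        rw [h3, mul_inv_cancel_right]
        exact hy
      · exact Subgroup.le_normalizer
    rw [hO, le_bot_iff] at h2
    -- G = A
    have h3 : ¬ p ∣ Nat.card G := fun hd => sylow_ne_bot hd P h2
    have h4 : n = 0 := by
      by_contra h5
      exact h3 ((dvd_pow_self p h5).trans (hn ▸ A.index_dvd_card))
    rw [h4, pow_zero, Subgroup.index_eq_one] at hn
    exact hAtop hn
  apply irr_structure hAne hAp hmin hx hxtop
  · intro hc
    have h1 : (zpowers x).Normal := by
      rw [← normalizer_eq_top_iff, ← top_le_iff, ← hxtop]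
      apply sup_le
      · rw [le_normalizer_iff_conj]
        rintro a ha y hy
        have h3 := (mem_centralizer_iff.1 (hc hy)) a ha
        rw [h3, mul_inv_cancel_right]
        exact hy
      · exact Subgroup.le_normalizer
    have h2 : zpowers x ≤ pCore p G := by
      apply CfsgH2.le_pCore h1
      apply IsPGroup.of_card (n := 1)
      rw [Nat.card_zpowers, hx, pow_one]
    rw [hO, le_bot_iff, zpowers_eq_bot] at h2
    rw [h2, orderOf_one] at hx
    exact hp.out.one_lt.ne hx
  · intro B hBA hxB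
    have hne : B ⊔ zpowers x ≠ ⊤ := by
      intro h
      have h1 := card_sup_mul_card_inf (H := zpowers x) (K := B) hxB
      rw [sup_comm, h, Subgroup.card_top] at h1
      have h2 := card_sup_mul_card_inf (H := zpowers x) (K := A) (le_normalizer_of_normal _ _)
      rw [sup_comm, hxtop, Subgroup.card_top] at h2
      have h4 : zpowers x ⊓ B = ⊥ := by
        rw [eq_bot_iff, ← hcap x hx]
        exact inf_le_inf_left _ hBA.le
      rw [hcap x hx, Subgroup.card_bot, mul_one] at h2
      rw [h4, Subgroup.card_bot, mul_one, h2] at h1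
      have h5 := Nat.eq_of_mul_eq_mul_left Nat.card_pos h1
      exact hBA.ne (Subgroup.eq_of_le_of_card_ge hBA.le h5.le)
    exact central hx (fun h => hAp (h.trans (card_dvd_of_le hBA.le))) hxB (hsub _ hne)

/-- Say that a finite group is p-exponent closed when its elements of order dividing p form a subgroup. Let G be a finite group that is not p-exponent closed, but all of whose proper subgroups and proper quotients are, and suppose G is neither simple nor a p-group. Then there is a prime q ≠ p such that G has order p · q^e, where e is the multiplicative order of q modulo p, and G has a normal elementary abelian subgroup of order q^e that is a minimal normal subgroup of G. -/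
theorem result {G : Type*} [Group G] [Finite G] {p : ℕ} [Fact p.Prime]
    (hnc : ¬ (∃ H : Subgroup G, (H : Set G) = {g : G | g ^ p = 1})) (hsub : ∀ K : Subgroup G, K ≠ ⊤ → (∃ H : Subgroup ↥K, (H : Set ↥K) = {g : ↥K | g ^ p = 1}))
    (hquo : ∀ (N : Subgroup G) [N.Normal], N ≠ ⊥ → (∃ H : Subgroup (G ⧸ N), (H : Set (G ⧸ N)) = {g : (G ⧸ N) | g ^ p = 1}))
    (hns : ¬ IsSimpleGroup G) (hnp : ¬ IsPGroup p G) :
    ∃ q : ℕ, q.Prime ∧ q ≠ p ∧ Nat.card G = p * q ^ orderOf (q : ZMod p) ∧
      ∃ A : Subgroup G, A.Normal ∧ Nat.card ↥A = q ^ orderOf (q : ZMod p) ∧ Cfsg.IsElementaryAbelian q A ∧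
        ∀ B : Subgroup G, B.Normal → B ≤ A → B = ⊥ ∨ B = A := by

  exact main hnc hsub hquo hns hnp

end Cfsg.Agent.S3873
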