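import Cfsg.Statements.S3889
import Cfsg.Agent.H1.Basic

set_option autoImplicit false
open Cfsg

namespace Cfsg.Agent.S3889

open scoped commutatorElement Pointwise

/-- A finite abelian group that is the union of a family of proper subgroups any two of which intersect trivially is elementary abelian: its exponent is a prime. -/
theorem result {G : Type*} [CommGroup G] [Finite G] (𝓑 : Set (Subgroup G)) (hprop : ∀ B ∈ 𝓑, B ≠ ⊤)
    (hcov : ∀ g : G, ∃ B ∈ 𝓑, g ∈ B) (hdisj : ∀ B ∈ 𝓑, ∀ C ∈ 𝓑, B ≠ C → B ⊓ C = ⊥) :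
    (Monoid.exponent G).Prime := by
  classical
  have hne1 : ∃ g : G, g ≠ 1 := by
    obtain ⟨B, hB, -⟩ := hcov 1
    by_contra hcon
    push Not at hcon
    apply hprop B hB
    rw [eq_top_iff]
    intro g _
    rw [hcon g]; exact B.one_mem
  -- elements of different components
  have hdiff : ∀ B ∈ 𝓑, ∀ x ∈ B, x ≠ 1 → ∀ y ∉ B, orderOf x = orderOf y := by
    intro B hB x hx hx1 y hy
    have hy1 : y ≠ 1 := by rintro rfl; exact hy B.one_mem
    obtain ⟨D, hD, hyD⟩ := hcov y
    have hDB : D ≠ B := by rintro rfl; exact hy hyD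
    obtain ⟨C, hC, hxyC⟩ := hcov (x * y)
    have hCB : C ≠ B := by
      rintro rfl
      exact hy ((C.mul_mem_cancel_left hx).1 hxyC)
    have hxD : x ∉ D := by
      intro h
      have : x ∈ D ⊓ B := ⟨h, hx⟩
      rw [hdisj D hD B hB hDB] at this
      exact hx1 this
    have hCD : C ≠ D := by
      rintro rfl
      exact hxD ((C.mul_mem_cancel_right hyD).1 hxyC)
    have h1 : y ^ orderOf x = 1 := by
      have h2 : (x * y) ^ orderOf x ∈ C ⊓ D := by
        refine ⟨C.pow_mem hxyC _, ?_⟩
        rw [mul_pow, pow_orderOf_eq_one, one_mul]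
        exact D.pow_mem hyD _
      rw [hdisj C hC D hD hCD, mul_pow, pow_orderOf_eq_one, one_mul] at h2
      exact h2
    have h1' : x ^ orderOf y = 1 := by
      have h2 : (x * y) ^ orderOf y ∈ C ⊓ B := by
        refine ⟨C.pow_mem hxyC _, ?_⟩
        rw [mul_pow, pow_orderOf_eq_one, mul_one]
        exact B.pow_mem hx _
      rw [hdisj C hC B hB hCB, mul_pow, pow_orderOf_eq_one, mul_one] at h2
      exact h2
    exact Nat.dvd_antisymm (orderOf_dvd_of_pow_eq_one h1') (orderOf_dvd_of_pow_eq_one h1)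
  have hall : ∀ x y : G, x ≠ 1 → y ≠ 1 → orderOf x = orderOf y := by
    intro x y hx hy
    obtain ⟨B, hB, hxB⟩ := hcov x
    by_cases hyB : y ∈ B
    · obtain ⟨z, hz⟩ : ∃ z : G, z ∉ B := by
        by_contra hcon
        push Not at hcon
        exact hprop B hB (eq_top_iff.2 fun g _ => hcon g)
      rw [hdiff B hB x hxB hx z hz, hdiff B hB y hyB hy z hz]
    · exact hdiff B hB x hxB hx y hyB
  obtain ⟨g, hg⟩ := hne1
  have hexp : Monoid.exponent G = orderOf g := by
    apply Nat.dvd_antisymm
    · apply Monoid.exponent_dvd_of_forall_pow_eq_one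
      intro x
      by_cases hx : x = 1
      · rw [hx, one_pow]
      · rw [← hall x g hx hg]; exact pow_orderOf_eq_one x
    · exact Monoid.order_dvd_exponent g
  rw [hexp]
  -- order is prime
  have hg1 : orderOf g ≠ 1 := fun h => hg (orderOf_eq_one_iff.1 h)
  set q := (orderOf g).minFac with hq
  have hqp : q.Prime := Nat.minFac_prime hg1
  have hqd : q ∣ orderOf g := Nat.minFac_dvd _
  have h1 : orderOf (g ^ (orderOf g / q)) = q := by
    rw [orderOf_pow' g (by
      have := Nat.div_pos (Nat.le_of_dvd (orderOf_pos g) hqd) hqp.pos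
      omega)]
    rw [Nat.gcd_eq_right (Nat.div_dvd_of_dvd hqd), Nat.div_div_self hqd (orderOf_pos g).ne']
  have h2 : g ^ (orderOf g / q) ≠ 1 := by
    intro h
    rw [h, orderOf_one] at h1
    exact hqp.one_lt.ne h1
  rw [hall g _ hg h2, h1]
  exact hqp

end Cfsg.Agent.S3889
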