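import Cfsg.Statements.S3893
import Cfsg.Agent.L.Sz.Cover
import Cfsg.Agent.L.Sz.Bridge

set_option autoImplicit false
open Cfsg

namespace Cfsg.Agent.S3893
open CfsgL.Sz
open Subgroup

/-- A cover of a group is a finite set of proper subgroups whose union is the whole group; it is minimal when no cover has fewer members, and nilpotent when all its members are nilpotent. The Suzuki groups Sz(q), q = 2^(2m+1) with m ≥ 1, have no nilpotent minimal cover. -/
theorem result {F : Type*} [Field F] [Fintype F] (m : ℕ) (hm : 1 ≤ m) (hF : Fintype.card F = 2 ^ (2 * m + 1)) :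
    ¬ ∃ 𝓐 : Finset (Subgroup ↥(Cfsg.Lie.Sz F (2 ^ (m + 1)))), ((∀ A ∈ 𝓐, A ≠ ⊤) ∧ (∀ g : ↥(Cfsg.Lie.Sz F (2 ^ (m + 1))), ∃ A ∈ 𝓐, g ∈ A)) ∧ (∀ 𝓑 : Finset (Subgroup ↥(Cfsg.Lie.Sz F (2 ^ (m + 1)))), (∀ A ∈ 𝓑, A ≠ ⊤) ∧ (∀ g : ↥(Cfsg.Lie.Sz F (2 ^ (m + 1))), ∃ A ∈ 𝓑, g ∈ A) → 𝓐.card ≤ 𝓑.card) ∧ (∀ A ∈ 𝓐, Group.IsNilpotent ↥A) := by
  haveI := CfsgL.Sz.char_two hF
  haveI : Fact (Fintype.card F = 2 ^ (2 * m + 1)) := ⟨hF⟩
  haveI : Fact (1 ≤ m) := ⟨hm⟩
  classical
  rintro ⟨𝓐, ⟨hprop, hcov⟩, hmin, hnil⟩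
  apply no_nilp_cover (F := F) (m := m)
  let e := bridge F m
  have hmapinj : Function.Injective (fun A : Subgroup (Gz F m) => A.map e.toMonoidHom) := map_injective e.injective
  have hcomapinj : Function.Injective (fun A : Subgroup (Cfsg.Lie.Sz F (2 ^ (m + 1))) => A.comap e.toMonoidHom) :=
    comap_injective e.surjective
  refine ⟨𝓐.image (fun A => A.comap e.toMonoidHom), ⟨?_, ?_⟩, ?_, ?_⟩
  · intro B hB h
    obtain ⟨A, hA, rfl⟩ := Finset.mem_image.1 hB
    apply hprop A hA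
    apply hcomapinj
    change A.comap e.toMonoidHom = (⊤ : Subgroup _).comap e.toMonoidHom
    rw [h, comap_top]
  · intro g
    obtain ⟨A, hA, hgA⟩ := hcov (e g)
    exact ⟨_, Finset.mem_image.2 ⟨A, hA, rfl⟩, hgA⟩
  · rintro 𝓑 ⟨hB1, hB2⟩
    rw [Finset.card_image_of_injective _ hcomapinj]
    have h1 := hmin (𝓑.image (fun A => A.map e.toMonoidHom)) ⟨?_, ?_⟩
    · exact h1.trans Finset.card_image_le
    · intro B hB h
      obtain ⟨A, hA, rfl⟩ := Finset.mem_image.1 hB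
      apply hB1 A hA
      apply hmapinj
      change A.map e.toMonoidHom = (⊤ : Subgroup _).map e.toMonoidHom
      rw [h, map_top_of_surjective _ e.surjective]
    · intro g
      obtain ⟨A, hA, hgA⟩ := hB2 (e.symm g)
      exact ⟨_, Finset.mem_image.2 ⟨A, hA, rfl⟩, e.symm g, hgA, e.apply_symm_apply g⟩
  · intro B hB
    obtain ⟨A, hA, rfl⟩ := Finset.mem_image.1 hB
    haveI := hnil A hA
    let f : A.comap e.toMonoidHom →* A := {
      toFun := fun x => ⟨e x, x.2⟩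
      map_one' := Subtype.ext (map_one e)
      map_mul' := fun _ _ => Subtype.ext (map_mul e _ _) }
    have hf : Function.Injective f := fun x y h => Subtype.ext (e.injective (congrArg Subtype.val h))
    exact Subgroup.isNilpotent_of_ker_le_center f (by rw [(MonoidHom.ker_eq_bot_iff f).2 hf]; exact bot_le)

end Cfsg.Agent.S3893
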