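import Cfsg.Statements.S4113
import Cfsg.Agent.H1.Basic

set_option autoImplicit false
open Cfsg
open scoped commutatorElement

namespace Cfsg.Agent.S4113

/-- Let G be a finite group, M ≤ N non-trivial proper normal subgroups, and H a subgroup with HM = G and H ∩ M = 1. Then every element of G outside N acts fixed-point-freely on M (C_G(x) ≤ N for every x ∈ M, x ≠ 1) if and only if H ∩ gHg⁻¹ ≤ H ∩ N for every g outside H, with H proper and non-trivial and H ∩ N proper in H. -/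
theorem result {G : Type*} [Group G] [Finite G] (N M : Subgroup G) [N.Normal] [M.Normal] (hMN : M ≤ N) (hM1 : M ≠ ⊥) (hN2 : N ≠ ⊤)
    (H : Subgroup G) (hHM : H ⊔ M = ⊤) (hHM' : H ⊓ M = ⊥) :
    (∀ x ∈ M, x ≠ 1 → Subgroup.centralizer ({x} : Set G) ≤ N) ↔
      (H ≠ ⊥ ∧ H ≠ ⊤ ∧ H ⊓ N < H ∧ ∀ g : G, g ∉ H → H ⊓ H.map (MulAut.conj g).toMonoidHom ≤ N) := by
  have hmul : ∀ g : G, ∃ m ∈ M, ∃ h ∈ H, g = m * h := by
    intro g
    have h1 : g ∈ M ⊔ H := by rw [sup_comm, hHM]; trivial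
    obtain ⟨m, hm, h, hh, e⟩ := Subgroup.mem_sup_of_normal_left.1 h1
    exact ⟨m, hm, h, hh, e.symm⟩
  have hMn : M.Normal := inferInstance
  have hcomm : ∀ m ∈ M, ∀ h ∈ H, ∀ h' ∈ H, h = m * h' * m⁻¹ → h = h' ∧ m * h = h * m := by
    intro m hm h hh h' hh' e
    have h1 : h * h'⁻¹ ∈ M := by
      rw [e]
      have : m * h' * m⁻¹ * h'⁻¹ = m * (h' * m⁻¹ * h'⁻¹) := by group
      rw [this]
      exact M.mul_mem hm (hMn.conj_mem _ (M.inv_mem hm) h')
    have h2 : h * h'⁻¹ ∈ H ⊓ M := Subgroup.mem_inf.2 ⟨H.mul_mem hh (H.inv_mem hh'), h1⟩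
    rw [hHM', Subgroup.mem_bot, mul_inv_eq_one] at h2
    refine ⟨h2, ?_⟩
    nth_rewrite 2 [e]
    rw [h2]; group
  constructor
  · intro hfix
    refine ⟨?_, ?_, ?_, ?_⟩
    · intro hH
      rw [hH, bot_sup_eq] at hHM
      apply hN2
      rw [eq_top_iff, ← hHM]; exact hMN
    · intro hH
      rw [hH, top_inf_eq] at hHM'
      exact hM1 hHM'
    · refine lt_of_le_of_ne inf_le_left ?_
      intro hH
      apply hN2
      rw [eq_top_iff, ← hHM]
      exact sup_le (inf_eq_left.1 hH) hMN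
    · intro g hg y hy
      obtain ⟨hy1, hy2⟩ := Subgroup.mem_inf.1 hy
      obtain ⟨m, hm, h0, hh0, rfl⟩ := hmul g
      obtain ⟨z, hz, hzy⟩ := hy2
      have hzy' : y = m * (h0 * z * h0⁻¹) * m⁻¹ := by
        rw [← hzy]
        change m * h0 * z * (m * h0)⁻¹ = _
        group
      obtain ⟨-, h2⟩ := hcomm m hm y hy1 (h0 * z * h0⁻¹) (H.mul_mem (H.mul_mem hh0 hz) (H.inv_mem hh0)) hzy'
      have hm1 : m ≠ 1 := by
        intro e
        apply hg
        rw [e, one_mul]; exact hh0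
      apply hfix m hm hm1
      rw [Subgroup.mem_centralizer_iff]
      intro w hw
      rw [Set.mem_singleton_iff] at hw
      rw [hw]; exact h2
  · rintro ⟨-, -, -, hint⟩ x hx hx1 y hy
    by_contra hyN
    have hxy : x * y = y * x := Subgroup.mem_centralizer_iff.1 hy x rfl
    obtain ⟨m, hm, h, hh, rfl⟩ := hmul y
    have hhN : h ∉ N := fun hN => hyN (N.mul_mem (hMN hm) hN)
    -- elements of `M` commuting with `h`
    have hfp : ∀ k ∈ M, k * h = h * k → k = 1 := by
      intro k hk hkh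
      by_contra hk1
      have hkH : k ∉ H := by
        intro hkH
        have : k ∈ H ⊓ M := Subgroup.mem_inf.2 ⟨hkH, hk⟩
        rw [hHM', Subgroup.mem_bot] at this
        exact hk1 this
      apply hhN
      apply hint k hkH
      refine Subgroup.mem_inf.2 ⟨hh, h, hh, ?_⟩
      change k * h * k⁻¹ = h
      rw [hkh, mul_inv_cancel_right]
    let f : M → M := fun k => ⟨(k : G) * (h * (k : G)⁻¹ * h⁻¹), M.mul_mem k.2 (hMn.conj_mem _ (M.inv_mem k.2) h)⟩
    have hf : Function.Injective f := by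
      intro k n hkn
      have h1 : (k : G) * (h * (k : G)⁻¹ * h⁻¹) = (n : G) * (h * (n : G)⁻¹ * h⁻¹) := congrArg Subtype.val hkn
      have h2 := hfp ((n : G)⁻¹ * k) (M.mul_mem (M.inv_mem n.2) k.2) (by
        calc (n : G)⁻¹ * k * h = (n : G)⁻¹ * ((k : G) * (h * (k : G)⁻¹ * h⁻¹)) * h * k := by group
          _ = (n : G)⁻¹ * ((n : G) * (h * (n : G)⁻¹ * h⁻¹)) * h * k := by rw [h1]
          _ = _ := by group)
      rw [inv_mul_eq_one] at h2
      exact Subtype.ext h2.symm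
    have hfs := Finite.surjective_of_injective hf
    obtain ⟨k, hk⟩ := hfs ⟨m, hm⟩
    have hk' : (k : G) * (h * (k : G)⁻¹ * h⁻¹) = m := congrArg Subtype.val hk
    have h3 : m * h = (k : G) * h * (k : G)⁻¹ := by rw [← hk']; group
    have h4 := hfp ((k : G)⁻¹ * x * k) (by simpa using hMn.conj_mem x hx (k : G)⁻¹) (by
      rw [h3] at hxy
      calc (k : G)⁻¹ * x * k * h = (k : G)⁻¹ * (x * ((k : G) * h * (k : G)⁻¹)) * k := by group
        _ = (k : G)⁻¹ * ((k : G) * h * (k : G)⁻¹ * x) * k := by rw [hxy]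
        _ = _ := by group)
    apply hx1
    have : x = (k : G) * ((k : G)⁻¹ * x * k) * (k : G)⁻¹ := by group
    rw [this, h4]; group

end Cfsg.Agent.S4113
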