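import Mathlib
import Cfsg.Agent.H3.PBasic
import Cfsg.Statements.S4347

set_option autoImplicit false
open Cfsg

namespace Cfsg.Agent.S4347

/-- Let G be a finite group and p a prime. Say a Sylow p-subgroup Q is redundant when every element of p-power order lies in some Sylow p-subgroup other than Q. Then G has no redundant Sylow p-subgroup if and only if some element of p-power order lies in exactly one Sylow p-subgroup. -/
theorem result {G : Type*} [Group G] [Finite G]
    (p : ℕ) [Fact p.Prime] :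
    (¬ ∃ Q : Sylow p G, ∀ x : G, (∃ k : ℕ, orderOf x = p ^ k) → ∃ P : Sylow p G, P ≠ Q ∧ x ∈ P) ↔
      ∃ x : G, (∃ k : ℕ, orderOf x = p ^ k) ∧ ∃! P : Sylow p G, x ∈ P := by
  constructor
  · intro h
    push Not at h
    obtain ⟨Q⟩ := (inferInstance : Nonempty (Sylow p G))
    obtain ⟨x, hx, hP⟩ := h Q
    refine ⟨x, hx, ?_⟩
    obtain ⟨k, hk⟩ := hx
    have hxp : IsPGroup p (Subgroup.zpowers x) := by
      refine IsPGroup.of_card (n := k) ?_
      rw [Nat.card_zpowers, hk]
    obtain ⟨R, hR⟩ := hxp.exists_le_sylow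
    have hxR : x ∈ R := hR (Subgroup.mem_zpowers x)
    have hall : ∀ P : Sylow p G, x ∈ P → P = Q := by
      intro P hxP
      by_contra hne
      exact hP P hne hxP
    refine ⟨Q, ?_, hall⟩
    have := hall R hxR
    rwa [this] at hxR
  · rintro ⟨x, hx, P, hxP, hu⟩ ⟨Q, hQ⟩
    obtain ⟨g, hg⟩ := MulAction.exists_smul_eq G P Q
    obtain ⟨k, hk⟩ := hx
    obtain ⟨P', hP', hxP'⟩ := hQ (g * x * g⁻¹) ⟨k, by rw [← hk]; exact (CfsgH3.orderOf_conj g x)⟩
    have h1 : x ∈ g⁻¹ • P' := by
      rw [CfsgH3.mem_smul_sylow_iff, inv_inv]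
      exact hxP'
    have h2 := hu _ h1
    apply hP'
    rw [← hg, ← h2, smul_inv_smul]

end Cfsg.Agent.S4347
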