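import Mathlib
import Cfsg.Agent.H3.Cores2
import Cfsg.Statements.S4348

set_option autoImplicit false
open Cfsg

namespace Cfsg.Agent.S4348

/-- Let G be a finite group, p a prime and P a Sylow p-subgroup of G, and let O_p(G) be the largest normal p-subgroup of G. If P/O_p(G) is cyclic, then some element of p-power order of G lies in exactly one Sylow p-subgroup. -/
theorem result {G : Type*} [Group G] [Finite G]
    (p : ℕ) [Fact p.Prime] (P : Sylow p G)
    [hn : ((Cfsg.pCore p G).subgroupOf (P : Subgroup G)).Normal]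
    (hc : IsCyclic ((P : Subgroup G) ⧸ (Cfsg.pCore p G).subgroupOf (P : Subgroup G))) :
    ∃ x : G, (∃ k : ℕ, orderOf x = p ^ k) ∧ ∃! Q : Sylow p G, x ∈ Q := by
  obtain ⟨y, hy⟩ := hc.exists_generator
  obtain ⟨x, rfl⟩ := QuotientGroup.mk_surjective y
  refine ⟨(x : G), ?_, P, x.2, ?_⟩
  · obtain ⟨k, hk⟩ := IsPGroup.iff_orderOf.1 P.2 x
    exact ⟨k, by rw [← hk, Subgroup.orderOf_coe]⟩
  · intro Q hQ
    have hO : Cfsg.pCore p G ≤ (Q : Subgroup G) := CfsgH3.pCore_le_sylow Q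
    symm
    apply Sylow.ext
    have hle : (P : Subgroup G) ≤ Q := by
      intro z hz
      obtain ⟨n, hn⟩ := Subgroup.mem_zpowers_iff.1 (hy ((⟨z, hz⟩ : ↥(P : Subgroup G)) : _))
      have h1 : ((x ^ n : ↥(P : Subgroup G)) : ↥(P : Subgroup G) ⧸ (Cfsg.pCore p G).subgroupOf (P : Subgroup G)) =
        ((⟨z, hz⟩ : ↥(P : Subgroup G)) : _) := by
        rw [QuotientGroup.mk_zpow]; exact hn
      have h2 := QuotientGroup.eq.1 h1
      have h3 : ((x : G) ^ n)⁻¹ * z ∈ Cfsg.pCore p G := h2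
      have h4 : z = (x : G) ^ n * (((x : G) ^ n)⁻¹ * z) := by group
      rw [h4]
      exact mul_mem (zpow_mem hQ n) (hO h3)
    exact (P.3 Q.2 hle).symm

end Cfsg.Agent.S4348
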