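import Mathlib
import Cfsg.Agent.H3.Frob
import Cfsg.Agent.H3.NPC2
import Cfsg.Agent.H3.PGroup
import Cfsg.Agent.H3.FratAut
import Cfsg.Agent.H2.Cores
import Cfsg.Agent.H2.Fitting
import Cfsg.Statements.S4419

set_option autoImplicit false
open Cfsg

namespace Cfsg.Agent.S4419

open Subgroup CfsgH3 

open scoped Pointwise commutatorElement

theorem meta_surj {R S : Type*} [Group R] [Group S] (f : R →* S) (hf : Function.Surjective f) (h : Cfsg.IsMetacyclic R) : Cfsg.IsMetacyclic S := by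
  obtain ⟨N, hN, h1, h2⟩ := h
  haveI : (N.map f).Normal := Subgroup.Normal.map hN f hf
  refine ⟨N.map f, inferInstance, ?_, ?_⟩
  · exact isCyclic_of_surjective (f.subgroupMap N) (f.subgroupMap_surjective N)
  · let φ : R ⧸ N →* S ⧸ (N.map f) := QuotientGroup.map N (N.map f) f (Subgroup.le_comap_map f N)
    refine isCyclic_of_surjective φ ?_
    intro y
    obtain ⟨s, rfl⟩ := QuotientGroup.mk_surjective y
    obtain ⟨r, rfl⟩ := hf s
    exact ⟨(r : R ⧸ N), rfl⟩

theorem meta_inj {R S : Type*} [Group R] [Group S] (f : S →* R) (hf : Function.Injective f) (h : Cfsg.IsMetacyclic R) : Cfsg.IsMetacyclic S := by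
  obtain ⟨N, hN, h1, h2⟩ := h
  haveI : (N.comap f).Normal := hN.comap f
  refine ⟨N.comap f, inferInstance, ?_, ?_⟩
  · let ψ : N.comap f →* N := (f.comp (N.comap f).subtype).codRestrict N (fun x => x.2)
    apply isCyclic_of_injective ψ
    intro a b hab
    have : f a = f b := congrArg Subtype.val hab
    exact Subtype.ext (hf this)
  · let φ : S ⧸ N.comap f →* R ⧸ N := QuotientGroup.map (N.comap f) N f le_rfl
    apply isCyclic_of_injective φ
    rw [injective_iff_map_eq_one]
    intro y hy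
    obtain ⟨s, rfl⟩ := QuotientGroup.mk_surjective y
    have h3 : ((f s : R) : R ⧸ N) = 1 := hy
    rw [QuotientGroup.eq_one_iff] at h3 ⊢
    exact h3

theorem meta_frat {X : Type*} [Group X] [Finite X] {p : ℕ} [hp : Fact p.Prime] (hX : IsPGroup p X) (h : Cfsg.IsMetacyclic X) : 
    ∃ d : ℕ, d ≤ 2 ∧ (frattini X).index = p ^ d := by
  obtain ⟨N, hN, h1, h2⟩ := meta_surj (QuotientGroup.mk' (frattini X)) (QuotientGroup.mk'_surjective _) h
  have hexp : ∀ y : X ⧸ frattini X, y ^ p = 1 := by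
    intro y
    obtain ⟨x, rfl⟩ := QuotientGroup.mk_surjective y
    rw [← QuotientGroup.mk_pow, QuotientGroup.eq_one_iff]; exact pow_mem_frattini hX x
  have cyc : ∀ {Y : Type _} [Group Y] [Finite Y] (_ : IsCyclic Y) (_ : ∀ y : Y, y ^ p = 1), Nat.card Y ∣ p := by
    intro Y _ _ hc hy
    obtain ⟨g, hg⟩ := hc.exists_generator
    rw [← orderOf_eq_card_of_forall_mem_zpowers hg]
    exact orderOf_dvd_of_pow_eq_one (hy g)
  have h3 : Nat.card N ∣ p := cyc h1 (fun y => Subtype.ext (hexp y))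
  have h4 : Nat.card ((X ⧸ frattini X) ⧸ N) ∣ p := cyc h2 (fun y => by
    obtain ⟨x, rfl⟩ := QuotientGroup.mk_surjective y
    rw [← QuotientGroup.mk_pow, hexp]; rfl)
  have h5 : (frattini X).index ∣ p ^ 2 := by
    have h6 := Subgroup.card_mul_index N
    have h7 : (frattini X).index = Nat.card N * Nat.card ((X ⧸ frattini X) ⧸ N) := h6.symm
    rw [h7, pow_two]; exact mul_dvd_mul h3 h4
  obtain ⟨d, hd, hd'⟩ := (Nat.dvd_prime_pow hp.out).1 h5
  exact ⟨d, hd, hd'⟩

theorem prime_dvd {p r k d : ℕ} (hp : p.Prime) (hr : r.Prime) (hrp : r ≠ p) (hd : d ≤ 2) (h : r ∣ p ^ k * ∏ i ∈ Finset.range d, (p ^ d - p ^ i)) : r ∣ p ^ 2 - 1 := by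
  have h1 : ¬ r ∣ p := fun h => hrp ((Nat.prime_dvd_prime_iff_eq hr hp).1 h)
  rcases (Nat.Prime.dvd_mul hr).1 h with h2 | h2
  · exact absurd (hr.dvd_of_dvd_pow h2) h1
  have hfac : p ^ 2 - 1 = (p + 1) * (p - 1) := by
    have := Nat.sq_sub_sq p 1
    rwa [one_pow] at this
  interval_cases d
  · rw [Finset.prod_range_zero] at h2
    exact absurd (Nat.dvd_one.1 h2) hr.one_lt.ne'
  · rw [Finset.prod_range_one, pow_one, pow_zero] at h2
    rw [hfac]; exact Dvd.dvd.mul_left h2 _
  · rw [Finset.prod_range_succ, Finset.prod_range_one, pow_zero, pow_one] at h2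
    rcases (Nat.Prime.dvd_mul hr).1 h2 with h3 | h3
    · exact h3
    · have : p ^ 2 - p = p * (p - 1) := by rw [Nat.mul_sub, mul_one, pow_two]
      rw [this] at h3
      rcases (Nat.Prime.dvd_mul hr).1 h3 with h4 | h4
      · exact absurd h4 h1
      · rw [hfac]; exact Dvd.dvd.mul_left h4 _

/-- Let p be a prime and G a finite group whose Sylow p-subgroups are metacyclic (a cyclic normal subgroup with cyclic quotient). Then G has a normal p-complement if and only if the order of G/O_{p′,p}(G) is coprime to p² − 1. -/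
theorem result {G : Type*} [Group G] [Finite G] (p : ℕ) [Fact p.Prime] (S : Sylow p G) (hS : Cfsg.IsMetacyclic ↥(S : Subgroup G)) : Cfsg.HasNormalPComplement p G ↔ Nat.Coprime (Nat.card (G ⧸ Cfsg.pPrimePCore p G)) (p ^ 2 - 1) := by
  classical
  have hp : p.Prime := Fact.out
  set O := Cfsg.pPrimeCore p G with hO
  haveI hOn : O.Normal := by rw [hO]; infer_instance
  have hOc : (Nat.card O).Coprime p := CfsgH2.coprime_card_pPrimeCore p
  have hcard : Nat.card (G ⧸ Cfsg.pPrimePCore p G) = (Cfsg.pCore p (G ⧸ O)).index := by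
    show (Cfsg.pPrimePCore p G).index = _
    rw [Cfsg.pPrimePCore, Subgroup.index_comap_of_surjective _ (QuotientGroup.mk'_surjective _)]
  constructor
  · intro h
    obtain ⟨L, hLn, hLc, n, hLi⟩ := hasNPC_iff.1 h
    have h2 : L ≤ O := CfsgH2.le_pPrimeCore hLn hLc
    have h3 : IsPGroup p (G ⧸ O) := by
      have h4 : O.index ∣ p ^ n := by rw [← hLi]; exact Subgroup.index_dvd_of_le h2
      obtain ⟨m, -, hm⟩ := (Nat.dvd_prime_pow hp).1 h4
      exact IsPGroup.of_card hm
    have h4 : Cfsg.pCore p (G ⧸ O) = ⊤ := by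
      rw [eq_top_iff]
      exact CfsgH2.le_pCore inferInstance (h3.to_subgroup _)
    rw [hcard, h4, Subgroup.index_top]
    exact Nat.coprime_one_left _
  · intro hcop
    rw [hasNPC_iff]
    apply HasNPC.of_quotient O hOc
    apply hasNPC_frobenius
    intro X hX g hg hgp
    by_contra hgC
    have hmS : Cfsg.IsMetacyclic X := by
      obtain ⟨Q, hQ⟩ := hX.exists_le_sylow
      let S' : Sylow p (G ⧸ O) := S.mapSurjective (QuotientGroup.mk'_surjective O)
      have h1 : Cfsg.IsMetacyclic ((S : Subgroup G).map (QuotientGroup.mk' O)) := 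
        meta_surj ((QuotientGroup.mk' O).subgroupMap (S : Subgroup G)) ((QuotientGroup.mk' O).subgroupMap_surjective _) hS
      have h2 : Cfsg.IsMetacyclic (S' : Subgroup (G ⧸ O)) := h1
      have h3 : Cfsg.IsMetacyclic (Q : Subgroup (G ⧸ O)) := meta_surj (Sylow.equiv S' Q).toMonoidHom (Sylow.equiv S' Q).surjective h2
      exact meta_inj (Subgroup.inclusion hQ) (Subgroup.inclusion_injective hQ) h3
    obtain ⟨d, hd, hdi⟩ := meta_frat hX hmS
    obtain ⟨n, hn⟩ := IsPGroup.iff_card.1 hX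
    have haut := card_mulAut_dvd hn hdi
    set α := X.normalizerMonoidHom ⟨g, hg⟩ with hα
    have hα1 : α ≠ 1 := by
      intro h
      have h1 : (⟨g, hg⟩ : normalizer (X : Set (G ⧸ O))) ∈ X.normalizerMonoidHom.ker := h
      rw [Subgroup.normalizerMonoidHom_ker, mem_subgroupOf] at h1
      exact hgC h1
    have hαo : orderOf α ≠ 1 := fun h => hα1 (orderOf_eq_one_iff.1 h)
    obtain ⟨r, hr, hrα⟩ := Nat.exists_prime_and_dvd hαo
    have hrg : r ∣ orderOf g := by
      have h1 := hrα.trans (orderOf_map_dvd X.normalizerMonoidHom ⟨g, hg⟩)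
      rwa [Subgroup.orderOf_mk] at h1
    have hrp : r ≠ p := by
      rintro rfl
      exact (Nat.Prime.coprime_iff_not_dvd hr).1 hgp.symm hrg
    have h1 : r ∣ p ^ 2 - 1 := prime_dvd hp hr hrp hd ((hrα.trans (orderOf_dvd_natCard α)).trans haut)
    have h2 : r ∣ (Cfsg.pCore p (G ⧸ O)).index := by
      have h3 : r ∣ Nat.card (Cfsg.pCore p (G ⧸ O)) * (Cfsg.pCore p (G ⧸ O)).index := by
        rw [Subgroup.card_mul_index]; exact hrg.trans (orderOf_dvd_natCard g)
      rcases (Nat.Prime.dvd_mul hr).1 h3 with h4 | h4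
      · exfalso
        obtain ⟨m, hm⟩ := IsPGroup.iff_card.1 (CfsgH2.isPGroup_pCore (G := G ⧸ O) p)
        rw [hm] at h4
        exact hrp ((Nat.prime_dvd_prime_iff_eq hr hp).1 (hr.dvd_of_dvd_pow h4))
      · exact h4
    rw [hcard] at hcop
    exact (Nat.Prime.not_coprime_iff_dvd.2 ⟨r, hr, h2, h1⟩) hcop

end Cfsg.Agent.S4419
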