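import Cfsg.Statements.S5236
import Cfsg.Agent.H8.OmNorm2

set_option autoImplicit false
open Cfsg

namespace Cfsg.Agent.S5236

/-- Let p be an odd prime, F a saturated fusion system over a finite p-group S and P a subgroup of S strongly closed in F. Then P is normal in F if and only if Ω₁(P) (the subgroup generated by the elements of order p of P) has a chain of subgroups 1 = Q₀ ≤ Q₁ ≤ ⋯ ≤ Qₙ = Ω₁(P), each strongly closed in F, with [Qᵢ₊₁, P] ≤ Qᵢ for all i. -/
theorem result {Ω : Type*} [Group Ω] {S : Subgroup Ω} [Finite S] (p : ℕ) [Fact p.Prime] (hS : IsPGroup p S) (F : Cfsg.FusionSystem S) (hF : F.IsSaturated p) (hp : p ≠ 2) (P : Subgroup Ω) (hP : F.StronglyClosed P) : F.IsNormal P ↔ ∃ (n : ℕ) (Q : Fin (n + 1) → Subgroup Ω), Q 0 = ⊥ ∧ Q (Fin.last n) = Cfsg.omegaOne p P ∧ Monotone Q ∧ (∀ i : Fin (n + 1), F.StronglyClosed (Q i)) ∧ ∀ i : Fin n, ⁅Q i.succ, P⁆ ≤ Q i.castSucc := by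
  constructor
  · exact fun h => CfsgH8.omega_chain_of_normal hS hF h
  · rintro ⟨n, Q, h0, hn, hmono, hsc, hcomm⟩
    have hOP : Cfsg.omegaOne p P ≤ P := by
      unfold Cfsg.omegaOne
      rw [Subgroup.closure_le]
      exact fun x hx => hx.1
    refine CfsgH8.normal_of_omega_chain hS hF hp hP (n := n) (Q := fun i => if h : i < n + 1 then Q ⟨i, h⟩ else ⊥) ?_ ?_ ?_ ?_ ?_ ?_
    · simpa using h0
    · rw [dif_pos (Nat.lt_succ_self n)]
      exact hn
    · intro i hi
      rw [dif_pos (by omega)]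
      refine le_trans (hmono (Fin.le_last _)) ?_
      rw [hn]
      exact hOP
    · intro i hi
      rw [dif_pos (by omega), dif_pos (by omega)]
      exact hmono (by rw [Fin.le_def]; exact Nat.le_succ i)
    · intro i hi
      rw [dif_pos (by omega)]
      exact hsc _
    · intro i hi x hx y hy
      rw [dif_pos (by omega)] at hx ⊢
      exact hcomm ⟨i, hi⟩ (Subgroup.commutator_mem_commutator hx hy)

end Cfsg.Agent.S5236
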