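import Cfsg.Statements.S5254
import Cfsg.Agent.H8.Mi3

set_option autoImplicit false
open Cfsg

namespace Cfsg.Agent.S5254

/-- Let p be an odd prime, S a finite nonabelian p-group with a unique abelian subgroup A of index p, and F a saturated fusion system over S. Then every F-essential subgroup P is A, or Z(S)⟨x⟩ for some x ∈ S outside A, or (when the second centre Z₂(S) lies in A) Z₂(S)⟨x⟩ for some x ∈ S outside A; and P has index p in its normalizer in S. -/
theorem result {Ω : Type*} [Group Ω] {S : Subgroup Ω} [Finite S] (p : ℕ) [Fact p.Prime] (hS : IsPGroup p S) (F : Cfsg.FusionSystem S) (hF : F.IsSaturated p) (hp : p ≠ 2) (hna : ¬ IsMulCommutative ↥S) (A : Subgroup Ω) (hA : A ≤ S ∧ IsMulCommutative ↥A ∧ (A.subgroupOf S).index = p) (huniq : ∀ B : Subgroup Ω, B ≤ S → IsMulCommutative ↥B → (B.subgroupOf S).index = p → B = A) (P : Subgroup Ω) (hP : F.IsEssential p P) : (P = A ∨ (∃ x ∈ S, x ∉ A ∧ P = (S ⊓ Subgroup.centralizer (S : Set Ω)) ⊔ Subgroup.zpowers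 x) ∨ (((upperCentralSeries ↥S 2).map S.subtype) ≤ A ∧ ∃ x ∈ S, x ∉ A ∧ P = ((upperCentralSeries ↥S 2).map S.subtype) ⊔ Subgroup.zpowers x)) ∧ (P.subgroupOf (S ⊓ Subgroup.normalizer (P : Set Ω))).index = p := by
  have D := CfsgH8.MiD.mk' hS hna hA huniq
  by_cases hPA : P = A
  · subst hPA
    refine ⟨Or.inl rfl, ?_⟩
    have h1 : S ⊓ Subgroup.normalizer (P : Set Ω) = S := by
      apply le_antisymm inf_le_left
      intro s hs
      refine ⟨hs, Subgroup.mem_normalizer_iff.2 ?_⟩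
      intro a
      refine ⟨fun h => D.norm hs h, fun h => ?_⟩
      have h2 := D.norm (S.inv_mem hs) h
      have e : s⁻¹ * (s * a * s⁻¹) * s⁻¹⁻¹ = a := by group
      rwa [e] at h2
    rw [h1]
    exact hA.2.2
  · refine ⟨Or.inr ?_, D.ess_index hF hP hPA⟩
    rcases D.classify hF hP hPA with ⟨-, h⟩ | ⟨-, h⟩
    · exact Or.inl h
    · exact Or.inr ⟨D.Z2_le hF hP hPA, h⟩

end Cfsg.Agent.S5254
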