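import Cfsg.Statements.S5297
import Cfsg.Agent.H8.OmNorm2

set_option autoImplicit false
universe u
open Cfsg

namespace Cfsg.Agent.S5297

/-- Let F be a saturated fusion system over a finite p-group S. If every map of F between cyclic subgroups of the hyperfocal subgroup of F of order p or 4 is a map of the normalizer system of S (it extends to a map of F defined on all of S), then S is normal in F. -/
theorem result {Ω : Type u} [Group Ω] {S : Subgroup Ω} [Finite S] (p : ℕ) [Fact p.Prime] (hS : IsPGroup p S)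
    (F : Cfsg.FusionSystem S) (hF : F.IsSaturated p)
    (h : ∀ A B : Subgroup Ω, A ≤ (F.hyperfocalSubgroup p) → B ≤ (F.hyperfocalSubgroup p) → IsCyclic ↥A → (Nat.card ↥A = p ∨ Nat.card ↥A = 4) → IsCyclic ↥B → (Nat.card ↥B = p ∨ Nat.card ↥B = 4) →
      F.homSet A B ⊆ F.normalizerHom S A) :
    F.IsNormal S := by
  refine CfsgH8.top_normal_of_small_extend hS hF (fun P f hf x hxP hxh hsm => ?_)
  by_cases hx1 : x = 1
  · refine ⟨1, one_mem _, ?_⟩
    rw [hx1, hf.mulOn.map_one, CfsgH8.av_one (one_mem S)]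
  obtain ⟨φ, hφ, hφx⟩ := CfsgH8.small_transfer (M := fun _ => ∅) hS hF (N := fun A => F.normalizerHom S A) h P f hf x hxP hxh hsm hx1
  obtain ⟨-, g, hg, hg1, κ, -, hκ⟩ := CfsgH8.mem_normalizerHom.1 hφ
  have hxS : x ∈ S := hf.le hxP
  refine ⟨κ, (CfsgH8.mem_autGroup le_rfl).2 ((hg.mono le_sup_right).congr hκ), ?_⟩
  rw [← hκ x hxS, hg1 x (Subgroup.mem_zpowers x), CfsgH8.extF_of_mem φ (Subgroup.mem_zpowers x), hφx]

end Cfsg.Agent.S5297
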