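import Cfsg.Statements.S5298
import Cfsg.Agent.H8.OmNorm2

set_option autoImplicit false
universe u
open Cfsg

namespace Cfsg.Agent.S5298

/-- Let F be a saturated fusion system over a finite p-group S. If every map of F between cyclic subgroups of the hyperfocal subgroup of F of order p or 4 is conjugation by an element of S, then F is the inner fusion system of S. -/
theorem result {Ω : Type u} [Group Ω] {S : Subgroup Ω} [Finite S] (p : ℕ) [Fact p.Prime] (hS : IsPGroup p S)
    (F : Cfsg.FusionSystem S) (hF : F.IsSaturated p)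
    (h : ∀ A B : Subgroup Ω, A ≤ (F.hyperfocalSubgroup p) → B ≤ (F.hyperfocalSubgroup p) → IsCyclic ↥A → (Nat.card ↥A = p ∨ Nat.card ↥A = 4) → IsCyclic ↥B → (Nat.card ↥B = p ∨ Nat.card ↥B = 4) →
      F.homSet A B ⊆ (Cfsg.innerFusionSystem S).Hom A) :
    ∀ P : Subgroup Ω, F.Hom P = (Cfsg.innerFusionSystem S).Hom P := by
  have key := CfsgH8.inner_of_small_conj hS hF (fun P f hf x hxP hxh hsm => ?_)
  · intro P
    rw [← key]
  · by_cases hx1 : x = 1
    · refine ⟨1, one_mem _, ?_⟩
      rw [hx1, hf.mulOn.map_one]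
      group
    obtain ⟨φ, hφ, hφx⟩ := CfsgH8.small_transfer (M := fun _ => ∅) hS hF (N := fun A => (Cfsg.innerFusionSystem S).Hom A) h P f hf x hxP hxh hsm hx1
    obtain ⟨-, s, hs, h1⟩ := CfsgH8.mor_inner.1 (CfsgH8.mor_of_hom hφ)
    refine ⟨s, hs, ?_⟩
    rw [← hφx, ← h1 x (Subgroup.mem_zpowers x), CfsgH8.extF_of_mem φ (Subgroup.mem_zpowers x)]

end Cfsg.Agent.S5298
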