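import Cfsg.Statements.S5299
import Cfsg.Agent.H8.QdGrp

set_option autoImplicit false
universe u
open Cfsg

namespace Cfsg.Agent.S5299
open CfsgH8 CfsgH8.Qd in
theorem involves_inj {H : Type*} [Group H] {A : Type*} [Group A] {G : Type*} [Group G] (j : A →* G) (hj : Function.Injective j)
    (h : Involves H A) : Involves H G := by
  obtain ⟨K, f, hf⟩ := involves_iff.1 h
  let e : K ≃* K.map j := K.equivMapOfInjective _ hj
  exact involves_iff.2 ⟨K.map j, f.comp e.symm.toMonoidHom, hf.comp e.symm.surjective⟩

open CfsgH8 CfsgH8.Qd in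
theorem involves_sub {p : ℕ} [hp : Fact p.Prime] {H : Type*} [Group H] {G : Type*} [Group G] [Finite G] (T : Sylow p G) (Q : Subgroup H)
    (hQ : IsPGroup p Q) (h : Involves H G) : Involves ↥Q ↥T := by
  obtain ⟨K, f, hf⟩ := involves_iff.1 h
  let K' := Q.comap f
  let f' : K' →* Q := f.subgroupComap Q
  have hf' : Function.Surjective f' := by
    rintro ⟨x, hx⟩
    obtain ⟨y, rfl⟩ := hf x
    exact ⟨⟨y, hx⟩, rfl⟩
  let R : Sylow p K' := default
  have h2 : (R : Subgroup K').map f' = ⊤ := by
    haveI : Finite Q := Finite.of_surjective _ hf'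
    have h3 : ((R.mapSurjective hf' : Sylow p Q) : Subgroup Q) = ⊤ := 
      ((R.mapSurjective hf').is_maximal' (Q := ⊤) (hQ.of_surjective (Subgroup.topEquiv (G := Q)).symm.toMonoidHom (MulEquiv.surjective _)) le_top).symm
    exact h3
  have h3 : Involves ↥Q ↥(R : Subgroup K') := by
    refine involves_iff.2 ⟨⊤, (f'.comp (R : Subgroup K').subtype).comp (Subgroup.subtype _), ?_⟩
    intro y
    have : y ∈ (R : Subgroup K').map f' := by rw [h2]; trivial
    obtain ⟨x, hx, rfl⟩ := this
    exact ⟨⟨⟨x, hx⟩, trivial⟩, rfl⟩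
  -- move to the Sylow
  let j : ↥(R : Subgroup K') →* G := (K.subtype.comp K'.subtype).comp (R : Subgroup K').subtype
  have hj : Function.Injective j := (K.subtype_injective.comp K'.subtype_injective).comp (Subgroup.subtype_injective _)
  have hr : IsPGroup p j.range := R.2.of_surjective j.rangeRestrict j.rangeRestrict_surjective
  obtain ⟨T1, hT1⟩ := hr.exists_le_sylow
  have h4 : Involves ↥Q ↥T1 := involves_inj (j.codRestrict T1 fun x => hT1 ⟨x, rfl⟩) (fun a b hab => hj (by have h := congrArg T1.1.subtype hab; exact h)) h3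
  exact involves_inj (Sylow.equiv T1 T).toMonoidHom (MulEquiv.injective _) h4


/-- Let F be a saturated fusion system over a finite p-group S, H a finite group and Q a p-subgroup of H. If Q is not involved in S (no section of S is isomorphic to Q), then F is H-free: H is involved in no model of the normalizer system of a fully normalized centric subgroup. -/
theorem result {Ω : Type u} [Group Ω] {S : Subgroup Ω} [Finite S] (p : ℕ) [Fact p.Prime] (hS : IsPGroup p S)
    (F : Cfsg.FusionSystem S) (hF : F.IsSaturated p) (H : Type*) [Group H] [Finite H] (Q : Subgroup H) (hQ : IsPGroup p Q)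
    (hfree : ¬ Cfsg.Involves (↥Q) (↥S)) : F.IsSectionFree p H := by
  intro Q' hfn hcen N hN L _ ι hL hinv
  obtain ⟨hfin, hreal, ⟨T, hT⟩, -⟩ := hL
  have h1 := involves_sub T Q hQ hinv
  have hι : Function.Injective ι := hreal.1
  have h2 : Involves ↥Q ↥ι.range := by rw [← hT]; exact h1
  have h3 : Involves ↥Q ↥(Cfsg.FusionSystem.normalizerIn S Q') :=
    involves_inj (MonoidHom.ofInjective hι).symm.toMonoidHom (MulEquiv.injective _) h2
  exact hfree (involves_inj (Subgroup.inclusion inf_le_left) (Subgroup.inclusion_injective _) h3)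

end Cfsg.Agent.S5299
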