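import Cfsg.Statements.S5728
import Mathlib
import Cfsg.Agent.H9.SLt

set_option autoImplicit false
open Cfsg

namespace Cfsg.Agent.S5728

section
variable {F : Type*} [Field F]

/-- scaling -/
def scl (c : Fˣ) : Equiv.Perm F where
  toFun x := c * x
  invFun x := (c⁻¹ : Fˣ) * x
  left_inv x := by dsimp only; rw [← mul_assoc, Units.inv_mul, one_mul]
  right_inv x := by dsimp only; rw [← mul_assoc, Units.mul_inv, one_mul]

/-- translation -/
def trl (c : F) : Equiv.Perm F where
  toFun x := x + c
  invFun x := x - c
  left_inv x := by ring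
  right_inv x := by ring

theorem pow_apply' {g : Equiv.Perm F} {a b : F} (hg : ∀ x, g x = a * x + b) {c : F} (hc : a * c + b = c) (n : ℕ) (x : F) :
    (g ^ n) x = a ^ n * (x - c) + c := by
  induction n with
  | zero => simp
  | succ n ih =>
    rw [pow_succ', Equiv.Perm.mul_apply, ih, hg]
    have : b = c - a * c := by linear_combination hc
    rw [this]; ring

end

/-- An elusive transitive action. Let p = 2^s − 1 be a prime and let F be the field with p² elements. Inside the group of affine maps x ↦ a·x + b of F (a ≠ 0), consider the subgroup of maps with both coefficients in the prime field. Then every element of prime order of the affine group is conjugate, within the affine group, to an element of that subgroup; equivalently, in the transitive action of the affine group on the cosets of that subgroup (of degree p(p + 1)) every element of prime order fixes a point. -/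
theorem result (p s : ℕ) [Fact p.Prime] (hs : p = 2 ^ s - 1)
    (g : Equiv.Perm (GaloisField p 2)) (hg : g ∈ Cfsg.affineGroup (GaloisField p 2)) (hord : (orderOf g).Prime) :
    ∃ x ∈ Cfsg.affineGroup (GaloisField p 2), ∃ a b : ZMod p, a ≠ 0 ∧
      ∀ y : GaloisField p 2, (x * g * x⁻¹) y = algebraMap (ZMod p) (GaloisField p 2) a * y + algebraMap (ZMod p) (GaloisField p 2) b := by
  classical
  have hp : p.Prime := Fact.out
  obtain ⟨a, b, hab⟩ := hg
  by_cases ha : (a : GaloisField p 2) = 1
  · -- translation
    have hb : b ≠ 0 := by
      rintro rfl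
      have : g = 1 := by ext x; rw [hab, ha]; simp
      rw [this, orderOf_one] at hord
      exact Nat.not_prime_one hord
    let u : (GaloisField p 2)ˣ := Units.mk0 b hb
    refine ⟨scl u⁻¹, ⟨u⁻¹, 0, fun x => by simp [scl]⟩, 1, 1, one_ne_zero, fun y => ?_⟩
    change (u⁻¹ : (GaloisField p 2)ˣ) * g (((u⁻¹)⁻¹ : (GaloisField p 2)ˣ) * y) = _
    rw [hab, ha, inv_inv, map_one]
    have h1 : ((u⁻¹ : (GaloisField p 2)ˣ) : GaloisField p 2) * (u : GaloisField p 2) = 1 := Units.inv_mul u
    have h2 : (u : GaloisField p 2) = b := rfl
    rw [← h2]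
    linear_combination (y + 1) * h1
  · have h1a : (1 : GaloisField p 2) - a ≠ 0 := sub_ne_zero.2 (Ne.symm ha)
    set c : GaloisField p 2 := b / (1 - a) with hc
    have hcc : (a : GaloisField p 2) * c + b = c := by
      rw [hc]; field_simp; ring
    -- a lies in the prime field
    have hal : (a : GaloisField p 2) ^ orderOf g = 1 := by
      have h1 := pow_apply' hab hcc (orderOf g) (c + 1)
      rw [pow_orderOf_eq_one] at h1
      change c + 1 = _ at h1
      linear_combination -h1
    haveI : Fintype (GaloisField p 2) := Fintype.ofFinite _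
    have hcard : Fintype.card (GaloisField p 2) = p ^ 2 := by
      rw [← Nat.card_eq_fintype_card]; exact GaloisField.card p 2 (by norm_num)
    have hap2 : (a : GaloisField p 2) ^ (p ^ 2 - 1) = 1 := by
      rw [← hcard]; exact FiniteField.pow_card_sub_one_eq_one _ a.ne_zero
    have ho : orderOf (a : GaloisField p 2) = orderOf g := by
      have h1 := orderOf_dvd_of_pow_eq_one hal
      rcases (Nat.dvd_prime hord).1 h1 with h2 | h2
      · rw [orderOf_eq_one_iff] at h2; exact absurd h2 ha
      · exact h2
    have hdvd : orderOf g ∣ p ^ 2 - 1 := by rw [← ho]; exact orderOf_dvd_of_pow_eq_one hap2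
    have hs2 : 2 ≤ s := by
      rcases s with _ | _ | s
      · rw [hs] at hp; exact absurd hp (by norm_num)
      · rw [hs] at hp; exact absurd hp (by norm_num)
      · omega
    have hp1 : p + 1 = 2 ^ s := by
      have : 1 ≤ 2 ^ s := Nat.one_le_two_pow
      omega
    have hfac : p ^ 2 - 1 = (p - 1) * (p + 1) := by
      have := Nat.sq_sub_sq p 1
      rw [one_pow] at this
      rw [this, mul_comm]
    have hdvd1 : orderOf g ∣ p - 1 := by
      rw [hfac] at hdvd
      rcases (Nat.Prime.dvd_mul hord).1 hdvd with h | h
      · exact h
      · rw [hp1] at h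
        have h2 := (Nat.prime_dvd_prime_iff_eq hord Nat.prime_two).1 (hord.dvd_of_dvd_pow h)
        rw [h2]
        have h4 : 4 ∣ 2 ^ s := by
          have := pow_dvd_pow 2 hs2
          norm_num at this
          exact this
        omega
    have hap : (a : GaloisField p 2) ^ Fintype.card (ZMod p) = a := by
      rw [ZMod.card]
      obtain ⟨k, hk⟩ := hdvd1
      have h9 : (a : GaloisField p 2) ^ p = (a : GaloisField p 2) ^ (p - 1) * a := by
        rw [← pow_succ]; congr 1; have := hp.one_lt; omega
      rw [h9, hk, pow_mul, ← ho, pow_orderOf_eq_one, one_pow, one_mul]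
    obtain ⟨a', ha'⟩ := CfsgH9.SLt.mem_range_of_pow hap
    refine ⟨trl (-c), ⟨1, -c, fun x => by simp [trl]⟩, a', 0, ?_, fun y => ?_⟩
    · rintro rfl
      rw [map_zero] at ha'
      exact a.ne_zero ha'.symm
    · rw [ha', map_zero, add_zero]
      change g (y - -c) + -c = _
      rw [hab]
      linear_combination hcc

end Cfsg.Agent.S5728
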