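import Cfsg.Statements.S5904
import Mathlib.GroupTheory.Perm.MaximalSubgroups

set_option autoImplicit false
open scoped Pointwise
open Cfsg

namespace Cfsg.Agent.S5904

/-- Let Ω be a finite set with more than two elements and O ⊆ Ω a subset with exactly as many elements as its complement. Then the setwise stabilizer of O in the symmetric group on Ω is not a maximal subgroup (it is properly contained in the stabilizer of the partition {O, Ω ∖ O}, which is proper). -/
theorem result {Ω : Type*} [Fintype Ω] [DecidableEq Ω] (hΩ : 2 < Fintype.card Ω)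
    (O : Set Ω) (hO : Nat.card O = Nat.card ↥Oᶜ) :
    ¬ IsCoatom (MulAction.stabilizer (Equiv.Perm Ω) O) := by
  classical
  intro hco
  have hfin : Fintype.card O = Fintype.card ↥Oᶜ := by
    rw [← Nat.card_eq_fintype_card, ← Nat.card_eq_fintype_card]; exact hO
  have hsum : Fintype.card O + Fintype.card ↥Oᶜ = Fintype.card Ω := Fintype.card_congr (Equiv.Set.sumCompl O) ▸ by
    rw [Fintype.card_sum]
  let e : O ≃ ↥Oᶜ := Fintype.equivOfCardEq hfin
  have hcomm : ∀ g : Equiv.Perm Ω, g • (Oᶜ : Set Ω) = (g • O)ᶜ := fun g => Set.smul_set_compl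
  let K : Subgroup (Equiv.Perm Ω) :=
    { carrier := {g | g • O = O ∨ g • O = Oᶜ}
      mul_mem' := by
        rintro a b (ha | ha) (hb | hb)
        · left; rw [mul_smul, hb, ha]
        · right; rw [mul_smul, hb, hcomm, ha]
        · right; rw [mul_smul, hb, ha]
        · left; rw [mul_smul, hb, hcomm, ha, compl_compl]
      one_mem' := Or.inl (one_smul _ _)
      inv_mem' := by
        rintro a (ha | ha)
        · left; rw [inv_smul_eq_iff, ha]
        · right; rw [inv_smul_eq_iff, hcomm, ha, compl_compl] }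
  have hle : MulAction.stabilizer (Equiv.Perm Ω) O ≤ K := fun g hg => Or.inl hg
  -- the swapping permutation
  let g : Equiv.Perm Ω := (Equiv.Set.sumCompl O).symm.trans
    ((Equiv.sumComm _ _).trans ((Equiv.sumCongr e.symm e).trans (Equiv.Set.sumCompl O)))
  have hg1 : ∀ x (hx : x ∈ O), g x ∈ Oᶜ := by
    intro x hx
    have : g x = ((e ⟨x, hx⟩ : ↥Oᶜ) : Ω) := by
      simp only [g, Equiv.trans_apply, Equiv.Set.sumCompl_symm_apply_of_mem hx]
      simp
    rw [this]; exact (e ⟨x, hx⟩).2
  have hg2 : ∀ x (hx : x ∉ O), g x ∈ O := by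
    intro x hx
    have : g x = ((e.symm ⟨x, hx⟩ : O) : Ω) := by
      simp only [g, Equiv.trans_apply, Equiv.Set.sumCompl_symm_apply_of_notMem hx]
      simp
    rw [this]; exact (e.symm ⟨x, hx⟩).2
  have hgO : g • O = Oᶜ := by
    ext y
    rw [Set.mem_smul_set]
    constructor
    · rintro ⟨x, hx, rfl⟩; exact hg1 x hx
    · intro hy
      refine ⟨g.symm y, ?_, g.apply_symm_apply y⟩
      by_contra hn
      exact hy (by simpa using hg2 _ hn)
  have hcard : 1 < Fintype.card O := by omega
  obtain ⟨⟨a, ha⟩, ⟨c, hc⟩, hac⟩ := Fintype.exists_pair_of_one_lt_card hcard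
  have hac' : a ≠ c := fun h => hac (Subtype.ext h)
  have hneg : g ∉ MulAction.stabilizer (Equiv.Perm Ω) O := by
    intro h
    rw [MulAction.mem_stabilizer_iff, hgO] at h
    have : a ∈ Oᶜ := by rw [h]; exact ha
    exact this ha
  have hlt : MulAction.stabilizer (Equiv.Perm Ω) O < K :=
    lt_of_le_of_ne hle (fun h => hneg (h ▸ (Or.inr hgO : g ∈ K)))
  have htop := hco.2 K hlt
  have hb : g a ∈ Oᶜ := hg1 a ha
  have hsw : Equiv.swap a (g a) ∈ K := by rw [htop]; trivial
  have hne1 : c ≠ g a := fun h => hb (h ▸ hc)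
  have hcin : c ∈ Equiv.swap a (g a) • O :=
    ⟨c, hc, by simpa using Equiv.swap_apply_of_ne_of_ne hac'.symm hne1⟩
  have hbin : g a ∈ Equiv.swap a (g a) • O := ⟨a, ha, by simp⟩
  rcases hsw with h | h
  · rw [h] at hbin; exact hb hbin
  · rw [h] at hcin; exact hcin hc

end Cfsg.Agent.S5904
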