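import Cfsg.Statements.S5894
import Mathlib
import Cfsg.Agent.S5904

set_option autoImplicit false
open Cfsg

namespace Cfsg.Agent.S5894

open Equiv MulAction
open scoped Pointwise

theorem coatom_map {A B : Type*} [Group A] [Group B] (ι : A →* B) (hι : Function.Injective ι) {S : Subgroup A}
    (hS : IsCoatom S) : IsCoatom ((S.map ι).subgroupOf ι.range) := by
  have h1 := ((MonoidHom.ofInjective hι).mapSubgroup.isCoatom_iff S).2 hS
  convert h1 using 1
  ext x
  constructor
  · rintro ⟨y, hy, hxy⟩
    exact ⟨y, hy, Subtype.ext hxy⟩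
  · rintro ⟨y, hy, hxy⟩
    exact ⟨y, hy, congrArg Subtype.val hxy⟩

/-- For every m ≥ 2 the symmetric group on 2m letters has a maximal subgroup M of index 2m together with a maximal subgroup H of M that is not second maximal: some maximal subgroup K of the symmetric group contains H without H being maximal in K. (One may take M the stabiliser of a letter, H ≅ S_m × S_{m−1} inside it, and K ≅ S_m ≀ S₂ the stabiliser of a partition into two m-sets, with H < S_m × S_m < K.) So the prime-index hypothesis in the second-maximality criterion cannot be relaxed to any even index ≥ 4. -/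
theorem result (m : ℕ) (hm : 2 ≤ m) :
    ∃ M H K : Subgroup (Equiv.Perm (Fin (2 * m))), IsCoatom M ∧ M.index = 2 * m ∧ H ≤ M ∧ IsCoatom (H.subgroupOf M) ∧
      IsCoatom K ∧ H ≤ K ∧ ¬ IsCoatom (H.subgroupOf K) := by
  classical
  haveI : NeZero (2 * m) := ⟨by omega⟩
  let x0 : Fin (2 * m) := ⟨0, by omega⟩
  let x1 : Fin (2 * m) := ⟨1, by omega⟩
  let O : Set (Fin (2 * m)) := {i | i.val < m}
  have hOcard : O.ncard = m := by
    have h1 : O = Set.range (fun i : Fin m => (⟨i.val, by omega⟩ : Fin (2 * m))) := by
      ext i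
      constructor
      · intro h; exact ⟨⟨i.val, h⟩, Fin.ext rfl⟩
      · rintro ⟨j, rfl⟩; exact j.2
    rw [h1, ← Set.image_univ, Set.ncard_image_of_injective, Set.ncard_univ, Nat.card_fin]
    intro i j h
    exact Fin.ext (by simpa using h)
  have hOc : Oᶜ.ncard = m := by
    have := Set.ncard_add_ncard_compl O
    rw [hOcard, Nat.card_fin] at this
    omega
  let p : Fin (2 * m) → Prop := fun x => x ≠ x0
  let ι : Perm {x // p x} →* Perm (Fin (2 * m)) := Perm.ofSubtype
  have hι : Function.Injective ι := Perm.ofSubtype_injective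
  let s : Set {x // p x} := {y | y.1 ∈ O}
  have hrange : ι.range = stabilizer (Perm (Fin (2 * m))) x0 := by
    ext g
    constructor
    · rintro ⟨g', rfl⟩
      rw [mem_stabilizer_iff, Perm.smul_def]
      exact Perm.ofSubtype_apply_of_not_mem _ (by simp [p])
    · intro hg
      have hg' : g x0 = x0 := hg
      have h1 : ∀ x, p (g x) ↔ p x := by
        intro x
        change g x ≠ x0 ↔ x ≠ x0
        rw [not_iff_not]
        constructor
        · intro h; exact g.injective (h.trans hg'.symm)
        · rintro rfl; exact hg'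
      refine ⟨g.subtypePerm h1, Perm.ofSubtype_subtypePerm h1 ?_⟩
      intro x hx
      rintro rfl
      exact hx hg'
  have hmapS : (stabilizer (Perm {x // p x}) s).map ι ≤ stabilizer (Perm (Fin (2 * m))) O := by
    rintro _ ⟨g, hg, rfl⟩
    have hg' : ∀ y : {x // p x}, (g y).1 ∈ O ↔ y.1 ∈ O := by
      intro y
      have h1 : g • s = s := hg
      constructor
      · intro h
        have h2 : g y ∈ g • s := by rw [h1]; exact h
        obtain ⟨z, hz, hzy⟩ := h2
        rw [← g.injective hzy]; exact hz
      · intro h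
        have h2 : g y ∈ g • s := ⟨y, h, rfl⟩
        rw [h1] at h2; exact h2
    have h0 : x0 ∈ O := by show (0 : ℕ) < m; omega
    rw [mem_stabilizer_iff]
    ext x
    have key : ∀ y, (ι g) y ∈ O ↔ y ∈ O := by
      intro y
      by_cases hy : p y
      · have : (ι g) y = (g ⟨y, hy⟩).1 := Perm.ofSubtype_apply_of_mem g hy
        rw [this]; exact hg' ⟨y, hy⟩
      · have : (ι g) y = y := Perm.ofSubtype_apply_of_not_mem g hy
        rw [this]
    constructor
    · rintro ⟨y, hy, rfl⟩; exact (key y).2 hy
    · intro hx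
      refine ⟨(ι g).symm x, ?_, (ι g).apply_symm_apply x⟩
      rw [← key, (ι g).apply_symm_apply]; exact hx
  have hOne : O.Nonempty := ⟨x0, by show (0 : ℕ) < m; omega⟩
  have hOcne : Oᶜ.Nonempty := by
    rw [← Set.ncard_pos]; omega
  obtain ⟨K, hK, hOK⟩ := (eq_top_or_exists_le_coatom (stabilizer (Perm (Fin (2 * m))) O)).resolve_left
    (Perm.stabilizer_ne_top_of_nonempty_of_nonempty_compl hOne hOcne)
  have hncoatom : ¬ IsCoatom (stabilizer (Perm (Fin (2 * m))) O) := by
    apply Cfsg.Agent.S5904.result
    · rw [Fintype.card_fin]; omega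
    · rw [Nat.card_coe_set_eq, Nat.card_coe_set_eq, hOcard, hOc]
  have hcard' : Nat.card {x // p x} = 2 * m - 1 := by
    rw [Nat.card_eq_fintype_card]
    change Fintype.card {x : Fin (2 * m) // ¬ x = x0} = _
    rw [Fintype.card_subtype_compl, Fintype.card_fin, Fintype.card_subtype_eq]
  have hs : s.ncard = m - 1 := by
    have h1 : Subtype.val '' s = O \ {x0} := by
      ext x
      constructor
      · rintro ⟨y, hy, rfl⟩; exact ⟨hy, y.2⟩
      · rintro ⟨h1, h2⟩; exact ⟨⟨x, h2⟩, h1, rfl⟩
    rw [← Set.ncard_image_of_injective s Subtype.val_injective, h1, Set.ncard_diff_singleton_of_mem (by show (0 : ℕ) < m; omega), hOcard]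
  have hcoat : IsCoatom (stabilizer (Perm {x // p x}) s) := by
    apply Perm.isCoatom_stabilizer
    · rw [← Set.ncard_pos]; omega
    · have := Set.ncard_add_ncard_compl s
      rw [← Set.ncard_pos]; omega
    · rw [hcard', hs]; omega
  refine ⟨ι.range, (stabilizer (Perm {x // p x}) s).map ι, K, ?_, ?_, ?_, coatom_map ι hι hcoat, hK, hmapS.trans hOK, ?_⟩
  · rw [hrange]
    have h1 : stabilizer (Perm (Fin (2 * m))) x0 = stabilizer (Perm (Fin (2 * m))) ({x0} : Set (Fin (2 * m))) := by
      ext g
      rw [mem_stabilizer_iff, mem_stabilizer_iff, Set.smul_set_singleton, Set.singleton_eq_singleton_iff]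
    rw [h1]
    apply Perm.isCoatom_stabilizer
    · exact Set.singleton_nonempty _
    · exact ⟨x1, by simp [x0, x1]⟩
    · rw [Nat.card_fin, Set.ncard_singleton]; omega
  · rw [hrange, index_stabilizer_of_transitive, Nat.card_fin]
  · exact Subgroup.map_le_range _ _ |>.trans le_rfl
  · intro hco
    have hlt1 : (stabilizer (Perm {x // p x}) s).map ι < stabilizer (Perm (Fin (2 * m))) O := by
      refine lt_of_le_of_ne hmapS ?_
      intro h
      have h1 : swap x0 x1 ∈ stabilizer (Perm (Fin (2 * m))) O :=
        Perm.swap_mem_stabilizer (by show (0 : ℕ) < m; omega) (by show (1 : ℕ) < m; omega)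
      rw [← h] at h1
      have h2 : swap x0 x1 ∈ ι.range := Subgroup.map_le_range _ _ h1
      rw [hrange, mem_stabilizer_iff, Perm.smul_def, swap_apply_left] at h2
      exact absurd h2 (by simp [x0, x1])
    have hlt2 : stabilizer (Perm (Fin (2 * m))) O < K := lt_of_le_of_ne hOK (fun h => hncoatom (h ▸ hK))
    have h3 := hco.2 ((stabilizer (Perm (Fin (2 * m))) O).subgroupOf K) (by
      refine lt_of_le_of_ne (Subgroup.comap_mono hmapS) ?_
      intro h
      apply hlt1.ne
      have h4 := congrArg (Subgroup.map K.subtype) h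
      rw [Subgroup.subgroupOf_map_subtype, Subgroup.subgroupOf_map_subtype, inf_eq_left.2 hOK,
        inf_eq_left.2 (hmapS.trans hOK)] at h4
      exact h4)
    rw [Subgroup.subgroupOf_eq_top] at h3
    exact absurd h3 (not_le_of_gt hlt2)

end Cfsg.Agent.S5894
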