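import Cfsg.Statements.S5913
import Mathlib

set_option autoImplicit false
open Cfsg

namespace Cfsg.Agent.S5913

section
variable {S : Type*} [Group S] [IsSimpleGroup S]

theorem single_mem (hS : ¬ IsMulCommutative S) {n : ℕ} (N : Subgroup (Fin n → S)) [hN : N.Normal]
    {y : Fin n → S} (hy : y ∈ N) {i : Fin n} (hi : y i ≠ 1) (s : S) : Pi.mulSingle i s ∈ N := by
  classical
  have hcomm : ∀ t : S, Pi.mulSingle i (y i * t * (y i)⁻¹ * t⁻¹) ∈ N := by
    intro t
    have h1 : y * (Pi.mulSingle i t * y⁻¹ * (Pi.mulSingle i t)⁻¹) ∈ N :=
      N.mul_mem hy (hN.conj_mem _ (N.inv_mem hy) _)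
    convert h1 using 1
    funext j
    by_cases hj : j = i
    · subst hj; simp [mul_assoc]
    · simp [Pi.mulSingle_eq_of_ne hj]
  let K : Subgroup S := N.comap (MonoidHom.mulSingle (fun _ : Fin n => S) i)
  haveI hK : K.Normal := hN.comap _
  rcases hK.eq_bot_or_eq_top with h | h
  · exfalso
    have hc : ∀ t : S, y i * t = t * y i := by
      intro t
      have h1 : y i * t * (y i)⁻¹ * t⁻¹ ∈ K := hcomm t
      rw [h, Subgroup.mem_bot] at h1
      rw [mul_inv_eq_one, mul_inv_eq_iff_eq_mul] at h1
      exact h1
    have hz : y i ∈ Subgroup.center S := Subgroup.mem_center_iff.2 (fun t => (hc t).symm)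
    rcases (inferInstance : (Subgroup.center S).Normal).eq_bot_or_eq_top with h2 | h2
    · rw [h2, Subgroup.mem_bot] at hz; exact hi hz
    · apply hS
      constructor
      constructor
      intro a b
      have ha : a ∈ Subgroup.center S := by rw [h2]; trivial
      exact (Subgroup.mem_center_iff.1 ha b).symm
  · have : s ∈ K := by rw [h]; trivial
    exact this

end

/-- Let S be a non-abelian simple group and n a natural number. Every normal subgroup N of the direct power S^n (functions Fin n → S) is a subproduct: there is a set T of coordinates such that N consists exactly of the elements whose coordinates outside T are trivial. In particular the minimal normal subgroups of S^n are its n factors. -/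
theorem result {S : Type*} [Group S] [IsSimpleGroup S] (hS : ¬ IsMulCommutative S) (n : ℕ)
    (N : Subgroup (Fin n → S)) [N.Normal] :
    ∃ T : Finset (Fin n), ∀ x : Fin n → S, x ∈ N ↔ ∀ i, i ∉ T → x i = 1 := by
  classical
  refine ⟨Finset.univ.filter (fun i => ∃ y ∈ N, y i ≠ 1), fun x => ⟨fun hx i hi => ?_, fun hx => ?_⟩⟩
  · by_contra h
    exact hi (Finset.mem_filter.2 ⟨Finset.mem_univ _, x, hx, h⟩)
  · set T := Finset.univ.filter (fun i : Fin n => ∃ y ∈ N, y i ≠ 1) with hT
    have key : ∀ U : Finset (Fin n), U ⊆ T → (fun i => if i ∈ U then x i else 1) ∈ N := by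
      intro U
      induction U using Finset.induction_on with
      | empty =>
        intro _
        have : (fun i : Fin n => if i ∈ (∅ : Finset (Fin n)) then x i else 1) = 1 := by funext i; simp
        rw [this]; exact N.one_mem
      | insert a U ha ih =>
        intro hU
        have h1 := ih (fun i hi => hU (Finset.mem_insert_of_mem hi))
        obtain ⟨-, y, hy, hya⟩ := Finset.mem_filter.1 (hU (Finset.mem_insert_self a U))
        have h2 := N.mul_mem (single_mem hS N hy hya (x a)) h1
        convert h2 using 1
        funext j
        by_cases hj : j = a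
        · subst hj; simp [ha]
        · simp [Pi.mulSingle_eq_of_ne hj, hj]
    have h := key T (Finset.Subset.refl _)
    convert h using 1
    funext i
    split_ifs with hi
    · rfl
    · exact hx i hi

end Cfsg.Agent.S5913
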