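import Cfsg.Statements.S5914
import Mathlib
import Cfsg.Agent.S5913
import Cfsg.Agent.S0721

set_option autoImplicit false
open Cfsg

namespace Cfsg.Agent.S5914

section
variable {S : Type*} [Group S]

/-- swapping coordinates -/
def swapEquiv {n : ℕ} (i j : Fin n) : (Fin n → S) ≃* (Fin n → S) :=
  { Equiv.arrowCongr (Equiv.swap i j) (Equiv.refl S) with
    map_mul' := fun _ _ => rfl }

theorem swapEquiv_apply {n : ℕ} (i j : Fin n) (x : Fin n → S) (k : Fin n) :
    swapEquiv i j x k = x (Equiv.swap i j k) := rfl

theorem swapEquiv_single {n : ℕ} (i j : Fin n) (s : S) :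
    swapEquiv i j (Pi.mulSingle i s) = Pi.mulSingle j s := by
  funext k
  rw [swapEquiv_apply]
  by_cases hk : k = j
  · subst hk; simp
  · rw [Pi.mulSingle_eq_of_ne hk, Pi.mulSingle_eq_of_ne]
    intro h
    apply hk
    have := congrArg (Equiv.swap i j) h
    rwa [Equiv.swap_apply_self, Equiv.swap_apply_left] at this

/-- a shear (abelian case) -/
def shear {n : ℕ} (hab : ∀ a b : S, a * b = b * a) {i j : Fin n} (hij : i ≠ j) : (Fin n → S) ≃* (Fin n → S) where
  toFun x := x * Pi.mulSingle j (x i)
  invFun x := x * Pi.mulSingle j (x i)⁻¹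
  left_inv x := by
    funext k
    by_cases hk : k = j
    · subst hk; simp [Pi.mulSingle_eq_of_ne hij, mul_assoc]
    · simp [Pi.mulSingle_eq_of_ne hk]
  right_inv x := by
    funext k
    by_cases hk : k = j
    · subst hk; simp [Pi.mulSingle_eq_of_ne hij, mul_assoc]
    · simp [Pi.mulSingle_eq_of_ne hk]
  map_mul' x y := by
    funext k
    by_cases hk : k = j
    · subst hk
      simp only [Pi.mul_apply, Pi.mulSingle_eq_same]
      rw [mul_assoc, mul_assoc]
      congr 1
      rw [← mul_assoc, ← mul_assoc, hab (y k) (x i)]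
    · simp [Pi.mulSingle_eq_of_ne hk]

theorem char_pow [IsSimpleGroup S] {n : ℕ} (H : Subgroup (Fin n → S)) (hH : H.Characteristic) :
    H = ⊥ ∨ H = ⊤ := by
  classical
  by_cases h0 : H = ⊥
  · exact Or.inl h0
  right
  haveI := hH
  haveI hN : H.Normal := inferInstance
  obtain ⟨⟨x, hx⟩, hx1'⟩ := Subgroup.ne_bot_iff_exists_ne_one.1 h0
  have hx1 : x ≠ 1 := fun h => hx1' (Subtype.ext h)
  obtain ⟨i, hi⟩ : ∃ i, x i ≠ 1 := by
    by_contra hn
    push Not at hn
    exact hx1 (funext hn)
  have hchar : ∀ (e : (Fin n → S) ≃* (Fin n → S)) (y : Fin n → S), y ∈ H → e y ∈ H := by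
    intro e y hy
    have := hH.fixed e
    rw [← this] at hy
    exact hy
  obtain ⟨j, t, ht, htH⟩ : ∃ (j : Fin n) (t : S), t ≠ 1 ∧ Pi.mulSingle j t ∈ H := by
    by_cases hab : IsMulCommutative S
    · have hab' : ∀ a b : S, a * b = b * a := fun a b => hab.is_comm.comm a b
      by_cases hn : ∃ j, i ≠ j
      · obtain ⟨j, hij⟩ := hn
        refine ⟨j, x i, hi, ?_⟩
        have h1 := H.mul_mem (H.inv_mem hx) (hchar (shear hab' hij) x hx)
        have h2 : x⁻¹ * shear hab' hij x = Pi.mulSingle j (x i) := by
          change x⁻¹ * (x * Pi.mulSingle j (x i)) = _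
          rw [inv_mul_cancel_left]
        rwa [h2] at h1
      · push Not at hn
        refine ⟨i, x i, hi, ?_⟩
        have : (Pi.mulSingle i (x i) : Fin n → S) = x := by
          funext k
          rw [← hn k]; simp
        rwa [this]
    · exact ⟨i, x i, hi, Cfsg.Agent.S5913.single_mem hab H hx hi (x i)⟩
  let K : Subgroup S := H.comap (MonoidHom.mulSingle (fun _ : Fin n => S) j)
  haveI hK : K.Normal := hN.comap _
  have hKt : K = ⊤ := by
    rcases hK.eq_bot_or_eq_top with h | h
    · exfalso
      have h1 : t ∈ K := htH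
      rw [h, Subgroup.mem_bot] at h1
      exact ht h1
    · exact h
  have hall : ∀ (k : Fin n) (s : S), Pi.mulSingle k s ∈ H := by
    intro k s
    have h1 : s ∈ K := by rw [hKt]; trivial
    have h2 := hchar (swapEquiv j k) _ h1
    rwa [show (MonoidHom.mulSingle (fun _ : Fin n => S) j) s = Pi.mulSingle j s from rfl, swapEquiv_single] at h2
  rw [eq_top_iff]
  intro y _
  have key : ∀ U : Finset (Fin n), (fun i => if i ∈ U then y i else 1) ∈ H := by
    intro U
    induction U using Finset.induction_on with
    | empty =>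
      have : (fun i : Fin n => if i ∈ (∅ : Finset (Fin n)) then y i else 1) = 1 := by funext i; simp
      rw [this]; exact H.one_mem
    | insert a U ha ih =>
      have h2 := H.mul_mem (hall a (y a)) ih
      convert h2 using 1
      funext k
      by_cases hk : k = a
      · subst hk; simp [ha]
      · simp [Pi.mulSingle_eq_of_ne hk, hk]
  have := key Finset.univ
  simpa using this

end

/-- A non-trivial finite group G is characteristically simple (its only characteristic subgroups are 1 and G) if and only if G is isomorphic to a direct power S^n (n ≥ 1) of some simple group S (possibly cyclic of prime order). -/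
theorem result {G : Type*} [Group G] [Finite G] [Nontrivial G] :
    (∀ H : Subgroup G, H.Characteristic → H = ⊥ ∨ H = ⊤) ↔
    ∃ (S : Type) (_ : Group S) (_ : IsSimpleGroup S) (n : ℕ), 1 ≤ n ∧ Nonempty (G ≃* (Fin n → S)) := by
  constructor
  · intro h
    let φ : MulAut G →* MulAut G := MonoidHom.id _
    let X := SemidirectProduct G (MulAut G) φ
    haveI : Finite X := Finite.of_equiv (G × MulAut G) SemidirectProduct.equivProd.symm
    let N : Subgroup X := (SemidirectProduct.inl : G →* X).range
    haveI hNn : N.Normal := by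
      change (SemidirectProduct.inl : G →* SemidirectProduct G (MulAut G) φ).range.Normal
      rw [SemidirectProduct.range_inl_eq_ker_rightHom]
      infer_instance
    have e : G ≃* N := MonoidHom.ofInjective SemidirectProduct.inl_injective
    have hN0 : N ≠ ⊥ := by
      intro h0
      obtain ⟨g, hg⟩ := exists_ne (1 : G)
      have : (SemidirectProduct.inl g : X) ∈ N := ⟨g, rfl⟩
      rw [h0, Subgroup.mem_bot] at this
      exact hg (SemidirectProduct.inl_injective (by rw [this, map_one]))
    have hmin : ∀ M : Subgroup X, M.Normal → M ≤ N → M = ⊥ ∨ M = N := by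
      intro M hM hMN
      let H : Subgroup G := M.comap SemidirectProduct.inl
      have hHc : H.Characteristic := by
        rw [Subgroup.characteristic_iff_comap_le]
        intro α x hx
        have h1 : (SemidirectProduct.inl (α x) : X) ∈ M := hx
        have h2 := hM.conj_mem _ h1 (SemidirectProduct.inr α⁻¹)
        have h3 : (SemidirectProduct.inr α⁻¹ * SemidirectProduct.inl (α x) * (SemidirectProduct.inr α⁻¹)⁻¹ : X) = SemidirectProduct.inl x := by
          rw [← map_inv, ← SemidirectProduct.inl_aut]
          congr 1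
          exact α.symm_apply_apply x
        rw [h3] at h2
        exact h2
      have hmap : M = H.map SemidirectProduct.inl := by
        apply le_antisymm
        · intro y hy
          obtain ⟨g, rfl⟩ := hMN hy
          exact ⟨g, hy, rfl⟩
        · rintro _ ⟨g, hg, rfl⟩; exact hg
      rcases h H hHc with h1 | h1
      · left; rw [hmap, h1, Subgroup.map_bot]
      · right; rw [hmap, h1, ← MonoidHom.range_eq_map]
    obtain ⟨T, hT, m, hs, hm, ⟨f⟩⟩ := Cfsg.Agent.S0721.result N hN0 hmin
    exact ⟨T, hT, hs, m, hm, ⟨e.trans f⟩⟩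
  · rintro ⟨S, _, _, n, hn, ⟨e⟩⟩ H hH
    have hH' : (H.map e.toMonoidHom).Characteristic := by
      rw [Subgroup.characteristic_iff_map_le]
      intro α
      rw [Subgroup.map_map]
      have h1 := (Subgroup.characteristic_iff_map_le.1 hH) ((e.trans α).trans e.symm)
      intro y hy
      obtain ⟨g, hg, rfl⟩ := hy
      refine ⟨e.symm (α (e g)), h1 ⟨g, hg, rfl⟩, ?_⟩
      simp
    rcases char_pow _ hH' with h | h
    · left
      rw [eq_bot_iff]
      intro x hx
      have : e x ∈ H.map e.toMonoidHom := ⟨x, hx, rfl⟩
      rw [h, Subgroup.mem_bot] at this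
      rw [Subgroup.mem_bot]
      exact e.injective (by rw [this, map_one])
    · right
      rw [eq_top_iff]
      intro x _
      have : e x ∈ H.map e.toMonoidHom := by rw [h]; trivial
      obtain ⟨y, hy, hxy⟩ := this
      rwa [← e.injective hxy]

end Cfsg.Agent.S5914
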