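import Cfsg.Statements.S5895
import Mathlib
import Cfsg.Agent.S5894
import Cfsg.Agent.S5914

set_option autoImplicit false
open Cfsg

namespace Cfsg.Agent.S5895

section
variable {N : Type} [Group N] [Finite N]

def Irr (A : Subgroup (MulAut N)) : Prop :=
  ∀ W : Subgroup N, (∀ a ∈ A, ∀ w ∈ W, a w ∈ W) → W = ⊥ ∨ W = ⊤

theorem comap_coatom {A B : Type*} [Group A] [Group B] (f : A →* B) (hf : Function.Surjective f) {S : Subgroup B}
    (hS : IsCoatom S) : IsCoatom (S.comap f) := by
  constructor
  · intro h
    apply hS.1
    rw [eq_top_iff]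
    intro b _
    obtain ⟨a, rfl⟩ := hf b
    have : a ∈ S.comap f := by rw [h]; trivial
    exact this
  · intro L hL
    have hker : f.ker ≤ L := by
      refine le_trans ?_ hL.le
      intro x hx
      change f x ∈ S
      rw [MonoidHom.mem_ker.1 hx]; exact S.one_mem
    have h1 : S < L.map f := by
      refine lt_of_le_of_ne ?_ ?_
      · intro b hb
        obtain ⟨a, rfl⟩ := hf b
        exact ⟨a, hL.le hb, rfl⟩
      · intro h
        apply hL.ne
        rw [h, Subgroup.comap_map_eq, sup_eq_left.2 hker]
    have h2 := hS.2 _ h1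
    rw [← sup_eq_left.2 hker, ← Subgroup.comap_map_eq, h2, Subgroup.comap_top]

end

/-- For every prime p and every d ≥ 2 there is a finite group G with a maximal subgroup M of index p^d and a maximal subgroup H of M that is not second maximal in G: some maximal subgroup K of G contains H without H being maximal in K. (One may take G the affine group V ⋊ GL(V) of V = 𝔽_p^d, M = GL(V), H the stabiliser in M of a line W of V, and K = V ⋊ H, with H < W ⋊ H < K.) So the prime-index hypothesis in the second-maximality criterion cannot be relaxed to prime-power index. -/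
theorem result (p d : ℕ) (hp : p.Prime)
    (hd : 2 ≤ d) :
    ∃ (G : Type) (_ : Group G) (_ : Finite G) (M H K : Subgroup G), IsCoatom M ∧ M.index = p ^ d ∧ H ≤ M ∧
      IsCoatom (H.subgroupOf M) ∧ IsCoatom K ∧ H ≤ K ∧ ¬ IsCoatom (H.subgroupOf K) := by
  classical
  haveI := Fact.mk hp
  haveI : IsSimpleGroup (Multiplicative (ZMod p)) := by
    haveI : Fact (Nat.card (Multiplicative (ZMod p))).Prime := ⟨by
      rw [Nat.card_congr Multiplicative.toAdd, Nat.card_zmod]; exact hp⟩
    exact isSimpleGroup_of_prime_card rfl
  let N := Fin d → Multiplicative (ZMod p)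
  have hNcard : Nat.card N = p ^ d := by
    rw [Nat.card_fun, Nat.card_fin, Nat.card_congr Multiplicative.toAdd, Nat.card_zmod]
  haveI : Finite N := inferInstanceAs (Finite (Fin d → Multiplicative (ZMod p)))
  haveI : Finite (MulAut N) := inferInstance
  -- the full automorphism group is irreducible
  have htop : Irr (⊤ : Subgroup (MulAut N)) := by
    intro W hW
    apply Cfsg.Agent.S5914.char_pow W
    rw [Subgroup.characteristic_iff_map_le]
    rintro e _ ⟨w, hw, rfl⟩
    exact hW e trivial w hw
  obtain ⟨A, hAirr, hAmin⟩ := exists_minimal_of_wellFoundedLT (fun A : Subgroup (MulAut N) => Irr A) ⟨⊤, htop⟩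
  have hNnt : 1 < Nat.card N := by rw [hNcard]; exact Nat.one_lt_pow (by omega) hp.one_lt
  haveI hNn : Nontrivial N := Finite.one_lt_card_iff_nontrivial.1 hNnt
  have hA0 : A ≠ ⊥ := by
    rintro rfl
    obtain ⟨x, hx⟩ := exists_prime_orderOf_dvd_card' (G := N) p (by rw [hNcard]; exact dvd_pow_self p (by omega))
    have hW := hAirr (Subgroup.zpowers x) (by
      intro a ha w hw
      rw [Subgroup.mem_bot] at ha
      rw [ha]; exact hw)
    have hcz : Nat.card (Subgroup.zpowers x) = p := by rw [Nat.card_zpowers, hx]
    rcases hW with h | h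
    · rw [h, Subgroup.card_bot] at hcz; exact hp.one_lt.ne hcz
    · rw [h, Subgroup.card_top, hNcard] at hcz
      have : p ^ 1 < p ^ d := Nat.pow_lt_pow_right hp.one_lt (by omega)
      rw [pow_one] at this; omega
  haveI hAnt : Nontrivial A := (Subgroup.nontrivial_iff_ne_bot A).2 hA0
  obtain ⟨B, hB, -⟩ := (eq_top_or_exists_le_coatom (⊥ : Subgroup A)).resolve_left bot_ne_top
  -- B is reducible
  have hBred : ¬ Irr (B.map A.subtype) := by
    intro hirr
    have h1 := hAmin hirr (Subgroup.map_subtype_le B)
    apply hB.1
    rw [eq_top_iff]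
    intro a _
    obtain ⟨b, hb, hba⟩ := h1 a.2
    rwa [← Subtype.ext hba]
  unfold Irr at hBred
  push Not at hBred
  obtain ⟨W, hWB, hW0, hW1⟩ := hBred
  let φ : A →* MulAut N := A.subtype
  let G := SemidirectProduct N A φ
  haveI : Finite G := Finite.of_equiv (N × A) SemidirectProduct.equivProd.symm
  let iA : A →* G := SemidirectProduct.inr
  have hiA : Function.Injective iA := SemidirectProduct.inr_injective
  let π : G →* A := SemidirectProduct.rightHom
  have hπ : Function.Surjective π := SemidirectProduct.rightHom_surjective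
  let K : Subgroup G := B.comap π
  let P : Subgroup G :=
    { carrier := {g | g.left ∈ W ∧ g.right ∈ B}
      mul_mem' := by
        intro g h hg hh
        refine ⟨?_, B.mul_mem hg.2 hh.2⟩
        rw [SemidirectProduct.mul_left]
        exact W.mul_mem hg.1 (hWB _ ⟨g.right, hg.2, rfl⟩ _ hh.1)
      one_mem' := ⟨W.one_mem, B.one_mem⟩
      inv_mem' := by
        intro g hg
        refine ⟨?_, B.inv_mem hg.2⟩
        rw [SemidirectProduct.inv_left]
        exact hWB _ ⟨g.right⁻¹, B.inv_mem hg.2, rfl⟩ _ (W.inv_mem hg.1) }
  refine ⟨G, inferInstance, inferInstance, iA.range, B.map iA, K, ?_, ?_, ?_, ?_, ?_, ?_, ?_⟩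
  · constructor
    · intro h
      obtain ⟨n, hn⟩ := exists_ne (1 : N)
      have h1 : (SemidirectProduct.inl n : G) ∈ iA.range := by rw [h]; trivial
      obtain ⟨a, ha⟩ := h1
      have h2 := congrArg SemidirectProduct.left ha
      rw [SemidirectProduct.left_inl] at h2
      exact hn (h2.symm.trans (SemidirectProduct.left_inr _))
    · intro L hL
      let WL : Subgroup N := L.comap SemidirectProduct.inl
      have hdec : ∀ g : G, g ∈ L → (SemidirectProduct.inl g.left : G) ∈ L := by
        intro g hg
        have h1 : (SemidirectProduct.inl g.left : G) = g * (iA g.right)⁻¹ := by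
          rw [eq_mul_inv_iff_mul_eq]; exact SemidirectProduct.inl_left_mul_inr_right g
        rw [h1]
        exact L.mul_mem hg (L.inv_mem (hL.le ⟨g.right, rfl⟩))
      rcases hAirr WL (by
        intro a ha w hw
        have h1 : iA ⟨a, ha⟩ ∈ L := hL.le ⟨_, rfl⟩
        have h2 := L.mul_mem (L.mul_mem h1 hw) (L.inv_mem h1)
        have h3 : iA ⟨a, ha⟩ * SemidirectProduct.inl w * (iA ⟨a, ha⟩)⁻¹ = SemidirectProduct.inl (a w) := by
          rw [← map_inv, ← SemidirectProduct.inl_aut]; rfl
        rw [h3] at h2
        exact h2) with h | h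
      · exfalso
        apply hL.not_ge
        intro g hg
        have h1 : g.left ∈ WL := hdec g hg
        rw [h, Subgroup.mem_bot] at h1
        exact ⟨g.right, by
          apply SemidirectProduct.ext
          · rw [h1]; exact SemidirectProduct.left_inr _
          · exact SemidirectProduct.right_inr _⟩
      · rw [eq_top_iff]
        intro g _
        have h1 : g.left ∈ WL := by rw [h]; trivial
        have h2 : (SemidirectProduct.inl g.left : G) ∈ L := h1
        rw [← SemidirectProduct.inl_left_mul_inr_right g]
        exact L.mul_mem h2 (hL.le ⟨_, rfl⟩)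
  · have h1 : Nat.card G = Nat.card N * Nat.card A := by
      rw [← Nat.card_prod]; exact Nat.card_congr SemidirectProduct.equivProd
    have h2 : Nat.card iA.range = Nat.card A := (Nat.card_congr (MonoidHom.ofInjective hiA).toEquiv).symm
    have h3 := Subgroup.card_mul_index iA.range
    rw [h1, h2, hNcard, mul_comm (p ^ d)] at h3
    exact Nat.eq_of_mul_eq_mul_left Nat.card_pos h3
  · exact Subgroup.map_le_range _ _
  · exact Cfsg.Agent.S5894.coatom_map iA hiA hB
  · exact comap_coatom π hπ hB
  · rintro _ ⟨b, hb, rfl⟩
    change π (iA b) ∈ B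
    rw [show π (iA b) = b from SemidirectProduct.rightHom_inr b]; exact hb
  · intro hco
    have hHP : B.map iA < P := by
      refine lt_of_le_of_ne ?_ ?_
      · rintro _ ⟨b, hb, rfl⟩
        exact ⟨by rw [show (iA b).left = 1 from SemidirectProduct.left_inr _]; exact W.one_mem, hb⟩
      · intro h
        apply hW0
        rw [eq_bot_iff]
        intro w hw
        have h1 : (SemidirectProduct.inl w : G) ∈ P := ⟨hw, B.one_mem⟩
        rw [← h] at h1
        obtain ⟨b, hb, hbw⟩ := h1
        have h2 := congrArg SemidirectProduct.left hbw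
        rw [SemidirectProduct.left_inl, show (iA b).left = 1 from SemidirectProduct.left_inr _] at h2
        rw [Subgroup.mem_bot, ← h2]
    have hPK : P ≤ K := fun g hg => hg.2
    have hPK' : P ≠ K := by
      intro h
      apply hW1
      rw [eq_top_iff]
      intro w _
      have h1 : (SemidirectProduct.inl w : G) ∈ K := by
        change π (SemidirectProduct.inl w) ∈ B
        rw [show π (SemidirectProduct.inl w) = 1 from SemidirectProduct.rightHom_inl w]; exact B.one_mem
      rw [← h] at h1
      exact h1.1
    have h3 := hco.2 (P.subgroupOf K) (by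
      refine lt_of_le_of_ne (Subgroup.comap_mono hHP.le) ?_
      intro h
      apply hHP.ne
      have h4 := congrArg (Subgroup.map K.subtype) h
      rw [Subgroup.subgroupOf_map_subtype, Subgroup.subgroupOf_map_subtype, inf_eq_left.2 hPK,
        inf_eq_left.2 (hHP.le.trans hPK)] at h4
      exact h4)
    rw [Subgroup.subgroupOf_eq_top] at h3
    exact hPK' (le_antisymm hPK h3)

end Cfsg.Agent.S5895
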